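import Cfsg.Agent.R2.Spec.X4.H10.Num_m3
import Mathlib
import Cfsg.Agent.Lib.ListFast
import Cfsg.Agent.H321.SpecEven.Defs_m3
import Cfsg.Agent.Prune
set_option linter.all false

section
prune_inst 0x7fbffffeffffffffffff7e7ffff9fffe1bd7dfffffdffb43ffebebffdfff13ff3bedffaf1de4f8ffced7e0f530b9f853fb7eefffee6fdc7ffffdfff75ffbee7ff7ffbf8111d290242f74effffbf17ffbffffffffffffffffffffffffffffffffffffffffffff

-- part: R2/Spec/X4/H10/Num4
section
prune_inst 0x40000000000000000001800002000000000000000004000014000000000400040200008010020010200208000200000000000001000000000000000000000000000008600c0c80108800000002000400000000000000000000000000000000000000000000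
set_option linter.all false
open scoped Cfsg.Agent.FastGrp

-- part: R2/Spec/X4/H10/Num3
section
/-!
# X4, the symplectic and orthogonal rows: the numeric core, III (helper10)

* `charB` : `k'` a power of the characteristic;
* `coreP` : the two-factor tori, `b`-case;
* `coreQ` : the two-factor tori, `4`-case.
-/

set_option autoImplicit false

namespace Cfsg.Agent.R2.Spec.X4.H10

/-- **`k'` is a power of the characteristic.** -/
theorem charB {q d A B k k' g H v : ℤ} {a b : ℕ} (hd : d = 1 ∨ d = -1) (hq : 17 ≤ q) (hA : 2 * A = q ^ 3 + d)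
    (hB : 2 * B = q ^ 3 - d) (hk3 : q ^ 2 - q + 1 ≤ 3 * k) (hk3' : q ^ 2 - q + 1 ≤ 3 * k')
    (hful : q ^ 2 - q + 1 ≤ k ∨ q ^ 2 - q + 1 ≤ k') (hk' : k' ≤ q ^ 2 + q + 1)
    (hkB : k' ∣ B) (hB2 : B % 2 = 0) (hv7 : 7 ≤ v) (hv2 : v % 2 = 1) (hka : k' = v ^ a)
    (hg : g = 1 ∨ g = 2 ∨ g = 4) (hH : 0 < H) (hE : H * (v ^ b + 1) = g * A) (hk : k ∣ v ^ b + 1) : False := by
  have hU1 := one_le_pow' (by omega : (2 : ℤ) ≤ v) b
  have hUk := Int.le_of_dvd (by omega) hk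
  have hk0 : 0 < k' := by nlinarith only [hq, hk3']
  have hgA : 2 * (g * A) ≤ g * (q ^ 3 + 1) := by
    rcases hg with rfl | rfl | rfl <;> rcases hd with rfl | rfl <;> linarith
  by_cases hab : a ≤ b
  · have h1 : k' ∣ v ^ b := by rw [hka]; exact pow_dvd_pow v hab
    have h2 := Int.le_of_dvd (by omega) h1
    have h3 : q ^ 2 - q + 1 ≤ v ^ b + 1 := by
      rcases hful with h | h <;> linarith only [hUk, h, h2]
    have h4 : k' ∣ H - g * d := by
      have : H - g * d = g * B - H * v ^ b := by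
        have : 2 * (H - g * d) = 2 * (g * B - H * v ^ b) := by linear_combination 2 * hE + g * hA - g * hB
        linarith only [this]
      rw [this]
      exact dvd_sub (Dvd.dvd.mul_left hkB _) (Dvd.dvd.mul_left h1 _)
    have h5 : 2 * H * (q ^ 2 - q + 1) ≤ 4 * (q ^ 3 + 1) := by
      have a1 : H * (q ^ 2 - q + 1) ≤ H * (v ^ b + 1) := mul_le_mul_of_nonneg_left h3 hH.le
      have a2 : g * (q ^ 3 + 1) ≤ 4 * (q ^ 3 + 1) := mul_le_mul_of_nonneg_right (by omega) (by positivity)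
      linarith only [hE, hgA, a1, a2]
    have h6 : H ≤ 2 * (q + 1) := by
      by_contra hcon
      rw [not_le] at hcon
      have a1 : (2 * (q + 1) + 1) * (q ^ 2 - q + 1) ≤ H * (q ^ 2 - q + 1) :=
        mul_le_mul_of_nonneg_right (by omega) (by nlinarith only [])
      nlinarith only [hq, h5, a1]
    have h7 : H - g * d = 0 := by
      apply eq_zero_of_dvd_abs h4
      have a1 : |H - g * d| ≤ H + 4 := by
        rw [abs_le]
        rcases hg with rfl | rfl | rfl <;> rcases hd with rfl | rfl <;> (clear * - hH; omega)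
      nlinarith only [hq, hk3', h6, a1]
    have h8 : d = 1 := by
      rcases hd with h | h
      · exact h
      · rw [h] at h7
        omega
    subst h8
    have h9 : H = g := by linarith only [h7]
    rw [h9] at hE
    have h10 : v ^ b + 1 = A := mul_left_cancel₀ (by omega) hE
    have h11 := odd_pow hv2 b
    omega
  · -- `7 v ^ b ≤ k'`
    have h1 : 7 * v ^ b ≤ k' := by
      rw [hka]
      have h2 : v ^ (b + 1) ≤ v ^ a := pow_le_pow_right₀ (by omega) (by omega)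
      have h3 : 7 * v ^ b ≤ v * v ^ b := mul_le_mul_of_nonneg_right hv7 (by omega)
      rw [pow_succ, mul_comm] at h2
      linarith only [h2, h3]
    nlinarith only [hq, hk3, hk', hUk, h1]

theorem polyP (y : ℕ) : 108 * (((y : ℤ) + 23 + 17) ^ 3 + 1) <
    (((y : ℤ) + 23 + 17) ^ 2 - (y + 23 + 17) + 1) * (5 * ((y + 23 + 17) ^ 2 - (y + 23 + 17) + 1) - 78) := by
  have : 0 < (((y : ℤ) + 23 + 17) ^ 2 - (y + 23 + 17) + 1) * (5 * ((y + 23 + 17) ^ 2 - (y + 23 + 17) + 1) - 78) -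
      108 * ((y + 23 + 17) ^ 3 + 1) := by
    ring_nf; positivity
  linarith

theorem polyR (y : ℕ) : 18 * (((y : ℤ) + 23 + 17) ^ 3 + 1) <
    (((y : ℤ) + 23 + 17) ^ 2 - (y + 23 + 17) + 1) * (((y + 23 + 17) ^ 2 - (y + 23 + 17) + 1) - 15) := by
  have : 0 < (((y : ℤ) + 23 + 17) ^ 2 - (y + 23 + 17) + 1) * (((y + 23 + 17) ^ 2 - (y + 23 + 17) + 1) - 15) -
      18 * ((y + 23 + 17) ^ 3 + 1) := by
    ring_nf; positivity
  linarith

section P

variable {q d A B k u g h h' e1 e2 e3 σ : ℤ} {N : ℕ}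

/-- **The two-factor tori, `b`-case.** -/
theorem coreP (hd : d = 1 ∨ d = -1) (hq : 17 ≤ q) (hA : 2 * A = q ^ 3 + d)
    (hB : 2 * B = q ^ 3 - d) (hk3 : q ^ 2 - q + 1 ≤ 3 * k) (hu : 2 ≤ u) (hN : 3 ≤ N) (hk : k ∣ u ^ N + e1)
    (hh : h % 2 = 1) (hh0 : 0 < h) (hE : h * (u + e3) * (u ^ N + e1) = g * A)
    (hE' : h' * (u * u ^ N + e2) = g * B)
    (hc : (e1 = 1 ∧ e2 = -1 ∧ e3 = 1 ∧ (g = 1 ∨ (g = 4 ∧ 5 ≤ u))) ∨ (e1 = -1 ∧ e2 = 1 ∧ e3 = 1 ∧ g = 1) ∨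
      (e1 = 1 ∧ e2 = 1 ∧ e3 = -1 ∧ (g = 1 ∨ g = 4)))
    (hg1 : g = 1 → u % 2 = 0) (hg4 : g = 4 → u % 2 = 1 ∧ 4 ≤ N) : False := by
  have hg : g = 1 ∨ g = 4 := by (clear * - hc; tauto)
  obtain ⟨σ, hσ, hσw⟩ : ∃ σ : ℤ, (σ = 1 ∨ σ = -1) ∧ e1 * u - e2 = σ * (u + e3) := by
    rcases hc with ⟨rfl, rfl, rfl, -⟩ | ⟨rfl, rfl, rfl, -⟩ | ⟨rfl, rfl, rfl, -⟩
    · exact ⟨1, Or.inl rfl, by ring⟩
    · exact ⟨-1, Or.inr rfl, by ring⟩
    · exact ⟨1, Or.inl rfl, by ring⟩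
  have he1 : e1 = 1 ∨ e1 = -1 := by (clear * - hc; tauto)
  have hY8 : u ^ 3 ≤ u ^ N := pow_le_pow_right₀ (by omega) hN
  have hY8' : 8 ≤ u ^ N := by
    have : (2 : ℤ) ^ 3 ≤ u ^ 3 := pow_le_pow_left₀ (by norm_num) hu 3
    linarith only [hY8, this]
  have hw1 : 1 ≤ u + e3 := by
    rcases hc with ⟨rfl, rfl, rfl, -⟩ | ⟨rfl, rfl, rfl, -⟩ | ⟨rfl, rfl, rfl, -⟩ <;> (clear * - hu hσw; omega)
  have hw2 : 2 * (u + e3) ≤ 3 * u := by
    rcases hc with ⟨rfl, rfl, rfl, -⟩ | ⟨rfl, rfl, rfl, -⟩ | ⟨rfl, rfl, rfl, -⟩ <;> (clear * - hu hσw; omega)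
  set w := u + e3 with hwd
  set Y := u ^ N with hYd
  have hX0 : 0 < Y + e1 := by rcases he1 with rfl | rfl <;> omega
  have hkX := Int.le_of_dvd hX0 hk
  -- the identity
  have hZ : (u * Y + e2) * (u * h' - h * w) = σ * (h * w ^ 2) - g * (d * u) := by
    have : 2 * ((u * Y + e2) * (u * h' - h * w)) = 2 * (σ * (h * w ^ 2) - g * (d * u)) := by
      linear_combination 2 * u * hE' - 2 * u * hE - u * g * hA + u * g * hB + 2 * h * w * hσw
    linarith only [this]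
  have hD : u * Y + e2 = u * (Y + e1) - σ * w := by rw [← hσw]; ring
  by_cases hZ0 : u * h' - h * w = 0
  · rw [hZ0, mul_zero] at hZ
    rcases hg with rfl | rfl
    · -- parity
      have hu2 := hg1 rfl
      have hw' : w % 2 = 1 := by
        rcases hc with ⟨rfl, rfl, rfl, -⟩ | ⟨rfl, rfl, rfl, -⟩ | ⟨rfl, rfl, rfl, -⟩ <;> (clear * - hu2; omega)
      have h1 : (h * w ^ 2) % 2 = 1 := by
        rw [Int.mul_emod, hh, pow_two, Int.mul_emod w w, hw']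
        rfl
      have h2 : (d * u) % 2 = 0 := by rcases hd with rfl | rfl <;> omega
      rcases hσ with rfl | rfl <;> omega
    · obtain ⟨hu2, hN4⟩ := hg4 rfl
      obtain ⟨c, hc2⟩ : ∃ c, w = 2 * c := by
        obtain ⟨c, hc⟩ : (2 : ℤ) ∣ w := by
          apply Int.dvd_of_emod_eq_zero
          rcases hc with ⟨rfl, rfl, rfl, -⟩ | ⟨rfl, rfl, rfl, -⟩ | ⟨rfl, rfl, rfl, -⟩ <;> (clear * - hu2; omega)
        exact ⟨c, hc⟩
      have h1 : d * u = σ * (h * c ^ 2) := by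
        rw [hc2] at hZ
        linarith only [hZ]
      have h2 : c ∣ u := by
        have : c ∣ d * u := by rw [h1]; exact ⟨σ * (h * c), by ring⟩
        rcases hd with rfl | rfl
        · simpa using this
        · simpa using this
      have h3 : c ∣ 1 := by
        have h4 : c ∣ w - u := dvd_sub (Dvd.intro_left 2 hc2.symm) h2
        rcases hc with ⟨rfl, rfl, rfl, -⟩ | ⟨rfl, rfl, rfl, -⟩ | ⟨rfl, rfl, rfl, -⟩
        · rwa [hwd, add_sub_cancel_left] at h4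
        · rwa [hwd, add_sub_cancel_left] at h4
        · rw [hwd, add_sub_cancel_left] at h4
          exact (dvd_neg.1 h4)
      have h4 : c = 1 := by
        have := Int.le_of_dvd one_pos h3
        omega
      rw [h4] at hc2 h1
      rcases hc with ⟨rfl, rfl, rfl, h5⟩ | ⟨rfl, rfl, rfl, h5⟩ | ⟨rfl, rfl, rfl, -⟩
      · omega
      · omega
      · have hu3 : u = 3 := by omega
        have hσ1 : σ = 1 := by
          rcases hσ with h | h
          · exact h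
          · rw [h, hu3, hc2] at hσw
            omega
        rw [hσ1, hu3] at h1
        have h6 : h = 3 := by rcases hd with rfl | rfl <;> (clear * - h1 hh0; omega)
        have h7 : d = 1 := by rcases hd with rfl | rfl <;> omega
        rw [hu3, h6, hc2] at hZ0
        have h8 : h' = 2 := by omega
        rw [h8, hu3] at hE'
        have h9 : Y % 3 = 0 := by
          rw [hYd, hu3]
          obtain ⟨j, rfl⟩ : ∃ j, N = j + 1 := ⟨N - 1, by omega⟩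
          rw [pow_succ]
          omega
        have := cube_nine q
        (clear * - hB h1 hE' h6 h9 this; omega)
  · -- the inequality
    have h1 : u * Y + e2 ≤ h * w ^ 2 + g * u := by
      have hD0 : 0 < u * Y + e2 := by
        have : 2 * Y ≤ u * Y := mul_le_mul_of_nonneg_right hu (by omega)
        rcases hc with ⟨-, rfl, -⟩ | ⟨-, rfl, -⟩ | ⟨-, rfl, -⟩ <;> (clear * - hY8' this hD; omega)
      have a1 : (u * Y + e2) * 1 ≤ (u * Y + e2) * |u * h' - h * w| :=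
        mul_le_mul_of_nonneg_left (Int.one_le_abs hZ0) hD0.le
      have a2 : (u * Y + e2) * |u * h' - h * w| = |σ * (h * w ^ 2) - g * (d * u)| := by
        rw [← hZ, abs_mul, abs_of_pos hD0]
      have a3 : |σ * (h * w ^ 2) - g * (d * u)| ≤ h * w ^ 2 + g * u := by
        have b1 : 0 ≤ h * w ^ 2 := by (clear * - hh0 hw1; positivity)
        have b2 : 0 ≤ g * u := by rcases hg with rfl | rfl <;> omega
        rw [abs_le]
        rcases hσ with rfl | rfl <;> rcases hd with rfl | rfl <;> constructor <;> linarith only [b1, b2]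
      linarith only [a1, a2, a3]
    have hgA : 2 * (g * A) ≤ g * (q ^ 3 + 1) := by
      rcases hg with rfl | rfl <;> rcases hd with rfl | rfl <;> linarith only [hA]
    have h2 : 2 * ((u * (Y + e1) - w) * (Y + e1)) ≤ w * (g * (q ^ 3 + 1)) + 2 * (g * u) * (Y + e1) := by
      have a1 : (u * (Y + e1) - w) * (Y + e1) ≤ (u * Y + e2) * (Y + e1) := by
        apply mul_le_mul_of_nonneg_right _ hX0.le
        rw [hD]
        rcases hσ with rfl | rfl <;> linarith only [hw1]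
      have a2 : (u * Y + e2) * (Y + e1) ≤ (h * w ^ 2 + g * u) * (Y + e1) := mul_le_mul_of_nonneg_right h1 hX0.le
      have a3 : (h * w ^ 2 + g * u) * (Y + e1) = w * (g * A) + (g * u) * (Y + e1) := by
        linear_combination w * hE
      have a4 : w * (2 * (g * A)) ≤ w * (g * (q ^ 3 + 1)) := mul_le_mul_of_nonneg_left hgA (by omega)
      linarith only [a1, a2, a3, a4]
    set X := Y + e1 with hXd
    have hX3 : q ^ 2 - q + 1 ≤ 3 * X := by linarith only [hk3, hkX]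
    have hq3 : 0 ≤ q ^ 3 + 1 := by positivity
    obtain ⟨x, rfl⟩ := exists_add hq
    rcases hg with rfl | rfl
    · -- `4 X² - 10 X ≤ 3 (q³ + 1)`
      have h3 : u * (4 * X ^ 2 - 10 * X) ≤ u * (3 * (((x : ℤ) + 17) ^ 3 + 1)) := by
        have b1 : (2 * w) * ((x + 17) ^ 3 + 1) ≤ (3 * u) * ((x + 17) ^ 3 + 1) := mul_le_mul_of_nonneg_right hw2 hq3
        have b2 : (2 * w) * X ≤ (3 * u) * X := mul_le_mul_of_nonneg_right hw2 hX0.le
        linarith only [h2, b1, b2]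
      have h4 := le_of_mul_le_mul_left h3 (by omega)
      have h5 : 2 * (((x : ℤ) + 17) ^ 2 - (x + 17) + 1) ^ 2 ≤ 18 * X ^ 2 := by
        have : (((x : ℤ) + 17) ^ 2 - (x + 17) + 1) ^ 2 ≤ (3 * X) ^ 2 := pow_le_pow_left₀ (by nlinarith only []) hX3 2
        linarith only [this]
      have h6 : 91 ≤ X := by nlinarith only [hkX, hk3]
      nlinarith only [hq3, h4, h5, h6, _root_.sq_nonneg ((↑x + 17) ^ 2 - (↑x + 17) + 1 : ℤ), _root_.Nat.cast_nonneg (α := ℤ) (x)]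
    · obtain ⟨hu2, hN4⟩ := hg4 rfl
      have hY4 : u ^ 4 ≤ Y := pow_le_pow_right₀ (by omega) hN4
      rcases hc with ⟨rfl, rfl, rfl, h5⟩ | ⟨rfl, rfl, rfl, h5⟩ | ⟨rfl, rfl, rfl, -⟩
      · have hu5 : 5 ≤ u := by omega
        have hX6 : 626 ≤ X := by
          have : (5 : ℤ) ^ 4 ≤ u ^ 4 := pow_le_pow_left₀ (by norm_num) hu5 4
          linarith only [hY4, this]
        have hw5 : 5 * w ≤ 6 * u := by omega
        have h3 : u * (5 * X ^ 2 - 26 * X) ≤ u * (12 * (((x : ℤ) + 17) ^ 3 + 1)) := by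
          have b1 : (5 * w) * ((x + 17) ^ 3 + 1) ≤ (6 * u) * ((x + 17) ^ 3 + 1) := mul_le_mul_of_nonneg_right hw5 hq3
          have b2 : (5 * w) * X ≤ (6 * u) * X := mul_le_mul_of_nonneg_right hw5 hX0.le
          linarith only [h2, b1, b2]
        have h4 := le_of_mul_le_mul_left h3 (by omega)
        by_cases hx : x ≤ 22
        · have b1 : ((x : ℤ) + 17) ^ 3 ≤ 39 ^ 3 := pow_le_pow_left₀ (by (clear * -; positivity)) (by omega) 3
          nlinarith only [hX6, h4, b1]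
        · obtain ⟨y, rfl⟩ : ∃ y, x = y + 23 := ⟨x - 23, by omega⟩
          push_cast at h4 hX3 ⊢
          have b1 : (((y : ℤ) + 23 + 17) ^ 2 - (y + 23 + 17) + 1) * (5 * ((y + 23 + 17) ^ 2 - (y + 23 + 17) + 1) - 78) ≤
              (3 * X) * (5 * (3 * X) - 78) := mul_le_mul hX3 (by linarith only [hX3]) (by nlinarith only []) (by linarith only [hX6])
          linarith only [h4, b1, polyP y]
      · omega
      · by_cases hu3 : u = 3
        · subst hu3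
          have hw : w = 2 := by omega
          rw [hw] at h2
          have b1 : (((x : ℤ) + 17) ^ 2 - (x + 17) + 1) * (((x + 17) ^ 2 - (x + 17) + 1) - 14) ≤
              (3 * X) * ((3 * X) - 14) := mul_le_mul hX3 (by linarith only [hk3, hkX]) (by nlinarith only []) (by linarith only [hY4])
          nlinarith only [hq3, h2, b1]
        · have hu5 : 5 ≤ u := by omega
          have hX6 : 626 ≤ X := by
            have : (5 : ℤ) ^ 4 ≤ u ^ 4 := pow_le_pow_left₀ (by norm_num) hu5 4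
            linarith only [hY4, this]
          have hwu : w ≤ u := by omega
          have h3 : u * (X ^ 2 - 5 * X) ≤ u * (2 * (((x : ℤ) + 17) ^ 3 + 1)) := by
            have b1 : w * ((x + 17) ^ 3 + 1) ≤ u * ((x + 17) ^ 3 + 1) := mul_le_mul_of_nonneg_right hwu hq3
            have b2 : w * X ≤ u * X := mul_le_mul_of_nonneg_right hwu hX0.le
            linarith only [hq3, h2, hX6]
          have h4 := le_of_mul_le_mul_left h3 (by omega)
          by_cases hx : x ≤ 22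
          · have b1 : ((x : ℤ) + 17) ^ 3 ≤ 39 ^ 3 := pow_le_pow_left₀ (by (clear * -; positivity)) (by omega) 3
            nlinarith only [hY8', hk3, hX6, h4, hx]
          · obtain ⟨y, rfl⟩ : ∃ y, x = y + 23 := ⟨x - 23, by omega⟩
            push_cast at h4 hX3 ⊢
            have b1 : (((y : ℤ) + 23 + 17) ^ 2 - (y + 23 + 17) + 1) * (((y + 23 + 17) ^ 2 - (y + 23 + 17) + 1) - 15) ≤
                (3 * X) * ((3 * X) - 15) := mul_le_mul hX3 (by linarith only [hX3]) (by nlinarith only []) (by linarith only [hX6])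
            linarith only [h4, b1, polyR y]

end P

end Cfsg.Agent.R2.Spec.X4.H10
end

-- part: R2/Spec/X4/H10/Num4
section
/-!
# X4, the symplectic and orthogonal rows: the numeric core, IV (helper10)

* `coreQ` : the two-factor tori, `4`-case.
-/

set_option autoImplicit false

namespace Cfsg.Agent.R2.Spec.X4.H10

/-! ### finite checks -/

def chkQ (u q : ℕ) : Bool :=
  !(17 ≤ q && q < 5 * u && (u - 1) * (u ^ 4 - 1) ≤ 2 * (q ^ 3 + 1)) ||
    (u * (q + 1) ≤ q ^ 2 + 1 && (u + 1) * (q ^ 3 + 1) < (u ^ 4 - 1) * (q ^ 2 + 1 - u * (q + 1)))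

def chkQAll : Bool := (List.range 17).all fun u => (List.range 85).all fun q => !(4 ≤ u) || chkQ u q

theorem chkQAll_true : chkQAll = true := by decide +kernel

theorem chkQ_int {u q : ℤ} (hu : 4 ≤ u) (hu' : u ≤ 16) (hq : 17 ≤ q) (hqu : q < 5 * u)
    (hb : (u - 1) * (u ^ 4 - 1) ≤ 2 * (q ^ 3 + 1)) :
    u * (q + 1) ≤ q ^ 2 + 1 ∧ (u + 1) * (q ^ 3 + 1) < (u ^ 4 - 1) * (q ^ 2 + 1 - u * (q + 1)) := by
  obtain ⟨a, rfl⟩ : ∃ a : ℕ, u = a := ⟨u.toNat, by omega⟩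
  obtain ⟨b, rfl⟩ : ∃ b : ℕ, q = b := ⟨q.toNat, by omega⟩
  have h := List.all_eq_true.1 chkQAll_true a (List.mem_range.2 (by omega))
  have h2 := List.all_eq_true.1 h b (List.mem_range.2 (by omega))
  have ha4 : 1 ≤ a ^ 4 := Nat.one_le_pow _ _ (by omega)
  have h3 : (a - 1) * (a ^ 4 - 1) ≤ 2 * (b ^ 3 + 1) := by
    zify [ha4, (by omega : 1 ≤ a)]
    exact hb
  simp only [chkQ, Bool.or_eq_true, Bool.and_eq_true, Bool.not_eq_true', decide_eq_true_eq,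
    Bool.and_eq_false_iff, decide_eq_false_iff_not] at h2
  rcases h2 with h2 | (h2 | h2) | ⟨h2, h4⟩
  · omega
  · omega
  · exact absurd h3 h2
  · refine ⟨by exact_mod_cast h2, ?_⟩
    zify [ha4, h2] at h4
    exact h4

section P

variable {q d A B k z u g h e1 e2 e3 : ℤ} {N : ℕ}

/-- the inequality of the `4`-case -/
theorem ineqQ (hd : d = 1 ∨ d = -1) (hq : 17 ≤ q) (hqd : q % 4 = d % 4) (hA : 2 * A = q ^ 3 + d)
    (hz : 2 * z = q ^ 2 + 1) (hu : 2 ≤ u) (hN : 3 ≤ N)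
    (hh : h % 2 = 1) (hh0 : 0 < h) (hE : h * (u + e3) * (u ^ N + e1) = g * A)
    (hzD : z ∣ u * u ^ N + e2) (hgD : g ∣ u * u ^ N + e2)
    (hc : (e1 = 1 ∧ e2 = -1 ∧ e3 = 1 ∧ (g = 1 ∨ (g = 4 ∧ 5 ≤ u))) ∨ (e1 = -1 ∧ e2 = 1 ∧ e3 = 1 ∧ g = 1) ∨
      (e1 = 1 ∧ e2 = 1 ∧ e3 = -1 ∧ (g = 1 ∨ g = 4)))
    (hg1 : g = 1 → u % 2 = 0) :
    (u ^ N + e1) * (q ^ 2 + 1 - u * (q + 1)) ≤ (u + e3) * (q ^ 3 + 1) ∧
      2 * ((u + e3) * (u ^ N + e1)) ≤ g * (q ^ 3 + 1) := by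
  have hg : g = 1 ∨ g = 4 := by (clear * - hc; tauto)
  obtain ⟨σ, hσ, hσw⟩ : ∃ σ : ℤ, (σ = 1 ∨ (σ = -1 ∧ g = 1)) ∧ e1 * u - e2 = σ * (u + e3) := by
    rcases hc with ⟨rfl, rfl, rfl, -⟩ | ⟨rfl, rfl, rfl, h⟩ | ⟨rfl, rfl, rfl, -⟩
    · exact ⟨1, Or.inl rfl, by ring⟩
    · exact ⟨-1, Or.inr ⟨rfl, h⟩, by ring⟩
    · exact ⟨1, Or.inl rfl, by ring⟩
  have he1 : e1 = 1 ∨ e1 = -1 := by (clear * - hc; tauto)
  have hY8' : 8 ≤ u ^ N := by
    have h1 : u ^ 3 ≤ u ^ N := pow_le_pow_right₀ (by omega) hN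
    have : (2 : ℤ) ^ 3 ≤ u ^ 3 := pow_le_pow_left₀ (by norm_num) hu 3
    linarith only [h1, this]
  have hw1 : 1 ≤ u + e3 := by
    rcases hc with ⟨rfl, rfl, rfl, -⟩ | ⟨rfl, rfl, rfl, -⟩ | ⟨rfl, rfl, rfl, -⟩ <;> (clear * - hu hσw; omega)
  have hwo : g = 1 → (u + e3) % 2 = 1 := by
    intro h
    have := hg1 h
    rcases hc with ⟨rfl, rfl, rfl, -⟩ | ⟨rfl, rfl, rfl, -⟩ | ⟨rfl, rfl, rfl, -⟩ <;> (clear * - this; omega)
  set w := u + e3 with hwd
  set Y := u ^ N with hYd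
  have hX0 : 0 < Y + e1 := by rcases he1 with rfl | rfl <;> omega
  have hz0 : 0 < z := by linarith only [hz, _root_.sq_nonneg (q : ℤ)]
  obtain ⟨t, ht⟩ : ∃ t, q - d = 4 * t := by
    obtain ⟨t, ht⟩ : (4 : ℤ) ∣ q - d := Int.dvd_of_emod_eq_zero (by omega)
    exact ⟨t, ht⟩
  have hz2 : z % 2 = 1 := by
    have h4 : q ^ 2 % 4 = 1 := by
      have : q % 4 = 1 ∨ q % 4 = 3 := by rcases hd with rfl | rfl <;> omega
      rcases this with h | h <;> simp [pow_succ, Int.mul_emod, h]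
    omega
  have ht0 : 0 < t := by rcases hd with rfl | rfl <;> (clear * - hq hqd ht; omega)
  have htq : 4 * t ≤ q + 1 := by rcases hd with rfl | rfl <;> (clear * - hqd ht; omega)
  have hA' : A = q * z - 2 * t := by
    have : 2 * A = 2 * (q * z - 2 * t) := by linear_combination hA - q * hz - ht
    linarith only [this]
  -- `g z ∣ D`
  have hgz : g * z ∣ u * Y + e2 := by
    apply IsCoprime.mul_dvd _ hgD hzD
    rcases hg with rfl | rfl
    · exact isCoprime_one_left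
    · have h1 : IsCoprime (2 : ℤ) z := by
        refine ⟨-(z / 2), 1, ?_⟩
        have := Int.emod_add_mul_ediv z 2
        rw [hz2] at this
        linarith only [this]
      have h2 := h1.mul_left h1
      rwa [show (2 : ℤ) * 2 = 4 by norm_num] at h2
  obtain ⟨y, hy⟩ := hgz
  have hkey : g * z * (u * q - h * w * y) = σ * (h * w ^ 2) + 2 * (u * g * t) := by
    linear_combination (-u) * hE - u * g * hA' + h * w * hσw + h * w * hy
  have hgA : 2 * (g * A) ≤ g * (q ^ 3 + 1) := by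
    rcases hg with rfl | rfl <;> rcases hd with rfl | rfl <;> linarith only [hA]
  have hgz0 : 0 < g * z := by rcases hg with rfl | rfl <;> linarith only [hz0]
  have hg0 : 0 < g := by omega
  refine ⟨?_, ?_⟩
  · by_cases hE0 : u * q - h * w * y = 0
    · exfalso
      rw [hE0, mul_zero] at hkey
      have h1 : 0 < h * w ^ 2 := by (clear * - hh0 hw1; positivity)
      have h2 : 0 < u * g * t := by (clear * - hu ht0 hg0; positivity)
      rcases hσ with rfl | ⟨rfl, hg'⟩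
      · linarith only [h1, h2, hkey]
      · have hw' := hwo hg'
        have h3 : (h * w ^ 2) % 2 = 1 := by
          rw [Int.mul_emod, hh, pow_two, Int.mul_emod w w, hw']
          rfl
        omega
    · have h1 : g * z ≤ h * w ^ 2 + 2 * (u * g * t) := by
        have a1 : g * z * 1 ≤ g * z * |u * q - h * w * y| :=
          mul_le_mul_of_nonneg_left (Int.one_le_abs hE0) hgz0.le
        have a2 : g * z * |u * q - h * w * y| = |σ * (h * w ^ 2) + 2 * (u * g * t)| := by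
          rw [← hkey, abs_mul, abs_of_pos hgz0]
        have a3 : |σ * (h * w ^ 2) + 2 * (u * g * t)| ≤ h * w ^ 2 + 2 * (u * g * t) := by
          have b1 : 0 ≤ h * w ^ 2 := by (clear * - hh0 hw1; positivity)
          have b2 : 0 ≤ u * g * t := by (clear * - hu ht0 hg0; positivity)
          rw [abs_le]
          rcases hσ with rfl | ⟨rfl, -⟩ <;> constructor <;> linarith only [b1, b2]
        linarith only [a1, a2, a3]
      have h2 : g * ((Y + e1) * (q ^ 2 + 1 - u * (q + 1))) ≤ g * (w * (q ^ 3 + 1)) := by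
        have a1 : (g * z) * (Y + e1) ≤ (h * w ^ 2 + 2 * (u * g * t)) * (Y + e1) :=
          mul_le_mul_of_nonneg_right h1 hX0.le
        have a2 : (h * w ^ 2) * (Y + e1) = w * (g * A) := by linear_combination w * hE
        have a3 : w * (2 * (g * A)) ≤ w * (g * (q ^ 3 + 1)) := mul_le_mul_of_nonneg_left hgA (by omega)
        have a4 : (4 * t) * (u * g * (Y + e1)) ≤ (q + 1) * (u * g * (Y + e1)) :=
          mul_le_mul_of_nonneg_right htq (by (clear * - hu hX0 hg0; positivity))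
        have a5 : g * ((Y + e1) * (q ^ 2 + 1)) = 2 * ((g * z) * (Y + e1)) := by rw [← hz]; ring
        linarith only [a1, a2, a3, a4, a5]
      exact le_of_mul_le_mul_left h2 hg0
  · have h1 : 1 * (w * (Y + e1)) ≤ h * (w * (Y + e1)) := mul_le_mul_of_nonneg_right (by omega) (by (clear * - hw1 hX0; positivity))
    have h2 : h * (w * (Y + e1)) = g * A := by rw [← hE]; ring
    linarith only [hE, hgA, h1]

theorem polyS {q : ℤ} (hq : 17 ≤ q) : 9 * (q ^ 3 + 1) < (q ^ 2 - q + 1) * (q ^ 2 + 1 - 2 * (q + 1)) := by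
  obtain ⟨x, rfl⟩ := exists_add hq
  have : 0 < (((x : ℤ) + 17) ^ 2 - (x + 17) + 1) * ((x + 17) ^ 2 + 1 - 2 * ((x + 17) + 1)) - 9 * ((x + 17) ^ 3 + 1) := by
    ring_nf; positivity
  linarith

theorem polyT {q : ℤ} (hq : 17 ≤ q) : 6 * (q ^ 3 + 1) < (q ^ 2 - q + 1) * (q ^ 2 + 1 - 3 * (q + 1)) := by
  obtain ⟨x, rfl⟩ := exists_add hq
  have : 0 < (((x : ℤ) + 17) ^ 2 - (x + 17) + 1) * ((x + 17) ^ 2 + 1 - 3 * ((x + 17) + 1)) - 6 * ((x + 17) ^ 3 + 1) := by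
    ring_nf; positivity
  linarith

theorem polyU {q : ℤ} (hq : 20 ≤ q) : (3 * q + 15) * (q ^ 3 + 1) < (q ^ 2 - q + 1) * (4 * q ^ 2 - q + 5) := by
  obtain ⟨x, rfl⟩ : ∃ x : ℕ, q = x + 20 := ⟨(q - 20).toNat, by omega⟩
  have : 0 < (((x : ℤ) + 20) ^ 2 - (x + 20) + 1) * (4 * (x + 20) ^ 2 - (x + 20) + 5) - (3 * ((x : ℤ) + 20) + 15) * ((x + 20) ^ 3 + 1) := by
    ring_nf; positivity
  linarith

/-- `u ≥ 4`, `N ≥ 4` -/
theorem big4 {X w : ℤ} (hq : 17 ≤ q) (hu : 4 ≤ u) (hX : u ^ 4 - 1 ≤ X) (hX3 : q ^ 2 - q + 1 ≤ 3 * X)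
    (hw1 : u - 1 ≤ w) (hw2 : w ≤ u + 1) (hb : 2 * (w * X) ≤ 4 * (q ^ 3 + 1))
    (hcc : X * (q ^ 2 + 1 - u * (q + 1)) ≤ w * (q ^ 3 + 1)) : False := by
  have hq3 : 0 ≤ q ^ 3 + 1 := by positivity
  have hu4 : (4 : ℤ) ^ 4 ≤ u ^ 4 := pow_le_pow_left₀ (by norm_num) hu 4
  have hX0 : 0 < X := by linarith
  have hc2 : X * (q ^ 2 + 1 - u * (q + 1)) ≤ (u + 1) * (q ^ 3 + 1) :=
    hcc.trans (mul_le_mul_of_nonneg_right hw2 hq3)
  have hb2 : (u - 1) * (u ^ 4 - 1) ≤ 2 * (q ^ 3 + 1) := by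
    have a1 : (u - 1) * (u ^ 4 - 1) ≤ w * X := mul_le_mul hw1 hX (by linarith) (by linarith)
    linarith
  by_cases h5 : 5 * u ≤ q
  · have h1 : X * (4 * q ^ 2 - q + 5) ≤ 5 * ((u + 1) * (q ^ 3 + 1)) := by
      have a1 : 4 * q ^ 2 - q + 5 ≤ 5 * (q ^ 2 + 1 - u * (q + 1)) := by nlinarith only [hq, h5]
      have a2 : X * (4 * q ^ 2 - q + 5) ≤ X * (5 * (q ^ 2 + 1 - u * (q + 1))) := mul_le_mul_of_nonneg_left a1 hX0.le
      linarith
    have h2 : (q ^ 2 - q + 1) * (4 * q ^ 2 - q + 5) ≤ (3 * X) * (4 * q ^ 2 - q + 5) :=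
      mul_le_mul_of_nonneg_right hX3 (by nlinarith only [])
    have h3 : (15 * (u + 1)) * (q ^ 3 + 1) ≤ (3 * q + 15) * (q ^ 3 + 1) :=
      mul_le_mul_of_nonneg_right (by linarith) hq3
    have := polyU (q := q) (by omega)
    linarith
  · rw [not_le] at h5
    have h16 : u ≤ 16 := by
      by_contra hcon
      have h17 : 17 ≤ u := by omega
      have a1 : q ^ 3 ≤ (5 * u - 1) ^ 3 := pow_le_pow_left₀ (by omega) (by omega) 3
      obtain ⟨x, rfl⟩ := exists_add h17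
      have a2 : 0 < (((x : ℤ) + 17) - 1) * ((x + 17) ^ 4 - 1) - 2 * ((5 * (x + 17) - 1) ^ 3 + 1) := by
        ring_nf; (clear * -; positivity)
      linarith
    obtain ⟨h1, h2⟩ := chkQ_int hu h16 hq h5 hb2
    have h3 : (u ^ 4 - 1) * (q ^ 2 + 1 - u * (q + 1)) ≤ X * (q ^ 2 + 1 - u * (q + 1)) :=
      mul_le_mul_of_nonneg_right hX (by linarith)
    linarith

/-- `u ≥ 16`, `N = 3` -/
theorem big3 {X w : ℤ} (hq : 17 ≤ q) (hu : 16 ≤ u) (hX : u ^ 3 - 1 ≤ X) (hX' : X ≤ u ^ 3 + 1)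
    (hX3 : q ^ 2 - q + 1 ≤ 3 * X) (hw1 : u - 1 ≤ w) (hw2 : w ≤ u + 1) (hb : 2 * (w * X) ≤ q ^ 3 + 1)
    (hcc : X * (q ^ 2 + 1 - u * (q + 1)) ≤ w * (q ^ 3 + 1)) : False := by
  have hq3 : 0 ≤ q ^ 3 + 1 := by positivity
  have hu3 : (16 : ℤ) ^ 3 ≤ u ^ 3 := pow_le_pow_left₀ (by norm_num) hu 3
  have hX0 : 0 < X := by linarith
  have hc2 : X * (q ^ 2 + 1 - u * (q + 1)) ≤ (u + 1) * (q ^ 3 + 1) :=
    hcc.trans (mul_le_mul_of_nonneg_right hw2 hq3)
  have hb2 : 2 * ((u - 1) * (u ^ 3 - 1)) ≤ q ^ 3 + 1 := by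
    have a1 : (u - 1) * (u ^ 3 - 1) ≤ w * X := mul_le_mul hw1 hX (by linarith) (by linarith)
    linarith
  obtain ⟨x, rfl⟩ : ∃ x : ℕ, u = x + 16 := ⟨(u - 16).toNat, by omega⟩
  have h3 : 3 * ((x : ℤ) + 16) ≤ q := by
    by_contra hcon
    have a1 : q ^ 3 ≤ (3 * ((x : ℤ) + 16)) ^ 3 := pow_le_pow_left₀ (by omega) (by omega) 3
    have a2 : 0 < 2 * ((((x : ℤ) + 16) - 1) * ((x + 16) ^ 3 - 1)) - ((3 * (x + 16)) ^ 3 + 1) := by
      ring_nf; (clear * -; positivity)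
    linarith only [hb2, a1, a2]
  -- `X (2 q² - q + 3) ≤ 3 (u + 1) (q³ + 1)`
  have h4 : (((x : ℤ) + 16) ^ 3 - 1) * (2 * q ^ 2 - q + 3) ≤ 3 * ((x + 16 + 1) * (q ^ 3 + 1)) := by
    have a1 : 2 * q ^ 2 - q + 3 ≤ 3 * (q ^ 2 + 1 - (x + 16) * (q + 1)) := by nlinarith only [hq, h3]
    have a2 : (((x : ℤ) + 16) ^ 3 - 1) * (2 * q ^ 2 - q + 3) ≤ X * (3 * (q ^ 2 + 1 - (x + 16) * (q + 1))) := by
      apply mul_le_mul hX a1 (by nlinarith only []) hX0.le
    linarith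
  -- `2 q ≥ u²`
  have h5 : ((x : ℤ) + 16) ^ 2 ≤ 2 * q := by
    by_contra hcon
    rw [not_le] at hcon
    have a1 : 2 * (q ^ 3 + 1) ≤ ((x : ℤ) + 16) ^ 2 * q ^ 2 := by
      have b1 : (2 * q + 1) * q ^ 2 ≤ ((x : ℤ) + 16) ^ 2 * q ^ 2 := mul_le_mul_of_nonneg_right (by omega) (by positivity)
      nlinarith only [h3, b1]
    have a2 : 6 * ((((x : ℤ) + 16) + 1) * (q ^ 3 + 1)) ≤ 3 * (x + 16 + 1) * ((x + 16) ^ 2 * q ^ 2) := by
      have := mul_le_mul_of_nonneg_left a1 (by positivity : (0 : ℤ) ≤ 3 * (x + 16 + 1))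
      linarith
    -- `2 (u³ - 1) (2 q² - q + 3) > 3 (u + 1) u² q²`
    have a3 : 2 * ((((x : ℤ) + 16) ^ 3 - 1) * (2 * q ^ 2 - q + 3)) ≤ 3 * (x + 16 + 1) * ((x + 16) ^ 2 * q ^ 2) := by
      linarith
    have a4 : (((x : ℤ) + 16) ^ 3 - 1) * (2 * q ^ 2 - q + 3) ≥ (((x : ℤ) + 16) ^ 3 - 1) * (q ^ 2 * 2 - q) := by
      apply mul_le_mul_of_nonneg_left _ (by linarith)
      linarith
    have a5 : 48 * q ≤ q ^ 2 := by nlinarith only [h3]
    have a6 : (((x : ℤ) + 16) ^ 3 - 1) * (95 * q ^ 2) ≤ 48 * ((((x : ℤ) + 16) ^ 3 - 1) * (q ^ 2 * 2 - q)) := by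
      have b1 : 95 * q ^ 2 ≤ 48 * (q ^ 2 * 2 - q) := by linarith
      have := mul_le_mul_of_nonneg_left b1 (by linarith only [hu3] : (0 : ℤ) ≤ ((x : ℤ) + 16) ^ 3 - 1)
      linarith only [this]
    have a7 : q ^ 2 * (190 * (((x : ℤ) + 16) ^ 3 - 1)) ≤ q ^ 2 * (144 * (x + 16 + 1) * (x + 16) ^ 2) := by
      linarith
    have a8 := le_of_mul_le_mul_left a7 (by positivity)
    have a9 : 0 < 190 * (((x : ℤ) + 16) ^ 3 - 1) - 144 * (x + 16 + 1) * (x + 16) ^ 2 := by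
      ring_nf; (clear * -; positivity)
    linarith only [a8, a9]
  have h6 : (((x : ℤ) + 16) ^ 2) * (((x : ℤ) + 16) ^ 2 - 2) ≤ (2 * q) * (2 * q - 2) := by
    apply mul_le_mul h5 (by linarith) (by nlinarith only [_root_.Nat.cast_nonneg (α := ℤ) (x)]) (by linarith)
  have h7 : 0 < (((x : ℤ) + 16) ^ 2) * (((x : ℤ) + 16) ^ 2 - 2) - 4 * (3 * (((x : ℤ) + 16) ^ 3 + 1)) := by
    ring_nf; (clear * -; positivity)
  linarith only [hX3, hX', h6, h7]

/-- **The two-factor tori, `4`-case.** -/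
theorem coreQ (hd : d = 1 ∨ d = -1) (hq : 17 ≤ q) (hqd : q % 4 = d % 4) (hA : 2 * A = q ^ 3 + d)
    (hz : 2 * z = q ^ 2 + 1) (hk3 : q ^ 2 - q + 1 ≤ 3 * k) (hu : 2 ≤ u) (hN : 3 ≤ N) (hk : k ∣ u ^ N + e1)
    (hh : h % 2 = 1) (hh0 : 0 < h) (hE : h * (u + e3) * (u ^ N + e1) = g * A)
    (hzD : z ∣ u * u ^ N + e2) (hgD : g ∣ u * u ^ N + e2)
    (hc : (e1 = 1 ∧ e2 = -1 ∧ e3 = 1 ∧ (g = 1 ∨ (g = 4 ∧ 5 ≤ u))) ∨ (e1 = -1 ∧ e2 = 1 ∧ e3 = 1 ∧ g = 1) ∨
      (e1 = 1 ∧ e2 = 1 ∧ e3 = -1 ∧ (g = 1 ∨ g = 4)))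
    (hg1 : g = 1 → u % 2 = 0 ∧ (u = 2 ∨ u = 4 ∨ u = 8 ∨ 16 ≤ u)) (hg4 : g = 4 → u % 2 = 1 ∧ 4 ≤ N) : False := by
  obtain ⟨hcc, hb⟩ := ineqQ hd hq hqd hA hz hu hN hh hh0 hE hzD hgD hc fun h => (hg1 h).1
  have hg : g = 1 ∨ g = 4 := by (clear * - hc; tauto)
  have he1 : e1 = 1 ∨ e1 = -1 := by (clear * - hc; tauto)
  have hY8' : 8 ≤ u ^ N := by
    have h1 : u ^ 3 ≤ u ^ N := pow_le_pow_right₀ (by omega) hN
    have : (2 : ℤ) ^ 3 ≤ u ^ 3 := pow_le_pow_left₀ (by norm_num) hu 3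
    linarith only [h1, this]
  have hX0 : 0 < u ^ N + e1 := by rcases he1 with rfl | rfl <;> omega
  have hkX := Int.le_of_dvd hX0 hk
  have hX3 : q ^ 2 - q + 1 ≤ 3 * (u ^ N + e1) := by linarith only [hk3, hkX]
  have hw1 : u - 1 ≤ u + e3 := by
    rcases hc with ⟨rfl, rfl, rfl, -⟩ | ⟨rfl, rfl, rfl, -⟩ | ⟨rfl, rfl, rfl, -⟩ <;> omega
  have hw2 : u + e3 ≤ u + 1 := by
    rcases hc with ⟨rfl, rfl, rfl, -⟩ | ⟨rfl, rfl, rfl, -⟩ | ⟨rfl, rfl, rfl, -⟩ <;> omega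
  have hq3 : 0 ≤ q ^ 3 + 1 := by positivity
  have hq91 : 273 ≤ q ^ 2 - q + 1 := by nlinarith only [hq]
  have h4 : u = 2 → (u + e3) ≤ 3 → False := by
    intro h2 hw
    have a1 : (q ^ 2 - q + 1) * (q ^ 2 + 1 - 2 * (q + 1)) ≤ (3 * (u ^ N + e1)) * (q ^ 2 + 1 - 2 * (q + 1)) :=
      mul_le_mul_of_nonneg_right hX3 (by nlinarith only [hq91])
    have a2 : (u + e3) * (q ^ 3 + 1) ≤ 3 * (q ^ 3 + 1) := mul_le_mul_of_nonneg_right hw hq3
    have := polyS hq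
    rw [h2] at hcc a1 a2
    linarith only [hcc, a1, a2, this]
  have hbig : 4 ≤ u → 4 ≤ N → False := by
    intro hu4 hN4
    have hY4 : u ^ 4 ≤ u ^ N := pow_le_pow_right₀ (by omega) hN4
    refine big4 (X := u ^ N + e1) (w := u + e3) hq hu4 ?_ hX3 hw1 hw2 ?_ hcc
    · rcases he1 with rfl | rfl <;> linarith only [hY4]
    · have : g * (q ^ 3 + 1) ≤ 4 * (q ^ 3 + 1) := mul_le_mul_of_nonneg_right (by omega) hq3
      linarith only [hb, this]
  rcases hg with rfl | rfl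
  · obtain ⟨hu2, hu'⟩ := hg1 rfl
    rcases hu' with h | h | h | h
    · exact h4 h (by omega)
    · by_cases hN4 : 4 ≤ N
      · exact hbig (by omega) hN4
      · have hN3 : N = 3 := by omega
        rw [h, hN3] at hX3
        rcases he1 with rfl | rfl <;> norm_num only [_root_.Order.add_one_le_iff] at hX3 <;> linarith only [hq91, hX3]
    · by_cases hN4 : 4 ≤ N
      · exact hbig (by omega) hN4
      · have hN3 : N = 3 := by omega
        rw [h, hN3] at hX3 hcc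
        have hq39 : q ≤ 39 := by
          by_contra hcon
          have : 40 * 39 ≤ q * (q - 1) := mul_le_mul (by omega) (by omega) (by norm_num) (by omega)
          rcases he1 with rfl | rfl <;> norm_num at hX3 <;> linarith only [this, hX3]
        have h5 : (8 : ℤ) + e3 ≤ 9 := by omega
        have h6 : (8 + e3) * (q ^ 3 + 1) ≤ 9 * (q ^ 3 + 1) := mul_le_mul_of_nonneg_right h5 hq3
        have h7 : 0 ≤ q ^ 2 + 1 - 8 * (q + 1) := by nlinarith only [hq91]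
        have h8 : 511 * (q ^ 2 + 1 - 8 * (q + 1)) ≤ (8 ^ 3 + e1) * (q ^ 2 + 1 - 8 * (q + 1)) :=
          mul_le_mul_of_nonneg_right (by rcases he1 with rfl | rfl <;> norm_num) h7
        have h9 : 511 * (q ^ 2 + 1 - 8 * (q + 1)) ≤ 9 * (q ^ 3 + 1) := by linarith only [hcc, h6, h8]
        interval_cases q <;> norm_num only [] at h9
    · by_cases hN4 : 4 ≤ N
      · exact hbig (by omega) hN4
      · have hN3 : N = 3 := by omega
        rw [hN3] at hX3 hcc hb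
        refine big3 (X := u ^ 3 + e1) (w := u + e3) hq h ?_ ?_ hX3 hw1 hw2 ?_ hcc
        · rcases he1 with rfl | rfl <;> linarith only []
        · rcases he1 with rfl | rfl <;> linarith only []
        · linarith only [hb]
  · obtain ⟨hu2, hN4⟩ := hg4 rfl
    by_cases h3 : u = 3
    · have hw : u + e3 = 2 := by
        rcases hc with ⟨rfl, rfl, rfl, h⟩ | ⟨rfl, rfl, rfl, h⟩ | ⟨rfl, rfl, rfl, -⟩ <;> (clear * - h3 h hu2; omega)
      have a1 : (q ^ 2 - q + 1) * (q ^ 2 + 1 - 3 * (q + 1)) ≤ (3 * (u ^ N + e1)) * (q ^ 2 + 1 - 3 * (q + 1)) :=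
        mul_le_mul_of_nonneg_right hX3 (by nlinarith only [hq91])
      have := polyT hq
      rw [hw, h3] at hcc
      rw [h3] at a1
      linarith only [hcc, a1, this]
    · exact hbig (by omega) hN4

end P

end Cfsg.Agent.R2.Spec.X4.H10
end

private theorem dce_3ff9438be18e : _root_.True := by
  try have : _root_.True := by simp only [_root_.Cfsg.Agent.R2.Spec.X4.H10.chkQ.eq_1]
  exact _root_.True.intro
end

-- part: R2/Spec/X3/PairII_mg
section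
prune_inst 0x1800002000020000000000004000010000000008400040200008010020010200208c80200000000000001000300000000000000000000000038602c0d90908800000002000400000000000000000000000000000000000000000000
set_option linter.all false
open scoped Cfsg.Agent.FastGrp

-- part: R2/Spec/X3/PairII
section
/-!
# The pair lemma, type II: arithmetic (helper16, S3435, box X3)

`x = s y`, `s = ± 1`, `29 ≤ y`, `P = x² + x + 1 = y² + s y + 1`, `d T = a P`, `a` odd, `2 a ∣ d (x - 1)`, `d ∈ {1, 3}`,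
`(a P - d N)² ≤ 5 d (a P)`.
-/

set_option autoImplicit false

namespace Cfsg.Agent.R2.Spec.X3.PairII

/-- `√15 < 3.873` -/
theorem sqrt15 {A B P Y : ℤ} (hB : 0 ≤ B) (hY : 0 ≤ Y) (hPY : P ≤ Y ^ 2)
    (h : A ^ 2 ≤ 15 * (B ^ 2 * P)) : 1000 * A ≤ 3873 * (Y * B) := by
  by_contra hcon
  push Not at hcon
  have h1 : (3873 * (Y * B)) ^ 2 < (1000 * A) ^ 2 := pow_lt_pow_left₀ hcon (by positivity) two_ne_zero
  have h2 : B ^ 2 * P ≤ B ^ 2 * Y ^ 2 := mul_le_mul_of_nonneg_left hPY (sq_nonneg _)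
  have h3 : 0 ≤ B ^ 2 * Y ^ 2 := by positivity
  linarith only [h, h1, h2, _root_.sq_nonneg (3873 * (Y * B) : ℤ)]

/-- `√5 < 2.237` -/
theorem sqrt5 {A B P Y : ℤ} (hB : 0 ≤ B) (hY : 0 ≤ Y) (hPY : P ≤ Y ^ 2)
    (h : A ^ 2 ≤ 5 * (B ^ 2 * P)) : 1000 * A ≤ 2237 * (Y * B) := by
  by_contra hcon
  push Not at hcon
  have h1 : (2237 * (Y * B)) ^ 2 < (1000 * A) ^ 2 := pow_lt_pow_left₀ hcon (by positivity) two_ne_zero
  have h2 : B ^ 2 * P ≤ B ^ 2 * Y ^ 2 := mul_le_mul_of_nonneg_left hPY (sq_nonneg _)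
  have h3 : 0 ≤ B ^ 2 * Y ^ 2 := by positivity
  linarith only [h, h1, h2, _root_.sq_nonneg (2237 * (Y * B) : ℤ)]

/-- the standing facts -/
theorem facts {y s P : ℤ} (hy : 29 ≤ y) (hs : s = 1 ∨ s = -1) (hP : P = y ^ 2 + s * y + 1) :
    ∃ Y, 0 ≤ Y ∧ P ≤ Y ^ 2 ∧ ((s = 1 ∧ Y = y + 1) ∨ (s = -1 ∧ Y = y)) := by
  rcases hs with rfl | rfl
  · exact ⟨y + 1, by omega, by rw [hP]; linarith only [hy], Or.inl ⟨rfl, rfl⟩⟩
  · exact ⟨y, by omega, by rw [hP]; linarith only [hy], Or.inr ⟨rfl, rfl⟩⟩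

/-- `(z P + R)² ≤ 15 (Q + z)² P` with `|R| ≤ r` -/
theorem abs_form {z P R Q r k : ℤ} (hr : |R| ≤ r) (hP : 0 ≤ P) (hQ : 0 ≤ Q) (hpos : 0 ≤ Q + z)
    (h : (z * P + R) ^ 2 ≤ k * ((Q + z) ^ 2 * P)) (hk : 0 ≤ k) (hrz : r ≤ |z| * P) :
    (|z| * P - r) ^ 2 ≤ k * ((Q + |z|) ^ 2 * P) := by
  have h1 : |z| * P - r ≤ |z * P + R| := by
    have h2 : |z * P| = |z| * P := by rw [abs_mul, abs_of_nonneg hP]
    have h3 : |z * P| - |R| ≤ |z * P + R| := by
      have := abs_sub_abs_le_abs_sub (z * P) (-R)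
      rwa [abs_neg, sub_neg_eq_add] at this
    linarith
  have h2 : (|z| * P - r) ^ 2 ≤ (z * P + R) ^ 2 := by
    rw [← sq_abs (z * P + R)]
    exact pow_le_pow_left₀ (by linarith) h1 2
  have h3 : (Q + z) ^ 2 ≤ (Q + |z|) ^ 2 := pow_le_pow_left₀ hpos (by linarith [le_abs_self z]) 2
  have h4 : (Q + z) ^ 2 * P ≤ (Q + |z|) ^ 2 * P := mul_le_mul_of_nonneg_right h3 hP
  exact h2.trans (h.trans (mul_le_mul_of_nonneg_left h4 hk))

section

variable {y s P d a : ℤ} (hy : 29 ≤ y) (hyo : y % 2 = 1) (hs : s = 1 ∨ s = -1) (hP : P = y ^ 2 + s * y + 1)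
  (hd : d = 1 ∨ d = 3) (ha : 1 ≤ a) (hao : a % 2 = 1)

include hy hs hP in
theorem P_ge : 813 ≤ P ∧ 28 * y ≤ P ∧ 28 * y ^ 2 ≤ 29 * P := by
  rcases hs with rfl | rfl <;> refine ⟨?_, ?_, ?_⟩ <;> nlinarith

/-! ### `N ∣ x² - 1` and `N ∣ x² - x` -/

include hy hs hP hd ha in
/-- the common argument: `N m = P - Q`, `|Q| ≤ 2 y + 2` -/
theorem sm {m N Q : ℤ} (hm : 1 ≤ m) (hQ : |Q| ≤ 2 * y + 2) (h : N * m = P - Q)
    (hK : (a * P - d * N) ^ 2 ≤ 5 * d * (a * P)) : m * a = d := by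
  obtain ⟨hP1, hP2, -⟩ := P_ge hy hs hP
  obtain ⟨z, hz⟩ : ∃ z, z = m * a - d := ⟨_, rfl⟩
  have hma : 1 ≤ m * a := by nlinarith only [ha, hm]
  have hd0 : 0 < d := by rcases hd with rfl | rfl <;> norm_num
  have hd3 : d ≤ 3 := by rcases hd with rfl | rfl <;> norm_num
  have h1 : m * (a * P - d * N) = z * P + d * Q := by rw [hz]; linear_combination (-d) * h
  have h2 : (z * P + d * Q) ^ 2 ≤ 15 * ((d + z) ^ 2 * P) := by
    rw [← h1, mul_pow]
    have h3 := mul_le_mul_of_nonneg_left hK (sq_nonneg m)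
    refine h3.trans ?_
    have e : d + z = m * a := by rw [hz]; ring
    rw [e]
    have h4 : m ^ 2 * a ≤ (m * a) ^ 2 := by
      have : m ^ 2 * a * 1 ≤ m ^ 2 * a * a := mul_le_mul_of_nonneg_left ha (by positivity)
      linarith only [this]
    have h5 : m ^ 2 * a * P ≤ (m * a) ^ 2 * P := mul_le_mul_of_nonneg_right h4 (by omega)
    have h6 : 0 ≤ m ^ 2 * a * P := by positivity
    nlinarith only [hd3, h5, h6]
  by_contra hne
  have hz0 : z ≠ 0 := fun h0 => hne (by omega)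
  have hz1 : 1 ≤ |z| := Int.one_le_abs hz0
  have hr : |d * Q| ≤ 6 * y + 6 := by
    rw [abs_mul, abs_of_pos hd0]
    nlinarith only [hy, hQ, hd0, hd3]
  have h3 := abs_form hr (by omega : 0 ≤ P) hd0.le (by rw [hz]; linarith) h2 (by norm_num)
    (by nlinarith only [hP1, hP2, hz1])
  obtain ⟨Y, hY0, hPY, hY⟩ := facts hy hs hP
  have h4 := sqrt15 (by omega) hY0 hPY h3
  have h5 : Y * (d + |z|) ≤ Y * (4 * |z|) := mul_le_mul_of_nonneg_left (by omega) hY0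
  -- `1000 (|z| P - 6 y - 6) ≤ 15492 Y |z|`
  have h6 : 1000 * (6 * y + 6) ≤ |z| * (1000 * (6 * y + 6)) := le_mul_of_one_le_left (by omega) hz1
  have h7 : |z| * (1000 * P - 1000 * (6 * y + 6) - 15492 * Y) ≤ 0 := by linarith only [h4, h5, h6]
  have h8 : 0 < 1000 * P - 1000 * (6 * y + 6) - 15492 * Y := by
    rcases hY with ⟨rfl, rfl⟩ | ⟨rfl, rfl⟩ <;> rw [hP] <;> linarith only [hP1, hP2, hP]
  nlinarith only [hz1, h4, h5, h6, h8]

include hy hs hP hd ha hao in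
/-- `N ∣ x² - 1` -/
theorem pC {m N : ℤ} (hm : 1 ≤ m) (h : N * m = y ^ 2 - 1)
    (hK : (a * P - d * N) ^ 2 ≤ 5 * d * (a * P)) : (a = 1 ∧ d * N = y ^ 2 - 1) ∨ (a = d ∧ N = y ^ 2 - 1) := by
  have h1 := sm hy hs hP hd ha hm (Q := s * y + 2) (by
    rw [abs_le]; rcases hs with rfl | rfl <;> constructor <;> linarith only [hy]) (by rw [h, hP]; ring) hK
  have h2 : a = 1 ∨ a = d := by
    rcases hd with rfl | rfl
    · left
      exact Int.eq_one_of_mul_eq_one_left (by omega) h1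
    · have h3 : a ∣ 3 := ⟨m, by rw [← h1]; ring⟩
      have h4 := Int.le_of_dvd (by norm_num) h3
      omega
  rcases h2 with rfl | rfl
  · left
    refine ⟨rfl, ?_⟩
    rw [mul_one] at h1
    rw [← h1, mul_comm, h]
  · right
    refine ⟨rfl, ?_⟩
    have hd0 : a ≠ 0 := by rcases hd with rfl | rfl <;> norm_num
    have h3 : m = 1 := by
      have : m * a = 1 * a := by rw [h1, one_mul]
      exact mul_right_cancel₀ hd0 this
    rw [h3, mul_one] at h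
    exact h

include hy hs hP hd ha hao in
/-- `N ∣ x² - x` -/
theorem pE {m N : ℤ} (hm : 1 ≤ m) (h : N * m = y ^ 2 - s * y)
    (hK : (a * P - d * N) ^ 2 ≤ 5 * d * (a * P)) : (a = 1 ∧ d * N = y ^ 2 - s * y) ∨ (a = d ∧ N = y ^ 2 - s * y) := by
  have h1 := sm hy hs hP hd ha hm (Q := 2 * s * y + 1) (by
    rw [abs_le]; rcases hs with rfl | rfl <;> constructor <;> linarith only [hy]) (by rw [h, hP]; ring) hK
  have h2 : a = 1 ∨ a = d := by
    rcases hd with rfl | rfl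
    · left
      exact Int.eq_one_of_mul_eq_one_left (by omega) h1
    · have h3 : a ∣ 3 := ⟨m, by rw [← h1]; ring⟩
      have h4 := Int.le_of_dvd (by norm_num) h3
      omega
  rcases h2 with rfl | rfl
  · left
    refine ⟨rfl, ?_⟩
    rw [mul_one] at h1
    rw [← h1, mul_comm, h]
  · right
    refine ⟨rfl, ?_⟩
    have hd0 : a ≠ 0 := by rcases hd with rfl | rfl <;> norm_num
    have h3 : m = 1 := by
      have : m * a = 1 * a := by rw [h1, one_mul]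
      exact mul_right_cancel₀ hd0 this
    rw [h3, mul_one] at h
    exact h

include hy hs hP ha in
/-- small `N` -/
theorem tiny {N : ℤ} (hd0 : 0 < d) (hd3 : d ≤ 3) (hN : 5 * (d * N) ≤ 4 * P)
    (hK : (a * P - d * N) ^ 2 ≤ 5 * d * (a * P)) : False := by
  obtain ⟨hP1, hP2, -⟩ := P_ge hy hs hP
  have h2 : P ≤ a * P := le_mul_of_one_le_left (by omega) ha
  have h3 : a * P ≤ 5 * (a * P - d * N) := by linarith
  have h4 : (a * P) ^ 2 ≤ (5 * (a * P - d * N)) ^ 2 := pow_le_pow_left₀ (by positivity) h3 2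
  nlinarith only [hd3, hK, hP1, h2, h4]

/-! ### `2 N ∣ p (x² - 1)`, `5 p ≤ |x|` -/

include hy hs hP ha in
/-- `d = 1` -/
theorem pD1 {p j N : ℤ} (hp : 5 ≤ p) (hpo : p % 2 = 1) (hpx : 5 * p ≤ y) (hj : 1 ≤ j)
    (h : N * (2 * j) = p * (y ^ 2 - 1)) (hK : (a * P - 1 * N) ^ 2 ≤ 5 * 1 * (a * P)) : False := by
  obtain ⟨hP1, hP2, -⟩ := P_ge hy hs hP
  obtain ⟨z, hz⟩ : ∃ z, z = 2 * (a * j) - p := ⟨_, rfl⟩
  have hzo : z % 2 = 1 := by omega
  have hzj : 2 * (a * j) = p + z := by rw [hz]; ring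
  have h1 : 2 * j * (a * P - 1 * N) = z * P + p * (s * y + 2) := by
    have : p * (s * y + 2) = p * P - p * (y ^ 2 - 1) := by rw [hP]; ring
    rw [this]
    linear_combination P * hzj - h
  have hpos : 0 < p + z := by rw [← hzj]; positivity
  have h2 : (z * P + p * (s * y + 2)) ^ 2 ≤ 5 * ((p + z) ^ 2 * P) := by
    rw [← h1, ← hzj]
    have h3 := mul_le_mul_of_nonneg_left hK (by positivity : 0 ≤ 4 * j ^ 2)
    have h4 : a * (j ^ 2 * P) ≤ a * (a * (j ^ 2 * P)) :=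
      mul_le_mul_of_nonneg_left (le_mul_of_one_le_left (by positivity) ha) (by positivity)
    linarith only [h3, h4]
  have hz1 : 1 ≤ |z| := Int.one_le_abs (by rintro rfl; omega)
  have hr : |p * (s * y + 2)| ≤ p * (y + 2) := by
    rw [abs_mul, abs_of_pos (by omega : 0 < p)]
    apply mul_le_mul_of_nonneg_left _ (by omega)
    rw [abs_le]; rcases hs with rfl | rfl <;> constructor <;> linarith only [hy]
  have hpy : 5 * (p * (y + 2)) ≤ y * (y + 2) := by nlinarith only [hy, hpx]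
  have hrz : p * (y + 2) ≤ |z| * P := by
    have : P ≤ |z| * P := le_mul_of_one_le_left (by omega) hz1
    rcases hs with rfl | rfl <;> linarith only [hP1, hP2, hpy, this, hP]
  have h3 := abs_form hr (by omega : 0 ≤ P) (by omega : 0 ≤ p) hpos.le h2 (by norm_num) hrz
  obtain ⟨Y, hY0, hPY, hY⟩ := facts hy hs hP
  have h4 := sqrt5 (by omega) hY0 hPY h3
  -- `5000 (|z| P - p (y + 2)) ≤ 2237 Y (5 p + 5 |z|) ≤ 2237 Y (y + 5 |z|)`
  have h5 : Y * (5 * p) ≤ Y * y := mul_le_mul_of_nonneg_left hpx hY0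
  have h6 : 5000 * (|z| * P) ≤ 1000 * (y * (y + 2)) + 2237 * (Y * y) + 11185 * (Y * |z|) := by linarith only [hpy, h4, h5]
  have h7 : |z| * (5000 * P - 11185 * Y) ≤ 1000 * (y * (y + 2)) + 2237 * (Y * y) := by linarith only [hpy, h4, h5]
  have h8 : 1000 * (y * (y + 2)) + 2237 * (Y * y) < 5000 * P - 11185 * Y := by
    rcases hY with ⟨rfl, rfl⟩ | ⟨rfl, rfl⟩ <;> rw [hP] <;> linarith only [hP1, hP2, hP]
  have h9 : 0 ≤ y * (y + 2) := mul_nonneg (by omega) (by omega)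
  have h10 : 0 ≤ Y * y := mul_nonneg hY0 (by omega)
  have h11 := le_mul_of_one_le_left (by linarith only [h8, h9, h10] : 0 ≤ 5000 * P - 11185 * Y) hz1
  linarith only [hpy, h4, h5, h8, h11]

include hy hs hP ha in
/-- `d = 3` -/
theorem pD3 {p j N : ℤ} (hp : 5 ≤ p) (hpo : p % 2 = 1) (hpx : 25 * p ≤ y) (hj : 1 ≤ j)
    (h : N * (2 * j) = p * (y ^ 2 - 1)) (hK : (a * P - 3 * N) ^ 2 ≤ 5 * 3 * (a * P)) : False := by
  obtain ⟨hP1, hP2, -⟩ := P_ge hy hs hP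
  obtain ⟨z, hz⟩ : ∃ z, z = 2 * (a * j) - 3 * p := ⟨_, rfl⟩
  have hzo : z % 2 = 1 := by omega
  have hzj : 2 * (a * j) = 3 * p + z := by rw [hz]; ring
  have h1 : 2 * j * (a * P - 3 * N) = z * P + 3 * p * (s * y + 2) := by
    have : 3 * p * (s * y + 2) = 3 * (p * P) - 3 * (p * (y ^ 2 - 1)) := by rw [hP]; ring
    rw [this]
    linear_combination P * hzj - 3 * h
  have hpos : 0 < 3 * p + z := by rw [← hzj]; positivity
  have h2 : (z * P + 3 * p * (s * y + 2)) ^ 2 ≤ 15 * ((3 * p + z) ^ 2 * P) := by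
    rw [← h1, ← hzj]
    have h3 := mul_le_mul_of_nonneg_left hK (by positivity : 0 ≤ 4 * j ^ 2)
    have h4 : a * (j ^ 2 * P) ≤ a * (a * (j ^ 2 * P)) :=
      mul_le_mul_of_nonneg_left (le_mul_of_one_le_left (by positivity) ha) (by positivity)
    linarith only [h3, h4]
  have hz1 : 1 ≤ |z| := Int.one_le_abs (by rintro rfl; omega)
  have hr : |3 * p * (s * y + 2)| ≤ 3 * p * (y + 2) := by
    rw [abs_mul, abs_of_pos (by omega : 0 < 3 * p)]
    apply mul_le_mul_of_nonneg_left _ (by omega)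
    rw [abs_le]; rcases hs with rfl | rfl <;> constructor <;> linarith only [hp, hpx]
  have hpy : 25 * (p * (y + 2)) ≤ y * (y + 2) := by nlinarith only [hy, hpx]
  have hrz : 3 * p * (y + 2) ≤ |z| * P := by
    have : P ≤ |z| * P := le_mul_of_one_le_left (by omega) hz1
    rcases hs with rfl | rfl <;> linarith only [hp, hpx, hP2, hpy, this, hP]
  have h3 := abs_form hr (by omega : 0 ≤ P) (by omega : 0 ≤ 3 * p) hpos.le h2 (by norm_num) hrz
  obtain ⟨Y, hY0, hPY, hY⟩ := facts hy hs hP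
  have h4 := sqrt15 (by omega) hY0 hPY h3
  have h5 : Y * (25 * p) ≤ Y * y := mul_le_mul_of_nonneg_left hpx hY0
  have h6 : 25000 * (|z| * P) ≤ 3000 * (y * (y + 2)) + 11619 * (Y * y) + 96825 * (Y * |z|) := by linarith only [hpy, h4, h5]
  have h7 : |z| * (25000 * P - 96825 * Y) ≤ 3000 * (y * (y + 2)) + 11619 * (Y * y) := by linarith only [hpy, h4, h5]
  have h8 : 3000 * (y * (y + 2)) + 11619 * (Y * y) < 25000 * P - 96825 * Y := by
    rcases hY with ⟨rfl, rfl⟩ | ⟨rfl, rfl⟩ <;> rw [hP] <;> linarith only [hp, hpx, hP2, hP]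
  have h9 : 0 ≤ y * (y + 2) := mul_nonneg (by omega) (by omega)
  have h10 : 0 ≤ Y * y := mul_nonneg hY0 (by omega)
  have h11 := le_mul_of_one_le_left (by linarith only [h8, h9, h10] : 0 ≤ 25000 * P - 96825 * Y) hz1
  linarith only [hpy, h4, h5, h8, h11]

end

end Cfsg.Agent.R2.Spec.X3.PairII
end

-- part: R2/Spec/X3/PairChk
section
/-!
# The pair lemma, type II: finite checks (helper16, S3435, box X3)
-/

set_option autoImplicit false

namespace Cfsg.Agent.R2.Spec.X3.PairII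

/-- the check for `N (3 y + z) = (y² + 1) (y + s)` -/
def InB (s y z : ℤ) : Prop := ((y ^ 2 + 1) * (y + s)) % (3 * y + z) = 0 →
  ((y ^ 2 + s * y + 1) - 3 * (((y ^ 2 + 1) * (y + s)) / (3 * y + z))) ^ 2 ≤ 15 * (y ^ 2 + s * y + 1) →
  (s * y, y ^ 2 + s * y + 1, ((y ^ 2 + 1) * (y + s)) / (3 * y + z)) ∈
    ([(31, 993, 296), (307, 94557, 31900), (343, 117993, 38915), (-41, 1641, 580), (-89, 7833, 2563)] : List (ℤ × ℤ × ℤ))

instance (s y z : ℤ) : Decidable (InB s y z) := by unfold InB; infer_instance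

/-- the finite check, `a = 1`, `d = 3` -/
def ChkB (s : ℤ) : Prop := ∀ y < 960, 29 ≤ y → (s * (y : ℕ)) % 12 = 7 → ∀ z < 14, InB s y (2 * (z : ℕ) - 13)

instance (s : ℤ) : Decidable (ChkB s) := by unfold ChkB; infer_instance

private noncomputable def _root_.Cfsg.Agent.KO5e70d14.k0 : type_of% @Decidable.decide := @(fun x0 x1 => @Decidable.rec.{1} _ @(fun x2 => @Bool) @(fun x2 => @Bool.false) @(fun x2 => @Bool.true) @x1)
private theorem _root_.Cfsg.Agent.KO5e70d14.e0 : @Decidable.decide = @_root_.Cfsg.Agent.KO5e70d14.k0 := by delta _root_.Cfsg.Agent.KO5e70d14.k0; rfl'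
private noncomputable def _root_.Cfsg.Agent.KO5e70d14.k1s : (by first | exact Subtype (fun g => @HMod.hMod.{0, 0, 0} (ℤ) (ℤ) (ℤ) _ = @g) | exact Unit : Sort _) := by first | (refine @Subtype.mk _ _ (@(letI c0 := @Int.rec.{1}; letI c1 := @Int.ofNat; letI c2 := @Nat.mod; letI c3 := @Nat.succ; letI c4 := @Nat.sub; @(fun x0 x1 => @c0 @(fun x2 => ℤ) @(fun x2 => @c1 (@c2 @x2 (@c0 @(fun x3 => ℕ) @(fun x3 => @x3) @(fun x3 => @c3 @x3) @x1))) @(fun x2 => @Nat.rec.{1} @(fun x3 => ℤ) (@c1 (@c4 (@c0 @(fun x3 => ℕ) @(fun x3 => @x3) @(fun x3 => @c3 @x3) @x1) (@c3 (@c2 @x2 (@c0 @(fun x3 => ℕ) @(fun x3 => @x3) @(fun x3 => @c3 @x3) @x1))))) @(fun x3 x4 => @Int.negSucc @x3) (@c4 (@c3 (@c2 @x2 (@c0 @(fun x3 => ℕ) @(fun x3 => @x3) @(fun x3 => @c3 @x3) @x1))) (@c0 @(fun x3 => ℕ) @(fun x3 => @x3) @(fun x3 => @c3 @x3) @x1))) @x0))) ?_; rfl') | exact ⟨_, rfl⟩ | exact ()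
private noncomputable def _root_.Cfsg.Agent.KO5e70d14.k1 : (by first | exact type_of% (@Subtype.val _ _ _root_.Cfsg.Agent.KO5e70d14.k1s) | exact Unit : Sort _) := by first | exact @Subtype.val _ _ _root_.Cfsg.Agent.KO5e70d14.k1s | exact ()
private theorem _root_.Cfsg.Agent.KO5e70d14.e1 : (by first | exact type_of% (show _ = @_root_.Cfsg.Agent.KO5e70d14.k1 from @Subtype.property _ _ _root_.Cfsg.Agent.KO5e70d14.k1s) | exact True : Prop) := by first | exact @Subtype.property _ _ _root_.Cfsg.Agent.KO5e70d14.k1s | trivial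
private noncomputable def _root_.Cfsg.Agent.KO5e70d14.k2l (n : Nat) (P : ∀ k, k < n → Prop) (H : ∀ k h, Decidable (P k h)) (m : Nat) : m ≤ n → Bool := @Nat.rec (fun m => m ≤ n → Bool) (fun _ => true) (fun k ih h => @Decidable.rec (P k h) (fun _ => Bool) (fun _ => false) (fun _ => ih (Nat.le_of_succ_le h)) (H k h)) m
private theorem _root_.Cfsg.Agent.KO5e70d14.k2ls (n : Nat) (P : ∀ k, k < n → Prop) (H : ∀ k h, Decidable (P k h)) (m : Nat) : ∀ h : m ≤ n, _root_.Cfsg.Agent.KO5e70d14.k2l n P H m h = true ↔ ∀ k (g : k < m), P k (Nat.lt_of_lt_of_le g h) := by induction m with | zero => exact fun _ => ⟨fun _ _ g => absurd g (Nat.not_lt_zero _), fun _ => rfl⟩ | succ m ih => intro h; show @Decidable.rec (P m h) (fun _ => Bool) (fun _ => false) (fun _ => _root_.Cfsg.Agent.KO5e70d14.k2l n P H m (Nat.le_of_succ_le h)) (H m h) = true ↔ _; cases H m h with | isFalse q => exact ⟨fun g => absurd g Bool.false_ne_true,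 fun g => absurd (g m (Nat.lt_succ_self m)) q⟩ | isTrue q => exact ⟨fun g k hk => (Nat.lt_succ_iff_lt_or_eq.1 hk).elim ((ih _).1 g k) fun e => by subst e; exact q, fun g => (ih _).2 fun k hk => g k (Nat.lt_succ_of_lt hk)⟩
private noncomputable def _root_.Cfsg.Agent.KO5e70d14.k2 (n : Nat) (P : ∀ k, k < n → Prop) (H : ∀ k h, Decidable (P k h)) : Decidable (∀ k h, P k h) := @Bool.rec (fun b => _root_.Cfsg.Agent.KO5e70d14.k2l n P H n (Nat.le_refl n) = b → Decidable (∀ k h, P k h)) (fun g => isFalse fun q => Bool.false_ne_true (g.symm.trans ((_root_.Cfsg.Agent.KO5e70d14.k2ls n P H n _).2 fun k h => q k h))) (fun g => isTrue fun k h => (_root_.Cfsg.Agent.KO5e70d14.k2ls n P H n _).1 g k h) (_root_.Cfsg.Agent.KO5e70d14.k2l n P H n (Nat.le_refl n)) rfl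
private noncomputable def _root_.Cfsg.Agent.KO5e70d14.k5 : type_of% @Nat.decEq := @(letI c0 := @Nat.beq; @(fun x0 x1 => @Bool.rec.{1} @(fun x2 => (@Eq.{1} _ (@c0 @x0 @x1) @x2) → @Decidable (@Eq.{1} _ @x0 @x1)) @(fun x2 => @Decidable.isFalse _ (@Nat.ne_of_beq_eq_false _ _ @x2)) @(fun x2 => @Decidable.isTrue _ (@Nat.eq_of_beq_eq_true _ _ @x2)) (@c0 @x0 @x1) (@Eq.refl.{1} _ (@c0 @x0 @x1))))
private noncomputable def _root_.Cfsg.Agent.KO5e70d14.k6 : type_of% @Int.decEq := @(letI c0 := @Int.rec.{1}; letI c1 := @Int.ofNat; letI c2 := @Decidable.rec.{1}; letI c3 := @Decidable.isFalse; letI c4 := @Decidable.isTrue; letI c5 := @Int.negSucc; @(fun x0 x1 => @c0 @(fun x2 => @Decidable (@Eq.{1} _ @x2 @x1)) @(fun x2 => @c0 @(fun x3 => @Decidable (@Eq.{1} _ (@c1 @x2) @x3)) @(fun x3 => @c2 _ @(fun x4 => @Decidable (@Eq.{1} _ (@c1 @x2) (@c1 @x3))) @(fun x4 => @c3 _ (@Int.decEq._proof_2 @x2 @x3 @x4)) @(fun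 x4 => @c4 _ (@Int.decEq._proof_1 @x2 @x3 @x4)) (@Cfsg.Agent.KO5e70d14.k5 @x2 @x3)) @(fun x3 => @c3 _ (@Int.decEq._proof_3 @x2 @x3)) @x1) @(fun x2 => @c0 @(fun x3 => @Decidable (@Eq.{1} _ (@c5 @x2) @x3)) @(fun x3 => @c3 _ (@Int.decEq._proof_4 @x2 @x3)) @(fun x3 => @c2 _ @(fun x4 => @Decidable (@Eq.{1} _ (@c5 @x2) (@c5 @x3))) @(fun x4 => @c3 _ (@Int.decEq._proof_6 @x2 @x3 @x4)) @(fun x4 => @c4 _ (@Int.decEq._proof_5 @x2 @x3 @x4)) (@Cfsg.Agent.KO5e70d14.k5 @x2 @x3)) @x1) @x0))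
private noncomputable def _root_.Cfsg.Agent.KO5e70d14.k7 : type_of% @Bool.decEq := @(letI c0 := @Bool.rec.{1}; letI c1 := @Decidable.isTrue; letI c2 := @rfl.{1}; letI c3 := @Decidable.isFalse; letI c4 := @Bool.noConfusion.{0}; @(fun x0 x1 => @c0 @(fun x2 => @Decidable (@Eq.{1} _ @x2 @x1)) (@c0 @(fun x2 => @Decidable (@Eq.{1} _ @Bool.false @x2)) (@c1 _ (@c2 _ _)) (@c3 _ @(fun x2 => @c4 _ _ _ @x2)) @x1) (@c0 @(fun x2 => @Decidable (@Eq.{1} _ @Bool.true @x2)) (@c3 _ @(fun x2 => @c4 _ _ _ @x2)) (@c1 _ (@c2 _ _)) @x1) @x0))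
private noncomputable def _root_.Cfsg.Agent.KO5e70d14.k8 : type_of% @Nat.decLe := @(fun x0 x1 => @Decidable.rec.{1} _ @(fun x2 => @Decidable (@LE.le.{0} _ _ @x0 @x1)) @(fun x2 => @Decidable.isFalse _ (@Nat.not_le_of_not_ble_eq_true _ _ @x2)) @(fun x2 => @Decidable.isTrue _ (@Nat.le_of_ble_eq_true _ _ @x2)) (@Cfsg.Agent.KO5e70d14.k7 (@Nat.ble @x0 @x1) @Bool.true))
private noncomputable def _root_.Cfsg.Agent.KO5e70d14.k9 : (by first | exact type_of% @Cfsg.Agent.R2.Spec.X3.PairII.instDecidableChkB | exact Unit : Sort _) := by first | (refine @Subtype.val _ (fun g => @Cfsg.Agent.R2.Spec.X3.PairII.instDecidableChkB = @g) (@Subtype.mk _ _ (@(letI c0 := @instLTNat; letI c1 := @OfNat.ofNat.{0}; letI c2 := @instOfNatNat; letI c3 := @instLENat; letI c4 := @HMul.hMul.{0, 0, 0}; letI c5 := @instHMul.{0}; letI c6 := @Int.instMul; letI c7 := @Nat.cast.{0}; letI c8 := @instNatCastInt; letI c9 := @instOfNat;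 letI c10 := @HSub.hSub.{0, 0, 0}; letI c11 := @instHSub.{0}; letI c12 := @Int.instSub; letI c13 := @Decidable.rec.{1}; letI c14 := @Decidable.isTrue; letI c15 := @forall_prop_decidable._proof_2; letI c16 := @Decidable.isFalse; letI c17 := @decidable_of_decidable_of_iff._proof_1; letI c18 := @forall_prop_decidable._proof_1; letI c19 := @Iff.mp; letI c20 := @Int.ofNat; letI c21 := @Int.mul; @(fun x0 => @decidable_of_iff' _ _ (by rewrite [← Cfsg.Agent.KO5e70d14.e1]; rfl') (@Cfsg.Agent.KO5e70d14.k2 (nat_lit 960) @(fun (x1 : @Nat) (x2 : @LT.lt.{0} @Nat @c0 @x1 (@c1 @Nat (nat_lit 960) (@c2 (nat_lit 960)))) => ((@LE.le.{0} @Nat @c3 (@c1 @Nat (nat_lit 29) (@c2 (nat_lit 29))) @x1) → ((@Eq.{1} @Int (@Cfsg.Agent.KO5e70d14.k1 (@c4 @Int @Int @Int (@c5 @Int @c6) @x0 (@c7 @Int @c8 @x1)) (@c1 @Int (nat_lit 12) (@c9 (nat_lit 12)))) (@c1 @Int (nat_lit 7) (@c9 (nat_lit 7)))) → ((x5 : @Nat) → ((@LT.lt.{0} @Nat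 @c0 @x5 (@c1 @Nat (nat_lit 14) (@c2 (nat_lit 14)))) → @Cfsg.Agent.R2.Spec.X3.PairII.InB @x0 (@c7 @Int @c8 @x1) (@c10 @Int @Int @Int (@c11 @Int @c12) (@c4 @Int @Int @Int (@c5 @Int @c6) (@c1 @Int (nat_lit 2) (@c9 (nat_lit 2))) (@c7 @Int @c8 @x5)) (@c1 @Int (nat_lit 13) (@c9 (nat_lit 13))))))))) @(fun (x1 : @Nat) (x2 : @LT.lt.{0} @Nat @c0 @x1 (@c1 @Nat (nat_lit 960) (@c2 (nat_lit 960)))) => @c13 (@LE.le.{0} @Nat @c3 (@c1 @Nat (nat_lit 29) (@c2 (nat_lit 29))) @x1) @(fun (x3 : @Decidable (@LE.le.{0} @Nat @c3 (@c1 @Nat (nat_lit 29) (@c2 (nat_lit 29))) @x1)) => @Decidable ((@LE.le.{0} @Nat @c3 (@c1 @Nat (nat_lit 29) (@c2 (nat_lit 29))) @x1) → ((@Eq.{1} @Int (@Cfsg.Agent.KO5e70d14.k1 (@c4 @Int @Int @Int (@c5 @Int @c6) @x0 (@c7 @Int @c8 @x1)) (@c1 @Int (nat_lit 12) (@c9 (nat_lit 12)))) (@c1 @Int (nat_lit 7) (@c9 (nat_lit 7)))) → ((x6 : @Nat) → ((@LT.lt.{0} @Nat @c0 @x6 (@c1 @Nat (nat_lit 14) (@c2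 (nat_lit 14)))) → @Cfsg.Agent.R2.Spec.X3.PairII.InB @x0 (@c7 @Int @c8 @x1) (@c10 @Int @Int @Int (@c11 @Int @c12) (@c4 @Int @Int @Int (@c5 @Int @c6) (@c1 @Int (nat_lit 2) (@c9 (nat_lit 2))) (@c7 @Int @c8 @x6)) (@c1 @Int (nat_lit 13) (@c9 (nat_lit 13))))))))) @(fun (x3 : @Not (@LE.le.{0} @Nat @c3 (@c1 @Nat (nat_lit 29) (@c2 (nat_lit 29))) @x1)) => @c14 ((@LE.le.{0} @Nat @c3 (@c1 @Nat (nat_lit 29) (@c2 (nat_lit 29))) @x1) → ((@Eq.{1} @Int (@Cfsg.Agent.KO5e70d14.k1 (@c4 @Int @Int @Int (@c5 @Int @c6) @x0 (@c7 @Int @c8 @x1)) (@c1 @Int (nat_lit 12) (@c9 (nat_lit 12)))) (@c1 @Int (nat_lit 7) (@c9 (nat_lit 7)))) → ((x6 : @Nat) → ((@LT.lt.{0} @Nat @c0 @x6 (@c1 @Nat (nat_lit 14) (@c2 (nat_lit 14)))) → @Cfsg.Agent.R2.Spec.X3.PairII.InB @x0 (@c7 @Int @c8 @x1) (@c10 @Int @Int @Int (@c11 @Int @c12) (@c4 @Int @Int @Int (@c5 @Int @c6) (@c1 @Int (nat_lit 2) (@c9 (nat_lit 2))) (@c7 @Int @c8 @x6)) (@c1 @Int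 (nat_lit 13) (@c9 (nat_lit 13)))))))) (@c15 (@LE.le.{0} @Nat @c3 (@c1 @Nat (nat_lit 29) (@c2 (nat_lit 29))) @x1) @(fun (x4 : @LE.le.{0} @Nat @c3 (@c1 @Nat (nat_lit 29) (@c2 (nat_lit 29))) @x1) => ((@Eq.{1} @Int (@Cfsg.Agent.KO5e70d14.k1 (@c4 @Int @Int @Int (@c5 @Int @c6) @x0 (@c7 @Int @c8 @x1)) (@c1 @Int (nat_lit 12) (@c9 (nat_lit 12)))) (@c1 @Int (nat_lit 7) (@c9 (nat_lit 7)))) → ((x6 : @Nat) → ((@LT.lt.{0} @Nat @c0 @x6 (@c1 @Nat (nat_lit 14) (@c2 (nat_lit 14)))) → @Cfsg.Agent.R2.Spec.X3.PairII.InB @x0 (@c7 @Int @c8 @x1) (@c10 @Int @Int @Int (@c11 @Int @c12) (@c4 @Int @Int @Int (@c5 @Int @c6) (@c1 @Int (nat_lit 2) (@c9 (nat_lit 2))) (@c7 @Int @c8 @x6)) (@c1 @Int (nat_lit 13) (@c9 (nat_lit 13)))))))) @x3)) @(fun (x3 : @LE.le.{0} @Nat @c3 (@c1 @Nat (nat_lit 29) (@c2 (nat_lit 29))) @x1) => @c13 ((@Eq.{1} @Int (@Cfsg.Agent.KO5e70d14.k1 (@c4 @Int @Int @Int (@c5 @Int @c6) @x0 (@c7 @Int @c8 @x1))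 (@c1 @Int (nat_lit 12) (@c9 (nat_lit 12)))) (@c1 @Int (nat_lit 7) (@c9 (nat_lit 7)))) → ((x5 : @Nat) → ((@LT.lt.{0} @Nat @c0 @x5 (@c1 @Nat (nat_lit 14) (@c2 (nat_lit 14)))) → @Cfsg.Agent.R2.Spec.X3.PairII.InB @x0 (@c7 @Int @c8 @x1) (@c10 @Int @Int @Int (@c11 @Int @c12) (@c4 @Int @Int @Int (@c5 @Int @c6) (@c1 @Int (nat_lit 2) (@c9 (nat_lit 2))) (@c7 @Int @c8 @x5)) (@c1 @Int (nat_lit 13) (@c9 (nat_lit 13))))))) @(fun (x4 : @Decidable ((@Eq.{1} @Int (@Cfsg.Agent.KO5e70d14.k1 (@c4 @Int @Int @Int (@c5 @Int @c6) @x0 (@c7 @Int @c8 @x1)) (@c1 @Int (nat_lit 12) (@c9 (nat_lit 12)))) (@c1 @Int (nat_lit 7) (@c9 (nat_lit 7)))) → ((x5 : @Nat) → ((@LT.lt.{0} @Nat @c0 @x5 (@c1 @Nat (nat_lit 14) (@c2 (nat_lit 14)))) → @Cfsg.Agent.R2.Spec.X3.PairII.InB @x0 (@c7 @Int @c8 @x1) (@c10 @Int @Int @Int (@c11 @Int @c12) (@c4 @Int @Int @Int (@c5 @Int @c6) (@c1 @Int (nat_lit 2) (@c9 (nat_lit 2))) (@c7 @Int @c8 @x5))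 (@c1 @Int (nat_lit 13) (@c9 (nat_lit 13)))))))) => @Decidable ((@LE.le.{0} @Nat @c3 (@c1 @Nat (nat_lit 29) (@c2 (nat_lit 29))) @x1) → ((@Eq.{1} @Int (@Cfsg.Agent.KO5e70d14.k1 (@c4 @Int @Int @Int (@c5 @Int @c6) @x0 (@c7 @Int @c8 @x1)) (@c1 @Int (nat_lit 12) (@c9 (nat_lit 12)))) (@c1 @Int (nat_lit 7) (@c9 (nat_lit 7)))) → ((x7 : @Nat) → ((@LT.lt.{0} @Nat @c0 @x7 (@c1 @Nat (nat_lit 14) (@c2 (nat_lit 14)))) → @Cfsg.Agent.R2.Spec.X3.PairII.InB @x0 (@c7 @Int @c8 @x1) (@c10 @Int @Int @Int (@c11 @Int @c12) (@c4 @Int @Int @Int (@c5 @Int @c6) (@c1 @Int (nat_lit 2) (@c9 (nat_lit 2))) (@c7 @Int @c8 @x7)) (@c1 @Int (nat_lit 13) (@c9 (nat_lit 13))))))))) @(fun (x4 : @Not ((@Eq.{1} @Int (@Cfsg.Agent.KO5e70d14.k1 (@c4 @Int @Int @Int (@c5 @Int @c6) @x0 (@c7 @Int @c8 @x1)) (@c1 @Int (nat_lit 12) (@c9 (nat_lit 12)))) (@c1 @Int (nat_lit 7) (@c9 (nat_lit 7)))) → ((x5 : @Nat) → ((@LT.lt.{0} @Nat @c0 @x5 (@c1 @Nat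 (nat_lit 14) (@c2 (nat_lit 14)))) → @Cfsg.Agent.R2.Spec.X3.PairII.InB @x0 (@c7 @Int @c8 @x1) (@c10 @Int @Int @Int (@c11 @Int @c12) (@c4 @Int @Int @Int (@c5 @Int @c6) (@c1 @Int (nat_lit 2) (@c9 (nat_lit 2))) (@c7 @Int @c8 @x5)) (@c1 @Int (nat_lit 13) (@c9 (nat_lit 13)))))))) => @c16 ((@LE.le.{0} @Nat @c3 (@c1 @Nat (nat_lit 29) (@c2 (nat_lit 29))) @x1) → ((@Eq.{1} @Int (@Cfsg.Agent.KO5e70d14.k1 (@c4 @Int @Int @Int (@c5 @Int @c6) @x0 (@c7 @Int @c8 @x1)) (@c1 @Int (nat_lit 12) (@c9 (nat_lit 12)))) (@c1 @Int (nat_lit 7) (@c9 (nat_lit 7)))) → ((x7 : @Nat) → ((@LT.lt.{0} @Nat @c0 @x7 (@c1 @Nat (nat_lit 14) (@c2 (nat_lit 14)))) → @Cfsg.Agent.R2.Spec.X3.PairII.InB @x0 (@c7 @Int @c8 @x1) (@c10 @Int @Int @Int (@c11 @Int @c12) (@c4 @Int @Int @Int (@c5 @Int @c6) (@c1 @Int (nat_lit 2) (@c9 (nat_lit 2))) (@c7 @Int @c8 @x7)) (@c1 @Int (nat_lit 13) (@c9 (nat_lit 13)))))))) (@c17 ((@Eq.{1} @Int (@Cfsg.Agent.KO5e70d14.k1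 (@c4 @Int @Int @Int (@c5 @Int @c6) @x0 (@c7 @Int @c8 @x1)) (@c1 @Int (nat_lit 12) (@c9 (nat_lit 12)))) (@c1 @Int (nat_lit 7) (@c9 (nat_lit 7)))) → ((x6 : @Nat) → ((@LT.lt.{0} @Nat @c0 @x6 (@c1 @Nat (nat_lit 14) (@c2 (nat_lit 14)))) → @Cfsg.Agent.R2.Spec.X3.PairII.InB @x0 (@c7 @Int @c8 @x1) (@c10 @Int @Int @Int (@c11 @Int @c12) (@c4 @Int @Int @Int (@c5 @Int @c6) (@c1 @Int (nat_lit 2) (@c9 (nat_lit 2))) (@c7 @Int @c8 @x6)) (@c1 @Int (nat_lit 13) (@c9 (nat_lit 13))))))) ((@LE.le.{0} @Nat @c3 (@c1 @Nat (nat_lit 29) (@c2 (nat_lit 29))) @x1) → ((@Eq.{1} @Int (@Cfsg.Agent.KO5e70d14.k1 (@c4 @Int @Int @Int (@c5 @Int @c6) @x0 (@c7 @Int @c8 @x1)) (@c1 @Int (nat_lit 12) (@c9 (nat_lit 12)))) (@c1 @Int (nat_lit 7) (@c9 (nat_lit 7)))) → ((x7 : @Nat) → ((@LT.lt.{0} @Nat @c0 @x7 (@c1 @Nat (nat_lit 14) (@c2 (nat_lit 14)))) → @Cfsg.Agent.R2.Spec.X3.PairII.InB @x0 (@c7 @Int @c8 @x1) (@c10 @Int @Int @Int (@c11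 @Int @c12) (@c4 @Int @Int @Int (@c5 @Int @c6) (@c1 @Int (nat_lit 2) (@c9 (nat_lit 2))) (@c7 @Int @c8 @x7)) (@c1 @Int (nat_lit 13) (@c9 (nat_lit 13)))))))) (@c18 (@LE.le.{0} @Nat @c3 (@c1 @Nat (nat_lit 29) (@c2 (nat_lit 29))) @x1) @(fun (x5 : @LE.le.{0} @Nat @c3 (@c1 @Nat (nat_lit 29) (@c2 (nat_lit 29))) @x1) => ((@Eq.{1} @Int (@Cfsg.Agent.KO5e70d14.k1 (@c4 @Int @Int @Int (@c5 @Int @c6) @x0 (@c7 @Int @c8 @x1)) (@c1 @Int (nat_lit 12) (@c9 (nat_lit 12)))) (@c1 @Int (nat_lit 7) (@c9 (nat_lit 7)))) → ((x7 : @Nat) → ((@LT.lt.{0} @Nat @c0 @x7 (@c1 @Nat (nat_lit 14) (@c2 (nat_lit 14)))) → @Cfsg.Agent.R2.Spec.X3.PairII.InB @x0 (@c7 @Int @c8 @x1) (@c10 @Int @Int @Int (@c11 @Int @c12) (@c4 @Int @Int @Int (@c5 @Int @c6) (@c1 @Int (nat_lit 2) (@c9 (nat_lit 2))) (@c7 @Int @c8 @x7)) (@c1 @Int (nat_lit 13) (@c9 (nat_lit 13)))))))) @x3) @x4)) @(fun (x4 : ((@Eq.{1} @Int (@Cfsg.Agent.KO5e70d14.k1 (@c4 @Int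 @Int @Int (@c5 @Int @c6) @x0 (@c7 @Int @c8 @x1)) (@c1 @Int (nat_lit 12) (@c9 (nat_lit 12)))) (@c1 @Int (nat_lit 7) (@c9 (nat_lit 7)))) → ((x5 : @Nat) → ((@LT.lt.{0} @Nat @c0 @x5 (@c1 @Nat (nat_lit 14) (@c2 (nat_lit 14)))) → @Cfsg.Agent.R2.Spec.X3.PairII.InB @x0 (@c7 @Int @c8 @x1) (@c10 @Int @Int @Int (@c11 @Int @c12) (@c4 @Int @Int @Int (@c5 @Int @c6) (@c1 @Int (nat_lit 2) (@c9 (nat_lit 2))) (@c7 @Int @c8 @x5)) (@c1 @Int (nat_lit 13) (@c9 (nat_lit 13)))))))) => @c14 ((@LE.le.{0} @Nat @c3 (@c1 @Nat (nat_lit 29) (@c2 (nat_lit 29))) @x1) → ((@Eq.{1} @Int (@Cfsg.Agent.KO5e70d14.k1 (@c4 @Int @Int @Int (@c5 @Int @c6) @x0 (@c7 @Int @c8 @x1)) (@c1 @Int (nat_lit 12) (@c9 (nat_lit 12)))) (@c1 @Int (nat_lit 7) (@c9 (nat_lit 7)))) → ((x7 : @Nat) → ((@LT.lt.{0} @Nat @c0 @x7 (@c1 @Nat (nat_lit 14) (@c2 (nat_lit 14)))) → @Cfsg.Agent.R2.Spec.X3.PairII.InB @x0 (@c7 @Int @c8 @x1) (@c10 @Int @Int @Int (@c11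 @Int @c12) (@c4 @Int @Int @Int (@c5 @Int @c6) (@c1 @Int (nat_lit 2) (@c9 (nat_lit 2))) (@c7 @Int @c8 @x7)) (@c1 @Int (nat_lit 13) (@c9 (nat_lit 13)))))))) (@c19 ((@Eq.{1} @Int (@Cfsg.Agent.KO5e70d14.k1 (@c4 @Int @Int @Int (@c5 @Int @c6) @x0 (@c7 @Int @c8 @x1)) (@c1 @Int (nat_lit 12) (@c9 (nat_lit 12)))) (@c1 @Int (nat_lit 7) (@c9 (nat_lit 7)))) → ((x6 : @Nat) → ((@LT.lt.{0} @Nat @c0 @x6 (@c1 @Nat (nat_lit 14) (@c2 (nat_lit 14)))) → @Cfsg.Agent.R2.Spec.X3.PairII.InB @x0 (@c7 @Int @c8 @x1) (@c10 @Int @Int @Int (@c11 @Int @c12) (@c4 @Int @Int @Int (@c5 @Int @c6) (@c1 @Int (nat_lit 2) (@c9 (nat_lit 2))) (@c7 @Int @c8 @x6)) (@c1 @Int (nat_lit 13) (@c9 (nat_lit 13))))))) ((@LE.le.{0} @Nat @c3 (@c1 @Nat (nat_lit 29) (@c2 (nat_lit 29))) @x1) → ((@Eq.{1} @Int (@Cfsg.Agent.KO5e70d14.k1 (@c4 @Int @Int @Int (@c5 @Int @c6) @x0 (@c7 @Int @c8 @x1)) (@c1 @Int (nat_lit 12) (@c9 (nat_lit 12)))) (@c1 @Int (nat_lit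 7) (@c9 (nat_lit 7)))) → ((x7 : @Nat) → ((@LT.lt.{0} @Nat @c0 @x7 (@c1 @Nat (nat_lit 14) (@c2 (nat_lit 14)))) → @Cfsg.Agent.R2.Spec.X3.PairII.InB @x0 (@c7 @Int @c8 @x1) (@c10 @Int @Int @Int (@c11 @Int @c12) (@c4 @Int @Int @Int (@c5 @Int @c6) (@c1 @Int (nat_lit 2) (@c9 (nat_lit 2))) (@c7 @Int @c8 @x7)) (@c1 @Int (nat_lit 13) (@c9 (nat_lit 13)))))))) (@c18 (@LE.le.{0} @Nat @c3 (@c1 @Nat (nat_lit 29) (@c2 (nat_lit 29))) @x1) @(fun (x5 : @LE.le.{0} @Nat @c3 (@c1 @Nat (nat_lit 29) (@c2 (nat_lit 29))) @x1) => ((@Eq.{1} @Int (@Cfsg.Agent.KO5e70d14.k1 (@c4 @Int @Int @Int (@c5 @Int @c6) @x0 (@c7 @Int @c8 @x1)) (@c1 @Int (nat_lit 12) (@c9 (nat_lit 12)))) (@c1 @Int (nat_lit 7) (@c9 (nat_lit 7)))) → ((x7 : @Nat) → ((@LT.lt.{0} @Nat @c0 @x7 (@c1 @Nat (nat_lit 14) (@c2 (nat_lit 14)))) → @Cfsg.Agent.R2.Spec.X3.PairII.InB @x0 (@c7 @Int @c8 @x1) (@c10 @Int @Int @Int (@c11 @Int @c12) (@c4 @Int @Int @Int (@c5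 @Int @c6) (@c1 @Int (nat_lit 2) (@c9 (nat_lit 2))) (@c7 @Int @c8 @x7)) (@c1 @Int (nat_lit 13) (@c9 (nat_lit 13)))))))) @x3) @x4)) (@c13 (@Eq.{1} @Int (@Cfsg.Agent.KO5e70d14.k1 (@c4 @Int @Int @Int (@c5 @Int @c6) @x0 (@c7 @Int @c8 @x1)) (@c1 @Int (nat_lit 12) (@c9 (nat_lit 12)))) (@c1 @Int (nat_lit 7) (@c9 (nat_lit 7)))) @(fun (x4 : @Decidable (@Eq.{1} @Int (@Cfsg.Agent.KO5e70d14.k1 (@c4 @Int @Int @Int (@c5 @Int @c6) @x0 (@c7 @Int @c8 @x1)) (@c1 @Int (nat_lit 12) (@c9 (nat_lit 12)))) (@c1 @Int (nat_lit 7) (@c9 (nat_lit 7))))) => @Decidable ((@Eq.{1} @Int (@Cfsg.Agent.KO5e70d14.k1 (@c4 @Int @Int @Int (@c5 @Int @c6) @x0 (@c7 @Int @c8 @x1)) (@c1 @Int (nat_lit 12) (@c9 (nat_lit 12)))) (@c1 @Int (nat_lit 7) (@c9 (nat_lit 7)))) → ((x6 : @Nat) → ((@LT.lt.{0} @Nat @c0 @x6 (@c1 @Nat (nat_lit 14) (@c2 (nat_lit 14)))) → @Cfsg.Agent.R2.Spec.X3.PairII.InB @x0 (@c7 @Int @c8 @x1) (@c10 @Int @Int @Int (@c11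 @Int @c12) (@c4 @Int @Int @Int (@c5 @Int @c6) (@c1 @Int (nat_lit 2) (@c9 (nat_lit 2))) (@c7 @Int @c8 @x6)) (@c1 @Int (nat_lit 13) (@c9 (nat_lit 13)))))))) @(fun (x4 : @Not (@Eq.{1} @Int (@Cfsg.Agent.KO5e70d14.k1 (@c4 @Int @Int @Int (@c5 @Int @c6) @x0 (@c7 @Int @c8 @x1)) (@c1 @Int (nat_lit 12) (@c9 (nat_lit 12)))) (@c1 @Int (nat_lit 7) (@c9 (nat_lit 7))))) => @c14 ((@Eq.{1} @Int (@Cfsg.Agent.KO5e70d14.k1 (@c4 @Int @Int @Int (@c5 @Int @c6) @x0 (@c7 @Int @c8 @x1)) (@c1 @Int (nat_lit 12) (@c9 (nat_lit 12)))) (@c1 @Int (nat_lit 7) (@c9 (nat_lit 7)))) → ((x6 : @Nat) → ((@LT.lt.{0} @Nat @c0 @x6 (@c1 @Nat (nat_lit 14) (@c2 (nat_lit 14)))) → @Cfsg.Agent.R2.Spec.X3.PairII.InB @x0 (@c7 @Int @c8 @x1) (@c10 @Int @Int @Int (@c11 @Int @c12) (@c4 @Int @Int @Int (@c5 @Int @c6) (@c1 @Int (nat_lit 2) (@c9 (nat_lit 2))) (@c7 @Int @c8 @x6)) (@c1 @Int (nat_lit 13) (@c9 (nat_lit 13))))))) (@c15 (@Eq.{1} @Int (@Cfsg.Agent.KO5e70d14.k1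 (@c4 @Int @Int @Int (@c5 @Int @c6) @x0 (@c7 @Int @c8 @x1)) (@c1 @Int (nat_lit 12) (@c9 (nat_lit 12)))) (@c1 @Int (nat_lit 7) (@c9 (nat_lit 7)))) @(fun (x5 : @Eq.{1} @Int (@Cfsg.Agent.KO5e70d14.k1 (@c4 @Int @Int @Int (@c5 @Int @c6) @x0 (@c7 @Int @c8 @x1)) (@c1 @Int (nat_lit 12) (@c9 (nat_lit 12)))) (@c1 @Int (nat_lit 7) (@c9 (nat_lit 7)))) => ((x6 : @Nat) → ((@LT.lt.{0} @Nat @c0 @x6 (@c1 @Nat (nat_lit 14) (@c2 (nat_lit 14)))) → @Cfsg.Agent.R2.Spec.X3.PairII.InB @x0 (@c7 @Int @c8 @x1) (@c10 @Int @Int @Int (@c11 @Int @c12) (@c4 @Int @Int @Int (@c5 @Int @c6) (@c1 @Int (nat_lit 2) (@c9 (nat_lit 2))) (@c7 @Int @c8 @x6)) (@c1 @Int (nat_lit 13) (@c9 (nat_lit 13))))))) @x4)) @(fun (x4 : @Eq.{1} @Int (@Cfsg.Agent.KO5e70d14.k1 (@c4 @Int @Int @Int (@c5 @Int @c6) @x0 (@c7 @Int @c8 @x1)) (@c1 @Int (nat_lit 12) (@c9 (nat_lit 12)))) (@c1 @Int (nat_lit 7) (@c9 (nat_lit 7)))) => @c13 ((x5 : @Nat) → ((@LT.lt.{0}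 @Nat @c0 @x5 (@c1 @Nat (nat_lit 14) (@c2 (nat_lit 14)))) → @Cfsg.Agent.R2.Spec.X3.PairII.InB @x0 (@c7 @Int @c8 @x1) (@c10 @Int @Int @Int (@c11 @Int @c12) (@c4 @Int @Int @Int (@c5 @Int @c6) (@c1 @Int (nat_lit 2) (@c9 (nat_lit 2))) (@c7 @Int @c8 @x5)) (@c1 @Int (nat_lit 13) (@c9 (nat_lit 13)))))) @(fun (x5 : @Decidable ((x5 : @Nat) → ((@LT.lt.{0} @Nat @c0 @x5 (@c1 @Nat (nat_lit 14) (@c2 (nat_lit 14)))) → @Cfsg.Agent.R2.Spec.X3.PairII.InB @x0 (@c7 @Int @c8 @x1) (@c10 @Int @Int @Int (@c11 @Int @c12) (@c4 @Int @Int @Int (@c5 @Int @c6) (@c1 @Int (nat_lit 2) (@c9 (nat_lit 2))) (@c7 @Int @c8 @x5)) (@c1 @Int (nat_lit 13) (@c9 (nat_lit 13))))))) => @Decidable ((@Eq.{1} @Int (@Cfsg.Agent.KO5e70d14.k1 (@c4 @Int @Int @Int (@c5 @Int @c6) @x0 (@c7 @Int @c8 @x1)) (@c1 @Int (nat_lit 12) (@c9 (nat_lit 12)))) (@c1 @Int (nat_lit 7) (@c9 (nat_lit 7)))) → ((x7 : @Nat) → ((@LT.lt.{0} @Nat @c0 @x7 (@c1 @Nat (nat_lit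 14) (@c2 (nat_lit 14)))) → @Cfsg.Agent.R2.Spec.X3.PairII.InB @x0 (@c7 @Int @c8 @x1) (@c10 @Int @Int @Int (@c11 @Int @c12) (@c4 @Int @Int @Int (@c5 @Int @c6) (@c1 @Int (nat_lit 2) (@c9 (nat_lit 2))) (@c7 @Int @c8 @x7)) (@c1 @Int (nat_lit 13) (@c9 (nat_lit 13)))))))) @(fun (x5 : @Not ((x5 : @Nat) → ((@LT.lt.{0} @Nat @c0 @x5 (@c1 @Nat (nat_lit 14) (@c2 (nat_lit 14)))) → @Cfsg.Agent.R2.Spec.X3.PairII.InB @x0 (@c7 @Int @c8 @x1) (@c10 @Int @Int @Int (@c11 @Int @c12) (@c4 @Int @Int @Int (@c5 @Int @c6) (@c1 @Int (nat_lit 2) (@c9 (nat_lit 2))) (@c7 @Int @c8 @x5)) (@c1 @Int (nat_lit 13) (@c9 (nat_lit 13))))))) => @c16 ((@Eq.{1} @Int (@Cfsg.Agent.KO5e70d14.k1 (@c4 @Int @Int @Int (@c5 @Int @c6) @x0 (@c7 @Int @c8 @x1)) (@c1 @Int (nat_lit 12) (@c9 (nat_lit 12)))) (@c1 @Int (nat_lit 7) (@c9 (nat_lit 7)))) → ((x7 : @Nat) → ((@LT.lt.{0} @Nat @c0 @x7 (@c1 @Nat (nat_lit 14) (@c2 (nat_lit 14)))) → @Cfsg.Agent.R2.Spec.X3.PairII.InB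 @x0 (@c7 @Int @c8 @x1) (@c10 @Int @Int @Int (@c11 @Int @c12) (@c4 @Int @Int @Int (@c5 @Int @c6) (@c1 @Int (nat_lit 2) (@c9 (nat_lit 2))) (@c7 @Int @c8 @x7)) (@c1 @Int (nat_lit 13) (@c9 (nat_lit 13))))))) (@c17 ((x6 : @Nat) → ((@LT.lt.{0} @Nat @c0 @x6 (@c1 @Nat (nat_lit 14) (@c2 (nat_lit 14)))) → @Cfsg.Agent.R2.Spec.X3.PairII.InB @x0 (@c7 @Int @c8 @x1) (@c10 @Int @Int @Int (@c11 @Int @c12) (@c4 @Int @Int @Int (@c5 @Int @c6) (@c1 @Int (nat_lit 2) (@c9 (nat_lit 2))) (@c7 @Int @c8 @x6)) (@c1 @Int (nat_lit 13) (@c9 (nat_lit 13)))))) ((@Eq.{1} @Int (@Cfsg.Agent.KO5e70d14.k1 (@c4 @Int @Int @Int (@c5 @Int @c6) @x0 (@c7 @Int @c8 @x1)) (@c1 @Int (nat_lit 12) (@c9 (nat_lit 12)))) (@c1 @Int (nat_lit 7) (@c9 (nat_lit 7)))) → ((x7 : @Nat) → ((@LT.lt.{0} @Nat @c0 @x7 (@c1 @Nat (nat_lit 14) (@c2 (nat_lit 14)))) → @Cfsg.Agent.R2.Spec.X3.PairII.InB @x0 (@c7 @Int @c8 @x1) (@c10 @Int @Int @Int (@c11 @Int @c12)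 (@c4 @Int @Int @Int (@c5 @Int @c6) (@c1 @Int (nat_lit 2) (@c9 (nat_lit 2))) (@c7 @Int @c8 @x7)) (@c1 @Int (nat_lit 13) (@c9 (nat_lit 13))))))) (@c18 (@Eq.{1} @Int (@Cfsg.Agent.KO5e70d14.k1 (@c4 @Int @Int @Int (@c5 @Int @c6) @x0 (@c7 @Int @c8 @x1)) (@c1 @Int (nat_lit 12) (@c9 (nat_lit 12)))) (@c1 @Int (nat_lit 7) (@c9 (nat_lit 7)))) @(fun (x6 : @Eq.{1} @Int (@Cfsg.Agent.KO5e70d14.k1 (@c4 @Int @Int @Int (@c5 @Int @c6) @x0 (@c7 @Int @c8 @x1)) (@c1 @Int (nat_lit 12) (@c9 (nat_lit 12)))) (@c1 @Int (nat_lit 7) (@c9 (nat_lit 7)))) => ((x7 : @Nat) → ((@LT.lt.{0} @Nat @c0 @x7 (@c1 @Nat (nat_lit 14) (@c2 (nat_lit 14)))) → @Cfsg.Agent.R2.Spec.X3.PairII.InB @x0 (@c7 @Int @c8 @x1) (@c10 @Int @Int @Int (@c11 @Int @c12) (@c4 @Int @Int @Int (@c5 @Int @c6) (@c1 @Int (nat_lit 2) (@c9 (nat_lit 2))) (@c7 @Int @c8 @x7)) (@c1 @Int (nat_lit 13) (@c9 (nat_lit 13))))))) @x4) @x5)) @(fun (x5 : ((x5 : @Nat) → ((@LT.lt.{0}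 @Nat @c0 @x5 (@c1 @Nat (nat_lit 14) (@c2 (nat_lit 14)))) → @Cfsg.Agent.R2.Spec.X3.PairII.InB @x0 (@c7 @Int @c8 @x1) (@c10 @Int @Int @Int (@c11 @Int @c12) (@c4 @Int @Int @Int (@c5 @Int @c6) (@c1 @Int (nat_lit 2) (@c9 (nat_lit 2))) (@c7 @Int @c8 @x5)) (@c1 @Int (nat_lit 13) (@c9 (nat_lit 13))))))) => @c14 ((@Eq.{1} @Int (@Cfsg.Agent.KO5e70d14.k1 (@c4 @Int @Int @Int (@c5 @Int @c6) @x0 (@c7 @Int @c8 @x1)) (@c1 @Int (nat_lit 12) (@c9 (nat_lit 12)))) (@c1 @Int (nat_lit 7) (@c9 (nat_lit 7)))) → ((x7 : @Nat) → ((@LT.lt.{0} @Nat @c0 @x7 (@c1 @Nat (nat_lit 14) (@c2 (nat_lit 14)))) → @Cfsg.Agent.R2.Spec.X3.PairII.InB @x0 (@c7 @Int @c8 @x1) (@c10 @Int @Int @Int (@c11 @Int @c12) (@c4 @Int @Int @Int (@c5 @Int @c6) (@c1 @Int (nat_lit 2) (@c9 (nat_lit 2))) (@c7 @Int @c8 @x7)) (@c1 @Int (nat_lit 13) (@c9 (nat_lit 13))))))) (@c19 ((x6 : @Nat) → ((@LT.lt.{0} @Nat @c0 @x6 (@c1 @Nat (nat_lit 14) (@c2 (nat_lit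 14)))) → @Cfsg.Agent.R2.Spec.X3.PairII.InB @x0 (@c7 @Int @c8 @x1) (@c10 @Int @Int @Int (@c11 @Int @c12) (@c4 @Int @Int @Int (@c5 @Int @c6) (@c1 @Int (nat_lit 2) (@c9 (nat_lit 2))) (@c7 @Int @c8 @x6)) (@c1 @Int (nat_lit 13) (@c9 (nat_lit 13)))))) ((@Eq.{1} @Int (@Cfsg.Agent.KO5e70d14.k1 (@c4 @Int @Int @Int (@c5 @Int @c6) @x0 (@c7 @Int @c8 @x1)) (@c1 @Int (nat_lit 12) (@c9 (nat_lit 12)))) (@c1 @Int (nat_lit 7) (@c9 (nat_lit 7)))) → ((x7 : @Nat) → ((@LT.lt.{0} @Nat @c0 @x7 (@c1 @Nat (nat_lit 14) (@c2 (nat_lit 14)))) → @Cfsg.Agent.R2.Spec.X3.PairII.InB @x0 (@c7 @Int @c8 @x1) (@c10 @Int @Int @Int (@c11 @Int @c12) (@c4 @Int @Int @Int (@c5 @Int @c6) (@c1 @Int (nat_lit 2) (@c9 (nat_lit 2))) (@c7 @Int @c8 @x7)) (@c1 @Int (nat_lit 13) (@c9 (nat_lit 13))))))) (@c18 (@Eq.{1} @Int (@Cfsg.Agent.KO5e70d14.k1 (@c4 @Int @Int @Int (@c5 @Int @c6) @x0 (@c7 @Int @c8 @x1)) (@c1 @Int (nat_lit 12) (@c9 (nat_lit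 12)))) (@c1 @Int (nat_lit 7) (@c9 (nat_lit 7)))) @(fun (x6 : @Eq.{1} @Int (@Cfsg.Agent.KO5e70d14.k1 (@c4 @Int @Int @Int (@c5 @Int @c6) @x0 (@c7 @Int @c8 @x1)) (@c1 @Int (nat_lit 12) (@c9 (nat_lit 12)))) (@c1 @Int (nat_lit 7) (@c9 (nat_lit 7)))) => ((x7 : @Nat) → ((@LT.lt.{0} @Nat @c0 @x7 (@c1 @Nat (nat_lit 14) (@c2 (nat_lit 14)))) → @Cfsg.Agent.R2.Spec.X3.PairII.InB @x0 (@c7 @Int @c8 @x1) (@c10 @Int @Int @Int (@c11 @Int @c12) (@c4 @Int @Int @Int (@c5 @Int @c6) (@c1 @Int (nat_lit 2) (@c9 (nat_lit 2))) (@c7 @Int @c8 @x7)) (@c1 @Int (nat_lit 13) (@c9 (nat_lit 13))))))) @x4) @x5)) (@Cfsg.Agent.KO5e70d14.k2 (nat_lit 14) @(fun (x5 : @Nat) (x6 : @LT.lt.{0} @Nat @c0 @x5 (@c1 @Nat (nat_lit 14) (@c2 (nat_lit 14)))) => @Cfsg.Agent.R2.Spec.X3.PairII.InB @x0 (@c7 @Int @c8 @x1) (@c10 @Int @Int @Int (@c11 @Int @c12) (@c4 @Int @Int @Int (@c5 @Int @c6) (@c1 @Int (nat_lit 2) (@c9 (nat_lit 2))) (@c7 @Int @c8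 @x5)) (@c1 @Int (nat_lit 13) (@c9 (nat_lit 13))))) @(fun (x5 : @Nat) (x6 : @LT.lt.{0} @Nat @c0 @x5 (@c1 @Nat (nat_lit 14) (@c2 (nat_lit 14)))) => @Cfsg.Agent.R2.Spec.X3.PairII.instDecidableInB @x0 (@c20 @x1) (@Int.add (@c21 (@c20 (nat_lit 2)) (@c20 @x5)) (@Int.negSucc (nat_lit 12)))))) (@Cfsg.Agent.KO5e70d14.k6 (@Cfsg.Agent.KO5e70d14.k1 (@c21 @x0 (@c20 @x1)) (@c20 (nat_lit 12))) (@c20 (nat_lit 7))))) (@Cfsg.Agent.KO5e70d14.k8 (nat_lit 29) @x1)))))) ?_); exact Subsingleton.elim _ _) | exact @Cfsg.Agent.R2.Spec.X3.PairII.instDecidableChkB | exact ()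
private theorem _root_.Cfsg.Agent.KO5e70d14.e9 : (by first | exact @Cfsg.Agent.R2.Spec.X3.PairII.instDecidableChkB = @_root_.Cfsg.Agent.KO5e70d14.k9 | exact True : Prop) := by first | (delta _root_.Cfsg.Agent.KO5e70d14.k9; exact @Subtype.property _ (fun g => @Cfsg.Agent.R2.Spec.X3.PairII.instDecidableChkB = @g) _) | rfl | trivial

theorem chkB1 : ChkB 1 := by (first | (refine of_decide_eq_true ?_; rewrite [Cfsg.Agent.KO5e70d14.e0, Cfsg.Agent.KO5e70d14.e9]; decide +kernel) | decide +kernel)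
private noncomputable def _root_.Cfsg.Agent.KO5e70d14.k10 : type_of% @Int.neg := @(letI c0 := @Int.ofNat; @(fun x0 => @Int.rec.{1} @(fun x1 => ℤ) @(fun x1 => @Nat.rec.{1} @(fun x2 => ℤ) (@c0 (nat_lit 0)) @(fun x2 x3 => @Int.negSucc @x2) @x1) @(fun x1 => @c0 (@Nat.succ @x1)) @x0))
private theorem _root_.Cfsg.Agent.KO5e70d14.e10 : @Int.neg = @_root_.Cfsg.Agent.KO5e70d14.k10 := by delta _root_.Cfsg.Agent.KO5e70d14.k10; rfl'
private noncomputable def _root_.Cfsg.Agent.KO5e70d14.k11s : (by first | exact Subtype (fun g => @Neg.neg.{0} (ℤ) _ = @g) | exact Unit : Sort _) := by first | (refine @Subtype.mk _ _ (@Cfsg.Agent.KO5e70d14.k10) ?_; rewrite [← Cfsg.Agent.KO5e70d14.e10]; rfl') | exact ⟨_, rfl⟩ | exact ()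
private noncomputable def _root_.Cfsg.Agent.KO5e70d14.k11 : (by first | exact type_of% (@Subtype.val _ _ _root_.Cfsg.Agent.KO5e70d14.k11s) | exact Unit : Sort _) := by first | exact @Subtype.val _ _ _root_.Cfsg.Agent.KO5e70d14.k11s | exact ()
private theorem _root_.Cfsg.Agent.KO5e70d14.e11 : (by first | exact type_of% (show _ = @_root_.Cfsg.Agent.KO5e70d14.k11 from @Subtype.property _ _ _root_.Cfsg.Agent.KO5e70d14.k11s) | exact True : Prop) := by first | exact @Subtype.property _ _ _root_.Cfsg.Agent.KO5e70d14.k11s | trivial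

theorem chkB2 : ChkB (-1) := by (first | (refine of_decide_eq_true ?_; rewrite [Cfsg.Agent.KO5e70d14.e11, Cfsg.Agent.KO5e70d14.e0, Cfsg.Agent.KO5e70d14.e9]; decide +kernel) | decide +kernel)

/-- the check for `N (3 (y - s) + z) = y (y² - 1)` -/
def InD (s y z : ℤ) : Prop := (y * (y ^ 2 - 1)) % (3 * (y - s) + z) = 0 →
  ((y ^ 2 + s * y + 1) - 3 * ((y * (y ^ 2 - 1)) / (3 * (y - s) + z))) ^ 2 ≤ 15 * (y ^ 2 + s * y + 1) →
  z = 0 ∨ z = 6 * s ∨ y ∈ ([55, 91, 65, 689] : List ℤ)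

instance (s y z : ℤ) : Decidable (InD s y z) := by unfold InD; infer_instance

/-- the finite check, `a = 1`, `d = 3` -/
def ChkD (s : ℤ) : Prop := ∀ y < 1600, 29 ≤ y → (s * (y : ℕ)) % 12 = 7 → ∀ z < 15, InD s y (2 * (z : ℕ) - 14)

instance (s : ℤ) : Decidable (ChkD s) := by unfold ChkD; infer_instance

private noncomputable def _root_.Cfsg.Agent.KO5e70d14.k12 : (by first | exact type_of% @Cfsg.Agent.R2.Spec.X3.PairII.instDecidableChkD | exact Unit : Sort _) := by first | (refine @Subtype.val _ (fun g => @Cfsg.Agent.R2.Spec.X3.PairII.instDecidableChkD = @g) (@Subtype.mk _ _ (@(letI c0 := @instLTNat; letI c1 := @OfNat.ofNat.{0}; letI c2 := @instOfNatNat; letI c3 := @instLENat; letI c4 := @HMul.hMul.{0, 0, 0}; letI c5 := @instHMul.{0}; letI c6 := @Int.instMul; letI c7 := @Nat.cast.{0}; letI c8 := @instNatCastInt; letI c9 := @instOfNat; letI c10 := @HSub.hSub.{0, 0, 0}; letI c11 := @instHSub.{0};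 letI c12 := @Int.instSub; letI c13 := @Decidable.rec.{1}; letI c14 := @Decidable.isTrue; letI c15 := @forall_prop_decidable._proof_2; letI c16 := @Decidable.isFalse; letI c17 := @decidable_of_decidable_of_iff._proof_1; letI c18 := @forall_prop_decidable._proof_1; letI c19 := @Iff.mp; letI c20 := @Int.ofNat; letI c21 := @Int.mul; @(fun x0 => @decidable_of_iff' _ _ (by rewrite [← Cfsg.Agent.KO5e70d14.e1]; rfl') (@Cfsg.Agent.KO5e70d14.k2 (nat_lit 1600) @(fun (x1 : @Nat) (x2 : @LT.lt.{0} @Nat @c0 @x1 (@c1 @Nat (nat_lit 1600) (@c2 (nat_lit 1600)))) => ((@LE.le.{0} @Nat @c3 (@c1 @Nat (nat_lit 29) (@c2 (nat_lit 29))) @x1) → ((@Eq.{1} @Int (@Cfsg.Agent.KO5e70d14.k1 (@c4 @Int @Int @Int (@c5 @Int @c6) @x0 (@c7 @Int @c8 @x1)) (@c1 @Int (nat_lit 12) (@c9 (nat_lit 12)))) (@c1 @Int (nat_lit 7) (@c9 (nat_lit 7)))) → ((x5 : @Nat) → ((@LT.lt.{0} @Nat @c0 @x5 (@c1 @Nat (nat_lit 15) (@c2 (nat_lit 15)))) → @Cfsg.Agent.R2.Spec.X3.PairII.InD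 @x0 (@c7 @Int @c8 @x1) (@c10 @Int @Int @Int (@c11 @Int @c12) (@c4 @Int @Int @Int (@c5 @Int @c6) (@c1 @Int (nat_lit 2) (@c9 (nat_lit 2))) (@c7 @Int @c8 @x5)) (@c1 @Int (nat_lit 14) (@c9 (nat_lit 14))))))))) @(fun (x1 : @Nat) (x2 : @LT.lt.{0} @Nat @c0 @x1 (@c1 @Nat (nat_lit 1600) (@c2 (nat_lit 1600)))) => @c13 (@LE.le.{0} @Nat @c3 (@c1 @Nat (nat_lit 29) (@c2 (nat_lit 29))) @x1) @(fun (x3 : @Decidable (@LE.le.{0} @Nat @c3 (@c1 @Nat (nat_lit 29) (@c2 (nat_lit 29))) @x1)) => @Decidable ((@LE.le.{0} @Nat @c3 (@c1 @Nat (nat_lit 29) (@c2 (nat_lit 29))) @x1) → ((@Eq.{1} @Int (@Cfsg.Agent.KO5e70d14.k1 (@c4 @Int @Int @Int (@c5 @Int @c6) @x0 (@c7 @Int @c8 @x1)) (@c1 @Int (nat_lit 12) (@c9 (nat_lit 12)))) (@c1 @Int (nat_lit 7) (@c9 (nat_lit 7)))) → ((x6 : @Nat) → ((@LT.lt.{0} @Nat @c0 @x6 (@c1 @Nat (nat_lit 15) (@c2 (nat_lit 15)))) → @Cfsg.Agent.R2.Spec.X3.PairII.InD @x0 (@c7 @Int @c8 @x1) (@c10 @Int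 @Int @Int (@c11 @Int @c12) (@c4 @Int @Int @Int (@c5 @Int @c6) (@c1 @Int (nat_lit 2) (@c9 (nat_lit 2))) (@c7 @Int @c8 @x6)) (@c1 @Int (nat_lit 14) (@c9 (nat_lit 14))))))))) @(fun (x3 : @Not (@LE.le.{0} @Nat @c3 (@c1 @Nat (nat_lit 29) (@c2 (nat_lit 29))) @x1)) => @c14 ((@LE.le.{0} @Nat @c3 (@c1 @Nat (nat_lit 29) (@c2 (nat_lit 29))) @x1) → ((@Eq.{1} @Int (@Cfsg.Agent.KO5e70d14.k1 (@c4 @Int @Int @Int (@c5 @Int @c6) @x0 (@c7 @Int @c8 @x1)) (@c1 @Int (nat_lit 12) (@c9 (nat_lit 12)))) (@c1 @Int (nat_lit 7) (@c9 (nat_lit 7)))) → ((x6 : @Nat) → ((@LT.lt.{0} @Nat @c0 @x6 (@c1 @Nat (nat_lit 15) (@c2 (nat_lit 15)))) → @Cfsg.Agent.R2.Spec.X3.PairII.InD @x0 (@c7 @Int @c8 @x1) (@c10 @Int @Int @Int (@c11 @Int @c12) (@c4 @Int @Int @Int (@c5 @Int @c6) (@c1 @Int (nat_lit 2) (@c9 (nat_lit 2))) (@c7 @Int @c8 @x6)) (@c1 @Int (nat_lit 14) (@c9 (nat_lit 14)))))))) (@c15 (@LE.le.{0} @Nat @c3 (@c1 @Nat (nat_lit 29)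 (@c2 (nat_lit 29))) @x1) @(fun (x4 : @LE.le.{0} @Nat @c3 (@c1 @Nat (nat_lit 29) (@c2 (nat_lit 29))) @x1) => ((@Eq.{1} @Int (@Cfsg.Agent.KO5e70d14.k1 (@c4 @Int @Int @Int (@c5 @Int @c6) @x0 (@c7 @Int @c8 @x1)) (@c1 @Int (nat_lit 12) (@c9 (nat_lit 12)))) (@c1 @Int (nat_lit 7) (@c9 (nat_lit 7)))) → ((x6 : @Nat) → ((@LT.lt.{0} @Nat @c0 @x6 (@c1 @Nat (nat_lit 15) (@c2 (nat_lit 15)))) → @Cfsg.Agent.R2.Spec.X3.PairII.InD @x0 (@c7 @Int @c8 @x1) (@c10 @Int @Int @Int (@c11 @Int @c12) (@c4 @Int @Int @Int (@c5 @Int @c6) (@c1 @Int (nat_lit 2) (@c9 (nat_lit 2))) (@c7 @Int @c8 @x6)) (@c1 @Int (nat_lit 14) (@c9 (nat_lit 14)))))))) @x3)) @(fun (x3 : @LE.le.{0} @Nat @c3 (@c1 @Nat (nat_lit 29) (@c2 (nat_lit 29))) @x1) => @c13 ((@Eq.{1} @Int (@Cfsg.Agent.KO5e70d14.k1 (@c4 @Int @Int @Int (@c5 @Int @c6) @x0 (@c7 @Int @c8 @x1)) (@c1 @Int (nat_lit 12) (@c9 (nat_lit 12)))) (@c1 @Int (nat_lit 7) (@c9 (nat_lit 7))))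 → ((x5 : @Nat) → ((@LT.lt.{0} @Nat @c0 @x5 (@c1 @Nat (nat_lit 15) (@c2 (nat_lit 15)))) → @Cfsg.Agent.R2.Spec.X3.PairII.InD @x0 (@c7 @Int @c8 @x1) (@c10 @Int @Int @Int (@c11 @Int @c12) (@c4 @Int @Int @Int (@c5 @Int @c6) (@c1 @Int (nat_lit 2) (@c9 (nat_lit 2))) (@c7 @Int @c8 @x5)) (@c1 @Int (nat_lit 14) (@c9 (nat_lit 14))))))) @(fun (x4 : @Decidable ((@Eq.{1} @Int (@Cfsg.Agent.KO5e70d14.k1 (@c4 @Int @Int @Int (@c5 @Int @c6) @x0 (@c7 @Int @c8 @x1)) (@c1 @Int (nat_lit 12) (@c9 (nat_lit 12)))) (@c1 @Int (nat_lit 7) (@c9 (nat_lit 7)))) → ((x5 : @Nat) → ((@LT.lt.{0} @Nat @c0 @x5 (@c1 @Nat (nat_lit 15) (@c2 (nat_lit 15)))) → @Cfsg.Agent.R2.Spec.X3.PairII.InD @x0 (@c7 @Int @c8 @x1) (@c10 @Int @Int @Int (@c11 @Int @c12) (@c4 @Int @Int @Int (@c5 @Int @c6) (@c1 @Int (nat_lit 2) (@c9 (nat_lit 2))) (@c7 @Int @c8 @x5)) (@c1 @Int (nat_lit 14) (@c9 (nat_lit 14)))))))) => @Decidable ((@LE.le.{0} @Nat @c3 (@c1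 @Nat (nat_lit 29) (@c2 (nat_lit 29))) @x1) → ((@Eq.{1} @Int (@Cfsg.Agent.KO5e70d14.k1 (@c4 @Int @Int @Int (@c5 @Int @c6) @x0 (@c7 @Int @c8 @x1)) (@c1 @Int (nat_lit 12) (@c9 (nat_lit 12)))) (@c1 @Int (nat_lit 7) (@c9 (nat_lit 7)))) → ((x7 : @Nat) → ((@LT.lt.{0} @Nat @c0 @x7 (@c1 @Nat (nat_lit 15) (@c2 (nat_lit 15)))) → @Cfsg.Agent.R2.Spec.X3.PairII.InD @x0 (@c7 @Int @c8 @x1) (@c10 @Int @Int @Int (@c11 @Int @c12) (@c4 @Int @Int @Int (@c5 @Int @c6) (@c1 @Int (nat_lit 2) (@c9 (nat_lit 2))) (@c7 @Int @c8 @x7)) (@c1 @Int (nat_lit 14) (@c9 (nat_lit 14))))))))) @(fun (x4 : @Not ((@Eq.{1} @Int (@Cfsg.Agent.KO5e70d14.k1 (@c4 @Int @Int @Int (@c5 @Int @c6) @x0 (@c7 @Int @c8 @x1)) (@c1 @Int (nat_lit 12) (@c9 (nat_lit 12)))) (@c1 @Int (nat_lit 7) (@c9 (nat_lit 7)))) → ((x5 : @Nat) → ((@LT.lt.{0} @Nat @c0 @x5 (@c1 @Nat (nat_lit 15) (@c2 (nat_lit 15)))) → @Cfsg.Agent.R2.Spec.X3.PairII.InD @x0 (@c7 @Int @c8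 @x1) (@c10 @Int @Int @Int (@c11 @Int @c12) (@c4 @Int @Int @Int (@c5 @Int @c6) (@c1 @Int (nat_lit 2) (@c9 (nat_lit 2))) (@c7 @Int @c8 @x5)) (@c1 @Int (nat_lit 14) (@c9 (nat_lit 14)))))))) => @c16 ((@LE.le.{0} @Nat @c3 (@c1 @Nat (nat_lit 29) (@c2 (nat_lit 29))) @x1) → ((@Eq.{1} @Int (@Cfsg.Agent.KO5e70d14.k1 (@c4 @Int @Int @Int (@c5 @Int @c6) @x0 (@c7 @Int @c8 @x1)) (@c1 @Int (nat_lit 12) (@c9 (nat_lit 12)))) (@c1 @Int (nat_lit 7) (@c9 (nat_lit 7)))) → ((x7 : @Nat) → ((@LT.lt.{0} @Nat @c0 @x7 (@c1 @Nat (nat_lit 15) (@c2 (nat_lit 15)))) → @Cfsg.Agent.R2.Spec.X3.PairII.InD @x0 (@c7 @Int @c8 @x1) (@c10 @Int @Int @Int (@c11 @Int @c12) (@c4 @Int @Int @Int (@c5 @Int @c6) (@c1 @Int (nat_lit 2) (@c9 (nat_lit 2))) (@c7 @Int @c8 @x7)) (@c1 @Int (nat_lit 14) (@c9 (nat_lit 14)))))))) (@c17 ((@Eq.{1} @Int (@Cfsg.Agent.KO5e70d14.k1 (@c4 @Int @Int @Int (@c5 @Int @c6) @x0 (@c7 @Int @c8 @x1)) (@c1 @Int (nat_lit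 12) (@c9 (nat_lit 12)))) (@c1 @Int (nat_lit 7) (@c9 (nat_lit 7)))) → ((x6 : @Nat) → ((@LT.lt.{0} @Nat @c0 @x6 (@c1 @Nat (nat_lit 15) (@c2 (nat_lit 15)))) → @Cfsg.Agent.R2.Spec.X3.PairII.InD @x0 (@c7 @Int @c8 @x1) (@c10 @Int @Int @Int (@c11 @Int @c12) (@c4 @Int @Int @Int (@c5 @Int @c6) (@c1 @Int (nat_lit 2) (@c9 (nat_lit 2))) (@c7 @Int @c8 @x6)) (@c1 @Int (nat_lit 14) (@c9 (nat_lit 14))))))) ((@LE.le.{0} @Nat @c3 (@c1 @Nat (nat_lit 29) (@c2 (nat_lit 29))) @x1) → ((@Eq.{1} @Int (@Cfsg.Agent.KO5e70d14.k1 (@c4 @Int @Int @Int (@c5 @Int @c6) @x0 (@c7 @Int @c8 @x1)) (@c1 @Int (nat_lit 12) (@c9 (nat_lit 12)))) (@c1 @Int (nat_lit 7) (@c9 (nat_lit 7)))) → ((x7 : @Nat) → ((@LT.lt.{0} @Nat @c0 @x7 (@c1 @Nat (nat_lit 15) (@c2 (nat_lit 15)))) → @Cfsg.Agent.R2.Spec.X3.PairII.InD @x0 (@c7 @Int @c8 @x1) (@c10 @Int @Int @Int (@c11 @Int @c12) (@c4 @Int @Int @Int (@c5 @Int @c6) (@c1 @Int (nat_lit 2) (@c9 (nat_lit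 2))) (@c7 @Int @c8 @x7)) (@c1 @Int (nat_lit 14) (@c9 (nat_lit 14)))))))) (@c18 (@LE.le.{0} @Nat @c3 (@c1 @Nat (nat_lit 29) (@c2 (nat_lit 29))) @x1) @(fun (x5 : @LE.le.{0} @Nat @c3 (@c1 @Nat (nat_lit 29) (@c2 (nat_lit 29))) @x1) => ((@Eq.{1} @Int (@Cfsg.Agent.KO5e70d14.k1 (@c4 @Int @Int @Int (@c5 @Int @c6) @x0 (@c7 @Int @c8 @x1)) (@c1 @Int (nat_lit 12) (@c9 (nat_lit 12)))) (@c1 @Int (nat_lit 7) (@c9 (nat_lit 7)))) → ((x7 : @Nat) → ((@LT.lt.{0} @Nat @c0 @x7 (@c1 @Nat (nat_lit 15) (@c2 (nat_lit 15)))) → @Cfsg.Agent.R2.Spec.X3.PairII.InD @x0 (@c7 @Int @c8 @x1) (@c10 @Int @Int @Int (@c11 @Int @c12) (@c4 @Int @Int @Int (@c5 @Int @c6) (@c1 @Int (nat_lit 2) (@c9 (nat_lit 2))) (@c7 @Int @c8 @x7)) (@c1 @Int (nat_lit 14) (@c9 (nat_lit 14)))))))) @x3) @x4)) @(fun (x4 : ((@Eq.{1} @Int (@Cfsg.Agent.KO5e70d14.k1 (@c4 @Int @Int @Int (@c5 @Int @c6) @x0 (@c7 @Int @c8 @x1)) (@c1 @Int (nat_lit 12) (@c9 (nat_lit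 12)))) (@c1 @Int (nat_lit 7) (@c9 (nat_lit 7)))) → ((x5 : @Nat) → ((@LT.lt.{0} @Nat @c0 @x5 (@c1 @Nat (nat_lit 15) (@c2 (nat_lit 15)))) → @Cfsg.Agent.R2.Spec.X3.PairII.InD @x0 (@c7 @Int @c8 @x1) (@c10 @Int @Int @Int (@c11 @Int @c12) (@c4 @Int @Int @Int (@c5 @Int @c6) (@c1 @Int (nat_lit 2) (@c9 (nat_lit 2))) (@c7 @Int @c8 @x5)) (@c1 @Int (nat_lit 14) (@c9 (nat_lit 14)))))))) => @c14 ((@LE.le.{0} @Nat @c3 (@c1 @Nat (nat_lit 29) (@c2 (nat_lit 29))) @x1) → ((@Eq.{1} @Int (@Cfsg.Agent.KO5e70d14.k1 (@c4 @Int @Int @Int (@c5 @Int @c6) @x0 (@c7 @Int @c8 @x1)) (@c1 @Int (nat_lit 12) (@c9 (nat_lit 12)))) (@c1 @Int (nat_lit 7) (@c9 (nat_lit 7)))) → ((x7 : @Nat) → ((@LT.lt.{0} @Nat @c0 @x7 (@c1 @Nat (nat_lit 15) (@c2 (nat_lit 15)))) → @Cfsg.Agent.R2.Spec.X3.PairII.InD @x0 (@c7 @Int @c8 @x1) (@c10 @Int @Int @Int (@c11 @Int @c12) (@c4 @Int @Int @Int (@c5 @Int @c6) (@c1 @Int (nat_lit 2) (@c9 (nat_lit 2)))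 (@c7 @Int @c8 @x7)) (@c1 @Int (nat_lit 14) (@c9 (nat_lit 14)))))))) (@c19 ((@Eq.{1} @Int (@Cfsg.Agent.KO5e70d14.k1 (@c4 @Int @Int @Int (@c5 @Int @c6) @x0 (@c7 @Int @c8 @x1)) (@c1 @Int (nat_lit 12) (@c9 (nat_lit 12)))) (@c1 @Int (nat_lit 7) (@c9 (nat_lit 7)))) → ((x6 : @Nat) → ((@LT.lt.{0} @Nat @c0 @x6 (@c1 @Nat (nat_lit 15) (@c2 (nat_lit 15)))) → @Cfsg.Agent.R2.Spec.X3.PairII.InD @x0 (@c7 @Int @c8 @x1) (@c10 @Int @Int @Int (@c11 @Int @c12) (@c4 @Int @Int @Int (@c5 @Int @c6) (@c1 @Int (nat_lit 2) (@c9 (nat_lit 2))) (@c7 @Int @c8 @x6)) (@c1 @Int (nat_lit 14) (@c9 (nat_lit 14))))))) ((@LE.le.{0} @Nat @c3 (@c1 @Nat (nat_lit 29) (@c2 (nat_lit 29))) @x1) → ((@Eq.{1} @Int (@Cfsg.Agent.KO5e70d14.k1 (@c4 @Int @Int @Int (@c5 @Int @c6) @x0 (@c7 @Int @c8 @x1)) (@c1 @Int (nat_lit 12) (@c9 (nat_lit 12)))) (@c1 @Int (nat_lit 7) (@c9 (nat_lit 7)))) → ((x7 : @Nat) → ((@LT.lt.{0} @Nat @c0 @x7 (@c1 @Nat (nat_lit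 15) (@c2 (nat_lit 15)))) → @Cfsg.Agent.R2.Spec.X3.PairII.InD @x0 (@c7 @Int @c8 @x1) (@c10 @Int @Int @Int (@c11 @Int @c12) (@c4 @Int @Int @Int (@c5 @Int @c6) (@c1 @Int (nat_lit 2) (@c9 (nat_lit 2))) (@c7 @Int @c8 @x7)) (@c1 @Int (nat_lit 14) (@c9 (nat_lit 14)))))))) (@c18 (@LE.le.{0} @Nat @c3 (@c1 @Nat (nat_lit 29) (@c2 (nat_lit 29))) @x1) @(fun (x5 : @LE.le.{0} @Nat @c3 (@c1 @Nat (nat_lit 29) (@c2 (nat_lit 29))) @x1) => ((@Eq.{1} @Int (@Cfsg.Agent.KO5e70d14.k1 (@c4 @Int @Int @Int (@c5 @Int @c6) @x0 (@c7 @Int @c8 @x1)) (@c1 @Int (nat_lit 12) (@c9 (nat_lit 12)))) (@c1 @Int (nat_lit 7) (@c9 (nat_lit 7)))) → ((x7 : @Nat) → ((@LT.lt.{0} @Nat @c0 @x7 (@c1 @Nat (nat_lit 15) (@c2 (nat_lit 15)))) → @Cfsg.Agent.R2.Spec.X3.PairII.InD @x0 (@c7 @Int @c8 @x1) (@c10 @Int @Int @Int (@c11 @Int @c12) (@c4 @Int @Int @Int (@c5 @Int @c6) (@c1 @Int (nat_lit 2) (@c9 (nat_lit 2))) (@c7 @Int @c8 @x7)) (@c1 @Int (nat_lit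 14) (@c9 (nat_lit 14)))))))) @x3) @x4)) (@c13 (@Eq.{1} @Int (@Cfsg.Agent.KO5e70d14.k1 (@c4 @Int @Int @Int (@c5 @Int @c6) @x0 (@c7 @Int @c8 @x1)) (@c1 @Int (nat_lit 12) (@c9 (nat_lit 12)))) (@c1 @Int (nat_lit 7) (@c9 (nat_lit 7)))) @(fun (x4 : @Decidable (@Eq.{1} @Int (@Cfsg.Agent.KO5e70d14.k1 (@c4 @Int @Int @Int (@c5 @Int @c6) @x0 (@c7 @Int @c8 @x1)) (@c1 @Int (nat_lit 12) (@c9 (nat_lit 12)))) (@c1 @Int (nat_lit 7) (@c9 (nat_lit 7))))) => @Decidable ((@Eq.{1} @Int (@Cfsg.Agent.KO5e70d14.k1 (@c4 @Int @Int @Int (@c5 @Int @c6) @x0 (@c7 @Int @c8 @x1)) (@c1 @Int (nat_lit 12) (@c9 (nat_lit 12)))) (@c1 @Int (nat_lit 7) (@c9 (nat_lit 7)))) → ((x6 : @Nat) → ((@LT.lt.{0} @Nat @c0 @x6 (@c1 @Nat (nat_lit 15) (@c2 (nat_lit 15)))) → @Cfsg.Agent.R2.Spec.X3.PairII.InD @x0 (@c7 @Int @c8 @x1) (@c10 @Int @Int @Int (@c11 @Int @c12) (@c4 @Int @Int @Int (@c5 @Int @c6) (@c1 @Int (nat_lit 2) (@c9 (nat_lit 2))) (@c7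 @Int @c8 @x6)) (@c1 @Int (nat_lit 14) (@c9 (nat_lit 14)))))))) @(fun (x4 : @Not (@Eq.{1} @Int (@Cfsg.Agent.KO5e70d14.k1 (@c4 @Int @Int @Int (@c5 @Int @c6) @x0 (@c7 @Int @c8 @x1)) (@c1 @Int (nat_lit 12) (@c9 (nat_lit 12)))) (@c1 @Int (nat_lit 7) (@c9 (nat_lit 7))))) => @c14 ((@Eq.{1} @Int (@Cfsg.Agent.KO5e70d14.k1 (@c4 @Int @Int @Int (@c5 @Int @c6) @x0 (@c7 @Int @c8 @x1)) (@c1 @Int (nat_lit 12) (@c9 (nat_lit 12)))) (@c1 @Int (nat_lit 7) (@c9 (nat_lit 7)))) → ((x6 : @Nat) → ((@LT.lt.{0} @Nat @c0 @x6 (@c1 @Nat (nat_lit 15) (@c2 (nat_lit 15)))) → @Cfsg.Agent.R2.Spec.X3.PairII.InD @x0 (@c7 @Int @c8 @x1) (@c10 @Int @Int @Int (@c11 @Int @c12) (@c4 @Int @Int @Int (@c5 @Int @c6) (@c1 @Int (nat_lit 2) (@c9 (nat_lit 2))) (@c7 @Int @c8 @x6)) (@c1 @Int (nat_lit 14) (@c9 (nat_lit 14))))))) (@c15 (@Eq.{1} @Int (@Cfsg.Agent.KO5e70d14.k1 (@c4 @Int @Int @Int (@c5 @Int @c6) @x0 (@c7 @Int @c8 @x1)) (@c1 @Int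 (nat_lit 12) (@c9 (nat_lit 12)))) (@c1 @Int (nat_lit 7) (@c9 (nat_lit 7)))) @(fun (x5 : @Eq.{1} @Int (@Cfsg.Agent.KO5e70d14.k1 (@c4 @Int @Int @Int (@c5 @Int @c6) @x0 (@c7 @Int @c8 @x1)) (@c1 @Int (nat_lit 12) (@c9 (nat_lit 12)))) (@c1 @Int (nat_lit 7) (@c9 (nat_lit 7)))) => ((x6 : @Nat) → ((@LT.lt.{0} @Nat @c0 @x6 (@c1 @Nat (nat_lit 15) (@c2 (nat_lit 15)))) → @Cfsg.Agent.R2.Spec.X3.PairII.InD @x0 (@c7 @Int @c8 @x1) (@c10 @Int @Int @Int (@c11 @Int @c12) (@c4 @Int @Int @Int (@c5 @Int @c6) (@c1 @Int (nat_lit 2) (@c9 (nat_lit 2))) (@c7 @Int @c8 @x6)) (@c1 @Int (nat_lit 14) (@c9 (nat_lit 14))))))) @x4)) @(fun (x4 : @Eq.{1} @Int (@Cfsg.Agent.KO5e70d14.k1 (@c4 @Int @Int @Int (@c5 @Int @c6) @x0 (@c7 @Int @c8 @x1)) (@c1 @Int (nat_lit 12) (@c9 (nat_lit 12)))) (@c1 @Int (nat_lit 7) (@c9 (nat_lit 7)))) => @c13 ((x5 : @Nat) → ((@LT.lt.{0} @Nat @c0 @x5 (@c1 @Nat (nat_lit 15) (@c2 (nat_lit 15)))) → @Cfsg.Agent.R2.Spec.X3.PairII.InD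 @x0 (@c7 @Int @c8 @x1) (@c10 @Int @Int @Int (@c11 @Int @c12) (@c4 @Int @Int @Int (@c5 @Int @c6) (@c1 @Int (nat_lit 2) (@c9 (nat_lit 2))) (@c7 @Int @c8 @x5)) (@c1 @Int (nat_lit 14) (@c9 (nat_lit 14)))))) @(fun (x5 : @Decidable ((x5 : @Nat) → ((@LT.lt.{0} @Nat @c0 @x5 (@c1 @Nat (nat_lit 15) (@c2 (nat_lit 15)))) → @Cfsg.Agent.R2.Spec.X3.PairII.InD @x0 (@c7 @Int @c8 @x1) (@c10 @Int @Int @Int (@c11 @Int @c12) (@c4 @Int @Int @Int (@c5 @Int @c6) (@c1 @Int (nat_lit 2) (@c9 (nat_lit 2))) (@c7 @Int @c8 @x5)) (@c1 @Int (nat_lit 14) (@c9 (nat_lit 14))))))) => @Decidable ((@Eq.{1} @Int (@Cfsg.Agent.KO5e70d14.k1 (@c4 @Int @Int @Int (@c5 @Int @c6) @x0 (@c7 @Int @c8 @x1)) (@c1 @Int (nat_lit 12) (@c9 (nat_lit 12)))) (@c1 @Int (nat_lit 7) (@c9 (nat_lit 7)))) → ((x7 : @Nat) → ((@LT.lt.{0} @Nat @c0 @x7 (@c1 @Nat (nat_lit 15) (@c2 (nat_lit 15)))) → @Cfsg.Agent.R2.Spec.X3.PairII.InD @x0 (@c7 @Int @c8 @x1) (@c10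 @Int @Int @Int (@c11 @Int @c12) (@c4 @Int @Int @Int (@c5 @Int @c6) (@c1 @Int (nat_lit 2) (@c9 (nat_lit 2))) (@c7 @Int @c8 @x7)) (@c1 @Int (nat_lit 14) (@c9 (nat_lit 14)))))))) @(fun (x5 : @Not ((x5 : @Nat) → ((@LT.lt.{0} @Nat @c0 @x5 (@c1 @Nat (nat_lit 15) (@c2 (nat_lit 15)))) → @Cfsg.Agent.R2.Spec.X3.PairII.InD @x0 (@c7 @Int @c8 @x1) (@c10 @Int @Int @Int (@c11 @Int @c12) (@c4 @Int @Int @Int (@c5 @Int @c6) (@c1 @Int (nat_lit 2) (@c9 (nat_lit 2))) (@c7 @Int @c8 @x5)) (@c1 @Int (nat_lit 14) (@c9 (nat_lit 14))))))) => @c16 ((@Eq.{1} @Int (@Cfsg.Agent.KO5e70d14.k1 (@c4 @Int @Int @Int (@c5 @Int @c6) @x0 (@c7 @Int @c8 @x1)) (@c1 @Int (nat_lit 12) (@c9 (nat_lit 12)))) (@c1 @Int (nat_lit 7) (@c9 (nat_lit 7)))) → ((x7 : @Nat) → ((@LT.lt.{0} @Nat @c0 @x7 (@c1 @Nat (nat_lit 15) (@c2 (nat_lit 15)))) → @Cfsg.Agent.R2.Spec.X3.PairII.InD @x0 (@c7 @Int @c8 @x1) (@c10 @Int @Int @Int (@c11 @Int @c12) (@c4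 @Int @Int @Int (@c5 @Int @c6) (@c1 @Int (nat_lit 2) (@c9 (nat_lit 2))) (@c7 @Int @c8 @x7)) (@c1 @Int (nat_lit 14) (@c9 (nat_lit 14))))))) (@c17 ((x6 : @Nat) → ((@LT.lt.{0} @Nat @c0 @x6 (@c1 @Nat (nat_lit 15) (@c2 (nat_lit 15)))) → @Cfsg.Agent.R2.Spec.X3.PairII.InD @x0 (@c7 @Int @c8 @x1) (@c10 @Int @Int @Int (@c11 @Int @c12) (@c4 @Int @Int @Int (@c5 @Int @c6) (@c1 @Int (nat_lit 2) (@c9 (nat_lit 2))) (@c7 @Int @c8 @x6)) (@c1 @Int (nat_lit 14) (@c9 (nat_lit 14)))))) ((@Eq.{1} @Int (@Cfsg.Agent.KO5e70d14.k1 (@c4 @Int @Int @Int (@c5 @Int @c6) @x0 (@c7 @Int @c8 @x1)) (@c1 @Int (nat_lit 12) (@c9 (nat_lit 12)))) (@c1 @Int (nat_lit 7) (@c9 (nat_lit 7)))) → ((x7 : @Nat) → ((@LT.lt.{0} @Nat @c0 @x7 (@c1 @Nat (nat_lit 15) (@c2 (nat_lit 15)))) → @Cfsg.Agent.R2.Spec.X3.PairII.InD @x0 (@c7 @Int @c8 @x1) (@c10 @Int @Int @Int (@c11 @Int @c12) (@c4 @Int @Int @Int (@c5 @Int @c6) (@c1 @Int (nat_lit 2) (@c9 (nat_lit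 2))) (@c7 @Int @c8 @x7)) (@c1 @Int (nat_lit 14) (@c9 (nat_lit 14))))))) (@c18 (@Eq.{1} @Int (@Cfsg.Agent.KO5e70d14.k1 (@c4 @Int @Int @Int (@c5 @Int @c6) @x0 (@c7 @Int @c8 @x1)) (@c1 @Int (nat_lit 12) (@c9 (nat_lit 12)))) (@c1 @Int (nat_lit 7) (@c9 (nat_lit 7)))) @(fun (x6 : @Eq.{1} @Int (@Cfsg.Agent.KO5e70d14.k1 (@c4 @Int @Int @Int (@c5 @Int @c6) @x0 (@c7 @Int @c8 @x1)) (@c1 @Int (nat_lit 12) (@c9 (nat_lit 12)))) (@c1 @Int (nat_lit 7) (@c9 (nat_lit 7)))) => ((x7 : @Nat) → ((@LT.lt.{0} @Nat @c0 @x7 (@c1 @Nat (nat_lit 15) (@c2 (nat_lit 15)))) → @Cfsg.Agent.R2.Spec.X3.PairII.InD @x0 (@c7 @Int @c8 @x1) (@c10 @Int @Int @Int (@c11 @Int @c12) (@c4 @Int @Int @Int (@c5 @Int @c6) (@c1 @Int (nat_lit 2) (@c9 (nat_lit 2))) (@c7 @Int @c8 @x7)) (@c1 @Int (nat_lit 14) (@c9 (nat_lit 14))))))) @x4) @x5)) @(fun (x5 : ((x5 : @Nat) → ((@LT.lt.{0} @Nat @c0 @x5 (@c1 @Nat (nat_lit 15) (@c2 (nat_lit 15)))) → @Cfsg.Agent.R2.Spec.X3.PairII.InD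 @x0 (@c7 @Int @c8 @x1) (@c10 @Int @Int @Int (@c11 @Int @c12) (@c4 @Int @Int @Int (@c5 @Int @c6) (@c1 @Int (nat_lit 2) (@c9 (nat_lit 2))) (@c7 @Int @c8 @x5)) (@c1 @Int (nat_lit 14) (@c9 (nat_lit 14))))))) => @c14 ((@Eq.{1} @Int (@Cfsg.Agent.KO5e70d14.k1 (@c4 @Int @Int @Int (@c5 @Int @c6) @x0 (@c7 @Int @c8 @x1)) (@c1 @Int (nat_lit 12) (@c9 (nat_lit 12)))) (@c1 @Int (nat_lit 7) (@c9 (nat_lit 7)))) → ((x7 : @Nat) → ((@LT.lt.{0} @Nat @c0 @x7 (@c1 @Nat (nat_lit 15) (@c2 (nat_lit 15)))) → @Cfsg.Agent.R2.Spec.X3.PairII.InD @x0 (@c7 @Int @c8 @x1) (@c10 @Int @Int @Int (@c11 @Int @c12) (@c4 @Int @Int @Int (@c5 @Int @c6) (@c1 @Int (nat_lit 2) (@c9 (nat_lit 2))) (@c7 @Int @c8 @x7)) (@c1 @Int (nat_lit 14) (@c9 (nat_lit 14))))))) (@c19 ((x6 : @Nat) → ((@LT.lt.{0} @Nat @c0 @x6 (@c1 @Nat (nat_lit 15) (@c2 (nat_lit 15)))) → @Cfsg.Agent.R2.Spec.X3.PairII.InD @x0 (@c7 @Int @c8 @x1) (@c10 @Int @Int @Int (@c11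 @Int @c12) (@c4 @Int @Int @Int (@c5 @Int @c6) (@c1 @Int (nat_lit 2) (@c9 (nat_lit 2))) (@c7 @Int @c8 @x6)) (@c1 @Int (nat_lit 14) (@c9 (nat_lit 14)))))) ((@Eq.{1} @Int (@Cfsg.Agent.KO5e70d14.k1 (@c4 @Int @Int @Int (@c5 @Int @c6) @x0 (@c7 @Int @c8 @x1)) (@c1 @Int (nat_lit 12) (@c9 (nat_lit 12)))) (@c1 @Int (nat_lit 7) (@c9 (nat_lit 7)))) → ((x7 : @Nat) → ((@LT.lt.{0} @Nat @c0 @x7 (@c1 @Nat (nat_lit 15) (@c2 (nat_lit 15)))) → @Cfsg.Agent.R2.Spec.X3.PairII.InD @x0 (@c7 @Int @c8 @x1) (@c10 @Int @Int @Int (@c11 @Int @c12) (@c4 @Int @Int @Int (@c5 @Int @c6) (@c1 @Int (nat_lit 2) (@c9 (nat_lit 2))) (@c7 @Int @c8 @x7)) (@c1 @Int (nat_lit 14) (@c9 (nat_lit 14))))))) (@c18 (@Eq.{1} @Int (@Cfsg.Agent.KO5e70d14.k1 (@c4 @Int @Int @Int (@c5 @Int @c6) @x0 (@c7 @Int @c8 @x1)) (@c1 @Int (nat_lit 12) (@c9 (nat_lit 12)))) (@c1 @Int (nat_lit 7) (@c9 (nat_lit 7)))) @(fun (x6 : @Eq.{1} @Int (@Cfsg.Agent.KO5e70d14.k1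 (@c4 @Int @Int @Int (@c5 @Int @c6) @x0 (@c7 @Int @c8 @x1)) (@c1 @Int (nat_lit 12) (@c9 (nat_lit 12)))) (@c1 @Int (nat_lit 7) (@c9 (nat_lit 7)))) => ((x7 : @Nat) → ((@LT.lt.{0} @Nat @c0 @x7 (@c1 @Nat (nat_lit 15) (@c2 (nat_lit 15)))) → @Cfsg.Agent.R2.Spec.X3.PairII.InD @x0 (@c7 @Int @c8 @x1) (@c10 @Int @Int @Int (@c11 @Int @c12) (@c4 @Int @Int @Int (@c5 @Int @c6) (@c1 @Int (nat_lit 2) (@c9 (nat_lit 2))) (@c7 @Int @c8 @x7)) (@c1 @Int (nat_lit 14) (@c9 (nat_lit 14))))))) @x4) @x5)) (@Cfsg.Agent.KO5e70d14.k2 (nat_lit 15) @(fun (x5 : @Nat) (x6 : @LT.lt.{0} @Nat @c0 @x5 (@c1 @Nat (nat_lit 15) (@c2 (nat_lit 15)))) => @Cfsg.Agent.R2.Spec.X3.PairII.InD @x0 (@c7 @Int @c8 @x1) (@c10 @Int @Int @Int (@c11 @Int @c12) (@c4 @Int @Int @Int (@c5 @Int @c6) (@c1 @Int (nat_lit 2) (@c9 (nat_lit 2))) (@c7 @Int @c8 @x5)) (@c1 @Int (nat_lit 14) (@c9 (nat_lit 14))))) @(fun (x5 : @Nat) (x6 : @LT.lt.{0} @Nat @c0 @x5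 (@c1 @Nat (nat_lit 15) (@c2 (nat_lit 15)))) => @Cfsg.Agent.R2.Spec.X3.PairII.instDecidableInD @x0 (@c20 @x1) (@Int.add (@c21 (@c20 (nat_lit 2)) (@c20 @x5)) (@Int.negSucc (nat_lit 13)))))) (@Cfsg.Agent.KO5e70d14.k6 (@Cfsg.Agent.KO5e70d14.k1 (@c21 @x0 (@c20 @x1)) (@c20 (nat_lit 12))) (@c20 (nat_lit 7))))) (@Cfsg.Agent.KO5e70d14.k8 (nat_lit 29) @x1)))))) ?_); exact Subsingleton.elim _ _) | exact @Cfsg.Agent.R2.Spec.X3.PairII.instDecidableChkD | exact ()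
private theorem _root_.Cfsg.Agent.KO5e70d14.e12 : (by first | exact @Cfsg.Agent.R2.Spec.X3.PairII.instDecidableChkD = @_root_.Cfsg.Agent.KO5e70d14.k12 | exact True : Prop) := by first | (delta _root_.Cfsg.Agent.KO5e70d14.k12; exact @Subtype.property _ (fun g => @Cfsg.Agent.R2.Spec.X3.PairII.instDecidableChkD = @g) _) | rfl | trivial

theorem chkD1 : ChkD 1 := by (first | (refine of_decide_eq_true ?_; rewrite [Cfsg.Agent.KO5e70d14.e0, Cfsg.Agent.KO5e70d14.e12]; set_option maxRecDepth 200000 in decide +kernel) | decide +kernel)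
theorem chkD2 : ChkD (-1) := by (first | (refine of_decide_eq_true ?_; rewrite [Cfsg.Agent.KO5e70d14.e11, Cfsg.Agent.KO5e70d14.e0, Cfsg.Agent.KO5e70d14.e12]; set_option maxRecDepth 200000 in decide +kernel) | decide +kernel)

end Cfsg.Agent.R2.Spec.X3.PairII
end
end

-- part: R2/Spec/X3/PairIIb
section
prune_inst 0x40000000000000000001800002000000000000000000000014000000008400040200008010020010200600c8020000000000000100020000000000000000000000000840280080908800000002000000000000000000000000000000000000000000000000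
set_option linter.all false
open scoped Cfsg.Agent.FastGrp

/-!
# The pair lemma, type II: `2 N ∣ (x² + 1)(x + 1)` and `2 N ∣ p (x² - 1)`, `p = |x|` (helper16, S3435, box X3)
-/

set_option autoImplicit false

namespace Cfsg.Agent.R2.Spec.X3.PairII

/-- one pair -/
def InZ (s y a : ℤ) : Prop :=
  ((s * y) % 12 = 7 → (a * (y ^ 2 + 1) * (y + s)) % (3 * (y - s)) ≠ 0) ∧
  (a < 6 → (a * (y ^ 2 + 1) * (y + s)) % (y - s) ≠ 0)

instance (s y a : ℤ) : Decidable (InZ s y a) := by unfold InZ; infer_instance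

/-- small `a` with `j = i` -/
def ChkZ (s : ℤ) : Prop := ∀ y < 70, 29 ≤ y → (s * (y : ℕ)) % 4 = 3 → ∀ a < 18, a % 2 = 1 → InZ s y (a : ℕ)

instance (s : ℤ) : Decidable (ChkZ s) := by unfold ChkZ; infer_instance

theorem chkZ1 : ChkZ 1 := by decide +kernel
theorem chkZ2 : ChkZ (-1) := by decide +kernel

section

variable {y s P d a : ℤ} (hy : 29 ≤ y) (hs : s = 1 ∨ s = -1) (hP : P = y ^ 2 + s * y + 1)
  (h4 : (s * y) % 4 = 3) (ha : 1 ≤ a) (hao : a % 2 = 1)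

include hy hs hP h4 ha hao in
/-- `z = - d s` -/
theorem pB_neg {i j N : ℤ} (hd : d = 1 ∨ (d = 3 ∧ (s * y) % 12 = 7)) (hij : 2 * (a * j) = d * (y - s)) (hj : 1 ≤ j)
    (h : N * (2 * j) = (y ^ 2 + 1) * (y + s))
    (hK : (a * P - d * N) ^ 2 ≤ 5 * d * (a * P)) : False := by
  obtain ⟨hP1, hP2, hP3⟩ := P_ge hy hs hP
  have hd0 : 0 < d := by rcases hd with rfl | ⟨rfl, -⟩ <;> norm_num
  have h1 : 2 * j * (a * P - d * N) = -(d * s) * (P + 1) := by
    have e : (y ^ 2 + 1) * (y + s) = y * P + s := by rw [hP]; rcases hs with rfl | rfl <;> ring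
    rw [e] at h
    linear_combination P * hij - d * h
  have hs2 : s ^ 2 = 1 := by rcases hs with rfl | rfl <;> norm_num
  have h2 : a * (d ^ 2 * (P + 1) ^ 2) ≤ 5 * d * ((d * (y - s)) ^ 2 * P) := by
    have h3 := mul_le_mul_of_nonneg_left hK (by positivity : 0 ≤ a * (4 * j ^ 2))
    have e1 : a * (4 * j ^ 2) * (a * P - d * N) ^ 2 = a * (2 * j * (a * P - d * N)) ^ 2 := by ring
    have e2 : a * (4 * j ^ 2) * (5 * d * (a * P)) = 5 * d * ((2 * (a * j)) ^ 2 * P) := by ring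
    rw [e1, e2, h1, hij] at h3
    have e3 : (-(d * s) * (P + 1)) ^ 2 = d ^ 2 * (P + 1) ^ 2 := by
      have : (-(d * s) * (P + 1)) ^ 2 = s ^ 2 * (d ^ 2 * (P + 1) ^ 2) := by ring
      rw [this, hs2, one_mul]
    rwa [e3] at h3
  -- `a (P + 1)² ≤ 5 d (y - s)² P`
  have h5 : a * (P + 1) ≤ 5 * d * (y - s) ^ 2 := by
    have h6 : a * (P + 1) * (d ^ 2 * P) ≤ 5 * d * (y - s) ^ 2 * (d ^ 2 * P) := by
      have h7 : a * (P + 1) * (d ^ 2 * P) ≤ a * (d ^ 2 * (P + 1) ^ 2) := by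
        have h8 : 0 ≤ a * (P + 1) * d ^ 2 := by
          have : 0 ≤ P + 1 := by omega
          positivity
        linarith
      linarith only [h2, h7]
    exact le_of_mul_le_mul_right h6 (by positivity)
  have hys : (y - s) ^ 2 ≤ (y + 1) ^ 2 := pow_le_pow_left₀ (by rcases hs with rfl | rfl <;> (clear * - hy; omega))
    (by rcases hs with rfl | rfl <;> omega) 2
  have h6 : (y + 1) ^ 2 * 14 ≤ 16 * P := by
    rcases hs with rfl | rfl <;> rw [hP] <;> linarith only [hy, _root_.mul_self_nonneg (y - 29 : ℤ)]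
  have ha16 : 14 * a ≤ 80 * d := by
    by_contra hcon
    push Not at hcon
    have h7 : d * (y - s) ^ 2 ≤ d * (y + 1) ^ 2 := mul_le_mul_of_nonneg_left hys hd0.le
    have h8 : d * ((y + 1) ^ 2 * 14) ≤ d * (16 * P) := mul_le_mul_of_nonneg_left h6 hd0.le
    have h9 : 80 * d * (P + 1) < 14 * a * (P + 1) := mul_lt_mul_of_pos_right hcon (by omega)
    linarith only [hd0, h5, h7, h8, h9]
  -- `(y - s) ∣ 4 a`
  have h7 : d * (y - s) * N = a * (y ^ 2 + 1) * (y + s) := by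
    rw [← hij]; linear_combination a * h
  have h8 : (y - s) ∣ a * (y ^ 2 + 1) * (y + s) := ⟨d * N, by rw [← h7]; ring⟩
  have h9 : (y - s) ∣ 4 * a := by
    have e : a * (y ^ 2 + 1) * (y + s) = (y - s) * (a * (y ^ 2 + 2 * s * y + 1 + 2 * s ^ 2)) + 4 * a * s := by
      rcases hs with rfl | rfl <;> ring
    rw [e] at h8
    have h10 := (dvd_add_right (dvd_mul_right _ _)).1 h8
    have h11 := Dvd.dvd.mul_right h10 s
    have e2 : 4 * a * s * s = 4 * a := by rw [mul_assoc, ← sq, hs2, mul_one]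
    rwa [e2] at h11
  have h10 := Int.le_of_dvd (by omega) h9
  have ha17 : a < 18 := by rcases hd with rfl | ⟨rfl, -⟩ <;> (clear * - ha hao ha16; omega)
  have hy66 : y < 70 := by rcases hs with rfl | rfl <;> (clear * - ha17 h10; omega)
  obtain ⟨Y, rfl⟩ : ∃ Y : ℕ, y = Y := ⟨y.toNat, by omega⟩
  obtain ⟨A, rfl⟩ : ∃ A : ℕ, a = A := ⟨a.toNat, by omega⟩
  have hchk : ChkZ s := by
    rcases hs with rfl | rfl
    · exact chkZ1
    · exact chkZ2
  have h11 := hchk Y (by omega) (by omega) h4 A (by omega) (by omega)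
  rcases hd with rfl | ⟨rfl, h12⟩
  · refine h11.2 (by omega) ?_
    rw [← h7, one_mul]
    exact Int.mul_emod_right _ _
  · refine h11.1 h12 ?_
    rw [← h7]
    exact Int.mul_emod_right _ _

include hy hs hP h4 ha hao in
/-- **`2 N ∣ (x² + 1)(x + 1)`** -/
theorem pB {i j N : ℤ} (hd : d = 1 ∨ (d = 3 ∧ (s * y) % 12 = 7)) (hai : 2 * (a * i) = d * (y - s)) (hj : 1 ≤ j)
    (h : N * (2 * j) = (y ^ 2 + 1) * (y + s))
    (hK : (a * P - d * N) ^ 2 ≤ 5 * d * (a * P)) : (a = d ∧ N = y ^ 2 + 1) ∨ (a = 1 ∧ d = 3 ∧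
      (s * y, P, N) ∈ ([(31, 993, 296), (307, 94557, 31900), (343, 117993, 38915), (-41, 1641, 580),
        (-89, 7833, 2563)] : List (ℤ × ℤ × ℤ))) := by
  obtain ⟨hP1, hP2, hP3⟩ := P_ge hy hs hP
  have hyo : y % 2 = 1 := by rcases hs with rfl | rfl <;> (clear * - h4; omega)
  have hs2 : s ^ 2 = 1 := by rcases hs with rfl | rfl <;> norm_num
  have hd0 : 0 < d := by rcases hd with rfl | ⟨rfl, -⟩ <;> norm_num
  have hdo : d % 2 = 1 := by rcases hd with rfl | ⟨rfl, -⟩ <;> norm_num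
  obtain ⟨z, hz⟩ : ∃ z, z = 2 * (a * j) - d * y := ⟨_, rfl⟩
  have hzj : 2 * (a * j) = d * y + z := by rw [hz]; ring
  have hzo : z % 2 = 1 := by rcases hd with rfl | ⟨rfl, -⟩ <;> omega
  have e : (y ^ 2 + 1) * (y + s) = y * P + s := by rw [hP]; rcases hs with rfl | rfl <;> ring
  have h1 : 2 * j * (a * P - d * N) = z * P + -(d * s) := by
    have h' := h
    rw [e] at h'
    linear_combination P * hzj - d * h'
  have hpos : 0 < d * y + z := by rw [← hzj]; positivity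
  have h2 : a * (z * P + -(d * s)) ^ 2 ≤ 5 * d * ((d * y + z) ^ 2 * P) := by
    have h3 := mul_le_mul_of_nonneg_left hK (by positivity : 0 ≤ a * (4 * j ^ 2))
    have e1 : a * (4 * j ^ 2) * (a * P - d * N) ^ 2 = a * (2 * j * (a * P - d * N)) ^ 2 := by ring
    have e2 : a * (4 * j ^ 2) * (5 * d * (a * P)) = 5 * d * ((2 * (a * j)) ^ 2 * P) := by ring
    rwa [e1, e2, h1, hzj] at h3
  have hak : 2 * (a * (j - i)) = z + d * s := by linarith only [hai, hz]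
  have hz1 : 1 ≤ |z| := Int.one_le_abs (by rintro rfl; omega)
  obtain ⟨Y, hY0, hPY, hY⟩ := facts hy hs hP
  have hr : |-(d * s)| ≤ 3 := by
    rw [abs_neg, abs_mul, abs_of_pos hd0]
    have : |s| = 1 := by rcases hs with rfl | rfl <;> norm_num
    rw [this]
    rcases hd with rfl | ⟨rfl, -⟩ <;> norm_num
  have hrz : 3 ≤ |z| * P := by nlinarith only [hP1, hz1]
  have hsq : 0 ≤ (z * P + -(d * s)) ^ 2 := sq_nonneg _
  by_cases hneg : z = -(d * s)
  · exfalso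
    refine pB_neg (i := i) hy hs hP h4 ha hao hd ?_ hj h hK
    rw [hzj, hneg]; ring
  rcases hd with rfl | ⟨rfl, h12⟩
  · -- `d = 1`
    have h3 : (z * P + -(1 * s)) ^ 2 ≤ 5 * ((1 * y + z) ^ 2 * P) :=
      (le_mul_of_one_le_left hsq ha).trans (h2.trans (le_of_eq (by ring)))
    have h5 := abs_form hr (by omega : 0 ≤ P) (by (clear * - hy; omega) : 0 ≤ 1 * y) hpos.le h3 (by norm_num) hrz
    have h6 := sqrt5 (by (clear * - hy hz1; omega)) hY0 hPY h5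
    have hz3 : |z| < 3 := by
      by_contra hcon
      push Not at hcon
      have h7 : |z| * (1000 * P - 2237 * Y) ≤ 3000 + 2237 * (Y * y) := by linarith only [h6]
      have h8 : 3000 + 2237 * (Y * y) < 3 * (1000 * P - 2237 * Y) := by
        rcases hY with ⟨rfl, rfl⟩ | ⟨rfl, rfl⟩ <;> rw [hP] <;>
          nlinarith only [hy, mul_nonneg (sub_nonneg.2 hy) (sub_nonneg.2 hy)]
      have h9 : 0 ≤ Y * y := mul_nonneg hY0 (by (clear * - hy; omega))
      have h10 : 3 * (1000 * P - 2237 * Y) ≤ |z| * (1000 * P - 2237 * Y) :=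
        mul_le_mul_of_nonneg_right hcon (by linarith only [h8, h9])
      linarith only [h6, h8, h10]
    have hzs : z = s := by
      have h7 := abs_lt.1 hz3
      rcases hs with rfl | rfl <;> (clear * - h7 hak hneg; omega)
    subst hzs
    have ha1 : a * (j - i) = z := by linarith only [hz, hai]
    have ha2 : a = 1 := by
      have h7 : a ∣ z := ⟨_, ha1.symm⟩
      have h8 : a ∣ 1 := by
        rcases hs with h9 | h9
        · rwa [h9] at h7
        · rw [h9] at h7; exact (Int.dvd_neg).1 h7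
      exact Int.eq_one_of_dvd_one (by omega) h8
    left
    refine ⟨ha2, ?_⟩
    subst ha2
    have h7 : (y + z) * N = (y + z) * (y ^ 2 + 1) := by
      have : N * (2 * (1 * j)) = N * (2 * j) := by ring
      rw [hzj, h] at this
      linarith only [this]
    exact mul_left_cancel₀ (by rcases hs with h9 | h9 <;> (clear * - hy h9; omega)) h7
  · -- `d = 3`
    have h3 : (z * P + -(3 * s)) ^ 2 ≤ 15 * ((3 * y + z) ^ 2 * P) :=
      (le_mul_of_one_le_left hsq ha).trans (h2.trans (le_of_eq (by ring)))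
    have h5 := abs_form hr (by omega : 0 ≤ P) (by omega : 0 ≤ 3 * y) hpos.le h3 (by norm_num) hrz
    have h6 := sqrt15 (by omega) hY0 hPY h5
    have hYy : 0 ≤ Y * y := mul_nonneg hY0 (by omega)
    have hz15 : |z| < 15 := by
      by_contra hcon
      push Not at hcon
      have h7 : |z| * (1000 * P - 3873 * Y) ≤ 3000 + 11619 * (Y * y) := by linarith only [h6]
      have h8 : 3000 + 11619 * (Y * y) < 15 * (1000 * P - 3873 * Y) := by
        rcases hY with ⟨rfl, rfl⟩ | ⟨rfl, rfl⟩ <;> rw [hP] <;>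
          nlinarith only [hy, mul_nonneg (sub_nonneg.2 hy) (sub_nonneg.2 hy)]
      have h10 : 15 * (1000 * P - 3873 * Y) ≤ |z| * (1000 * P - 3873 * Y) :=
        mul_le_mul_of_nonneg_right hcon (by linarith only [hYy, h8])
      linarith only [h6, h8, h10]
    have hzl := abs_lt.1 hz15
    rcases (by omega : a = 1 ∨ 3 ≤ a) with ha1 | ha3
    · subst ha1
      rw [one_mul] at hzj
      -- `3 N = y² + 1` is impossible
      have hz3s : z ≠ 3 * s := by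
        intro h7
        have h8 : (y + s) * (3 * N) = (y + s) * (y ^ 2 + 1) := by
          rw [h7] at hzj
          have : N * (2 * j) = N * (3 * (y + s)) := by rw [hzj]; ring
          rw [h] at this
          linarith only [this]
        have h9 : 3 * N = y ^ 2 + 1 := mul_left_cancel₀ (by rcases hs with h9 | h9 <;> (clear * - hy h9; omega)) h8
        have h10 : (y ^ 2 + 1) % 3 = 0 := by (clear * - h9; omega)
        have h11 : y % 3 = 0 ∨ y % 3 = 1 ∨ y % 3 = 2 := by (clear * -; omega)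
        rcases h11 with h11 | h11 | h11 <;> rw [Int.add_emod, pow_two, Int.mul_emod, h11] at h10 <;> norm_num at h10
      -- `W ∣ (z² + 9)(3 s - z)`
      have h7 : (3 * y + z) ∣ (z ^ 2 + 9) * (3 * s - z) := by
        have h8 : (3 * y + z) * (27 * N) = 27 * ((y ^ 2 + 1) * (y + s)) := by rw [← h, ← hzj]; ring
        have h9 : (z ^ 2 + 9) * (3 * s - z) = (3 * y + z) * (27 * N - (9 * y ^ 2 + 9 * s * y + 9 - 3 * y * z -
            3 * s * z + z ^ 2)) := by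
          linear_combination (-1) * h8
        exact ⟨_, h9⟩
      have hne : (z ^ 2 + 9) * (3 * s - z) ≠ 0 := mul_ne_zero (by (clear * -; positivity)) (by (clear * - hz3s; omega))
      have h8 := Int.le_of_dvd (abs_pos.2 hne) ((dvd_abs _ _).2 h7)
      have h9 : |(z ^ 2 + 9) * (3 * s - z)| ≤ 205 * 17 := by
        rw [abs_mul]
        refine mul_le_mul ?_ ?_ (abs_nonneg _) (by norm_num)
        · rw [abs_of_pos (by (clear * -; positivity))]
          nlinarith only [hzl]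
        · rw [abs_le]; rcases hs with rfl | rfl <;> constructor <;> (clear * - hzo hzl; omega)
      have hy960 : y < 1200 := by (clear * - hzl h8 h9; omega)
      -- sharper
      have hz13 : -13 ≤ z ∧ z ≤ 13 := by omega
      have h10 : |(z ^ 2 + 9) * (3 * s - z)| ≤ 178 * 16 := by
        rw [abs_mul]
        refine mul_le_mul ?_ ?_ (abs_nonneg _) (by norm_num)
        · rw [abs_of_pos (by (clear * -; positivity))]
          nlinarith only [hz13]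
        · rw [abs_le]; rcases hs with rfl | rfl <;> constructor <;> (clear * - hzo hzl; omega)
      have hy960 : y < 960 := by (clear * - hzl h8 h10; omega)
      obtain ⟨Z, hZ⟩ : ∃ Z : ℕ, z = 2 * (Z : ℤ) - 13 := ⟨((z + 13) / 2).toNat, by (clear * - hzo hzl; omega)⟩
      obtain ⟨U, rfl⟩ : ∃ U : ℕ, y = U := ⟨y.toNat, by (clear * - hy; omega)⟩
      have hchk : ChkB s := by
        rcases hs with rfl | rfl
        · exact chkB1
        · exact chkB2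
      have h11 := hchk U (by omega) (by omega) h12 Z (by omega)
      rw [← hZ] at h11
      have hW : (((U : ℤ) ^ 2 + 1) * (U + s)) = (3 * U + z) * N := by rw [← h, ← hzj]; ring
      have hWpos : 0 < 3 * (U : ℤ) + z := hpos
      unfold InB at h11
      rw [hW, Int.mul_emod_right, Int.mul_ediv_cancel_left _ hWpos.ne', ← hP] at h11
      right
      refine ⟨rfl, rfl, h11 rfl ?_⟩
      have := hK
      rw [one_mul] at this
      linarith only [hK]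
    · -- `a ≥ 3`
      left
      have h3' : (z * P + -(3 * s)) ^ 2 ≤ 5 * ((3 * y + z) ^ 2 * P) := by
        have := mul_le_mul_of_nonneg_right ha3 hsq
        linarith only [h2, this]
      have h5' := abs_form hr (by omega : 0 ≤ P) (by omega : 0 ≤ 3 * y) hpos.le h3' (by norm_num) hrz
      have h6' := sqrt5 (by omega) hY0 hPY h5'
      have hz9 : |z| < 9 := by
        by_contra hcon
        push Not at hcon
        have h7 : |z| * (1000 * P - 2237 * Y) ≤ 3000 + 6711 * (Y * y) := by linarith only [h6']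
        have h8 : 3000 + 6711 * (Y * y) < 9 * (1000 * P - 2237 * Y) := by
          rcases hY with ⟨rfl, rfl⟩ | ⟨rfl, rfl⟩ <;> rw [hP] <;>
            nlinarith only [hy, mul_nonneg (sub_nonneg.2 hy) (sub_nonneg.2 hy)]
        have h10 : 9 * (1000 * P - 2237 * Y) ≤ |z| * (1000 * P - 2237 * Y) :=
          mul_le_mul_of_nonneg_right hcon (by linarith only [hYy, h8])
        linarith only [h6', h8, h10]
      have hzl' := abs_lt.1 hz9
      have hk0 : j - i ≠ 0 := by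
        intro h0
        rw [h0, mul_zero, mul_zero] at hak
        exact hneg (by linarith only [hak])
      have hk1 : 1 ≤ |j - i| := Int.one_le_abs hk0
      have hak2 : a * |j - i| ≤ 5 := by
        have h7 : |2 * (a * (j - i))| = 2 * (a * |j - i|) := by
          rw [abs_mul, abs_mul, abs_of_pos (by omega : 0 < a)]; norm_num
        have h8 : |2 * (a * (j - i))| ≤ 11 := by
          rw [hak, abs_le]
          rcases hs with rfl | rfl <;> constructor <;> (clear * - hzl'; omega)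
        omega
      have ha5 : a ≤ 5 := by nlinarith only [hk1, hak2]
      rcases (by (clear * - hao ha3 ha5; omega) : a = 3 ∨ a = 5) with rfl | rfl
      · have hk2 : j - i = 1 ∨ j - i = -1 := by
          have h7 : |j - i| ≤ 1 := by omega
          have := abs_le.1 h7
          omega
        have hz3s : z = 3 * s := by
          rcases hs with rfl | rfl <;> rcases hk2 with h7 | h7 <;> rw [h7] at hak <;> (clear * - hak hzl'; omega)
        refine ⟨rfl, ?_⟩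
        have h7 : 2 * j = y + s := by (clear * - hz hz3s; omega)
        have h8 : (y + s) * N = (y + s) * (y ^ 2 + 1) := by rw [← h7, mul_comm, h, h7]; ring
        exact mul_left_cancel₀ (by rcases hs with h9 | h9 <;> (clear * - hy h9; omega)) h8
      · exfalso
        have hk2 : j - i = 1 ∨ j - i = -1 := by
          have h7 : |j - i| ≤ 1 := by omega
          have := abs_le.1 h7
          (clear * - hk0 this; omega)
        have hz7 : |z| = 7 := by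
          rcases hs with rfl | rfl <;> rcases hk2 with h7 | h7 <;> rw [h7] at hak
          · have : z = 7 := by (clear * - hyo hak; omega)
            rw [this]; norm_num
          · (clear * - hyo hzl' hak; omega)
          · (clear * - hyo hzl' hak; omega)
          · have : z = -7 := by (clear * - hyo hak; omega)
            rw [this]; norm_num
        have h3'' : (z * P + -(3 * s)) ^ 2 ≤ 3 * ((3 * y + z) ^ 2 * P) := by linarith only [h2]
        have h5'' := abs_form hr (by omega : 0 ≤ P) (by omega : 0 ≤ 3 * y) hpos.le h3'' (by norm_num) hrz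
        rw [hz7] at h5''
        have h8 : (49 * P - 42) * P ≤ 3 * (3 * y + 7) ^ 2 * P := by linarith only [h5'']
        have h9 : 49 * P - 42 ≤ 3 * (3 * y + 7) ^ 2 := le_of_mul_le_mul_right h8 (by omega)
        rw [hP] at h9
        rcases hs with rfl | rfl <;> linarith only [hy, h9, _root_.mul_self_nonneg (y - 29 : ℤ)]

end

end Cfsg.Agent.R2.Spec.X3.PairII
end

-- part: R2/Spec/X3/PL/Small
section
prune_inst 0x40000000000000000001800002000020000000000000000014040000008400000000000010020010000000080000000000000001000000000000000000000000000008400d0990d08800000002000000000000000000000000000000000000000000000000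
set_option linter.all false
open scoped Cfsg.Agent.FastGrp

-- part: R2/Spec/X3/PL/Quad
section
/-!
# Packet P-L of box X3 (S3435): the quadratic equations (helper4)

`D = (y - 1) d`, `D T = y X² - 1`, `D (T - N) = (y + 1) X - 2`; each outcome of the pair lemma gives a quadratic
equation for `X`; here the nonexistence of solutions for `|y| ≥ 60`.
-/

set_option autoImplicit false

namespace Cfsg.Agent.R2.Spec.X3.PL

theorem no_root {α β γ X W b g : ℤ} (hW : 0 < W) (hb : 0 ≤ b) (hg : 0 ≤ g) (h1 : W ≤ 4 * |α|) (h2 : |β| ≤ b * W)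
    (h3 : |γ| ≤ g * W * |X|) (hX : 4 * (b + g) < |X|) : α * X ^ 2 + β * X + γ ≠ 0 := by
  intro h
  have hX0 : 0 ≤ |X| := abs_nonneg _
  have hXp : 0 < |X| := by omega
  have e1 : |α| * |X| ^ 2 = |β * X + γ| := by
    rw [← abs_pow, ← abs_mul, show α * X ^ 2 = -(β * X + γ) by linear_combination h, abs_neg]
  have e2 : |β * X + γ| ≤ b * W * |X| + g * W * |X| := by
    refine (abs_add_le _ _).trans (add_le_add ?_ h3)
    rw [abs_mul]
    exact mul_le_mul_of_nonneg_right h2 hX0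
  have e3 : W * |X| ^ 2 ≤ 4 * (|α| * |X| ^ 2) := by
    have := mul_le_mul_of_nonneg_right h1 (sq_nonneg |X|)
    linarith
  have e4 : W * |X| * |X| ≤ W * |X| * (4 * (b + g)) := by
    rw [e1] at e3
    linarith only [e2, e3]
  have := le_of_mul_le_mul_left e4 (mul_pos hW hXp)
  omega

/-- the two signs -/
theorem abs_cases' {y : ℤ} (h : 60 ≤ |y|) : ∃ t : ℤ, 0 ≤ t ∧ |y| = 60 + t ∧ (y = 60 + t ∨ y = -(60 + t)) := by
  refine ⟨|y| - 60, by omega, by omega, ?_⟩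
  rcases abs_cases y with ⟨h1, h2⟩ | ⟨h1, h2⟩ <;> omega

section

variable {y X : ℤ} (hy : 60 ≤ |y|) (hX : |y| ≤ |X|)
include hy hX

/-- the general form, leading coefficient `k (y + 1)² - c y (y - 1)` -/
theorem gen {k c w β γ b g : ℤ} (hw : 1 ≤ w) (hb : 0 ≤ b) (hg : 0 ≤ g) (hbg : 4 * (b + g) < 60)
    (hkc : (w = c ∧ 3 ≤ c ∧ k = 1) ∨ (w = c ∧ 3 ≤ c ∧ k = 2) ∨ (w = c ∧ 5 ≤ c ∧ k = 3) ∨ (c = 4 * w ∧ k = 1) ∨
      (c = 4 * w ∧ k = 3))
    (h2 : |β| ≤ b * (w * y ^ 2)) (h3 : |γ| ≤ g * (w * y ^ 2) * |y|) :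
    (k * (y + 1) ^ 2 - c * (y - 1) * y) * X ^ 2 + β * X + γ ≠ 0 := by
  have hy2 : 0 < y ^ 2 := by
    have : y ≠ 0 := by
      rintro rfl
      norm_num at hy
    positivity
  have hW : 0 < w * y ^ 2 := mul_pos (by omega) hy2
  refine no_root hW hb hg ?_ h2 (h3.trans ?_) (by omega)
  · have key : w * y ^ 2 ≤ 4 * (-(k * (y + 1) ^ 2 - c * (y - 1) * y)) := by
      obtain ⟨t, ht, -, hyt⟩ := abs_cases' hy
      rcases hkc with ⟨rfl, h4, rfl⟩ | ⟨rfl, h4, rfl⟩ | ⟨rfl, h4, rfl⟩ | ⟨rfl, rfl⟩ | ⟨rfl, rfl⟩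
      · obtain ⟨s, rfl⟩ : ∃ s, w = 3 + s := ⟨w - 3, by omega⟩
        have hs : 0 ≤ s := by omega
        rcases hyt with rfl | rfl <;> linarith only [ht, h4, mul_nonneg hs ht, mul_nonneg hs (sq_nonneg t), _root_.mul_self_nonneg (t : ℤ), _root_.sq_nonneg (t : ℤ)]
      · obtain ⟨s, rfl⟩ : ∃ s, w = 3 + s := ⟨w - 3, by omega⟩
        have hs : 0 ≤ s := by omega
        rcases hyt with rfl | rfl <;> linarith only [ht, h4, mul_nonneg hs ht, mul_nonneg hs (sq_nonneg t), _root_.mul_self_nonneg (t : ℤ), _root_.sq_nonneg (t : ℤ)]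
      · obtain ⟨s, rfl⟩ : ∃ s, w = 5 + s := ⟨w - 5, by omega⟩
        have hs : 0 ≤ s := by omega
        rcases hyt with rfl | rfl <;> linarith only [ht, h4, mul_nonneg hs ht, mul_nonneg hs (sq_nonneg t), _root_.mul_self_nonneg (t : ℤ), _root_.sq_nonneg (t : ℤ)]
      · obtain ⟨s, rfl⟩ : ∃ s, w = 1 + s := ⟨w - 1, by omega⟩
        have hs : 0 ≤ s := by omega
        rcases hyt with rfl | rfl <;> linarith only [ht, hw, mul_nonneg hs ht, mul_nonneg hs (sq_nonneg t), _root_.mul_self_nonneg (t : ℤ), _root_.sq_nonneg (t : ℤ)]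
      · obtain ⟨s, rfl⟩ : ∃ s, w = 1 + s := ⟨w - 1, by omega⟩
        have hs : 0 ≤ s := by omega
        rcases hyt with rfl | rfl <;> linarith only [ht, hw, mul_nonneg hs ht, mul_nonneg hs (sq_nonneg t), _root_.mul_self_nonneg (t : ℤ), _root_.sq_nonneg (t : ℤ)]
    refine key.trans (mul_le_mul_of_nonneg_left ?_ (by norm_num))
    exact neg_le_abs _
  · exact mul_le_mul_of_nonneg_left hX (by positivity)

omit hy hX in
/-- bounds of the linear coefficients -/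
theorem bd_one {m n m' n' c : ℤ} (hm : |m| ≤ m') (hn : |n| ≤ n') (hc : 0 ≤ c) :
    |(y + 1) * (m + n * (c * (y - 1)))| ≤ (|y| + 1) * (m' + n' * (c * (|y| + 1))) := by
  have h1 : |y + 1| ≤ |y| + 1 := by
    have := abs_add_le y 1
    simpa only [_root_.ge_iff_le, _root_.abs_one] using this
  have h2 : |y - 1| ≤ |y| + 1 := by
    have := abs_sub y 1
    simpa using this
  have hn0 : 0 ≤ n' := (abs_nonneg _).trans hn
  rw [abs_mul]
  refine mul_le_mul h1 ?_ (abs_nonneg _) (by positivity)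
  refine (abs_add_le _ _).trans (add_le_add hm ?_)
  rw [abs_mul, abs_mul, abs_of_nonneg hc]
  gcongr

omit hy hX in
/-- bounds of the constant coefficients -/
theorem bd_two {l m n l' m' n' c : ℤ} (hl : |l| ≤ l') (hm : |m| ≤ m') (hn : |n| ≤ n') (hc : 0 ≤ c) :
    |l * (c * (y - 1)) ^ 2 + m * (c * (y - 1)) + n| ≤ l' * (c * (|y| + 1)) ^ 2 + m' * (c * (|y| + 1)) + n' := by
  have h2 : |y - 1| ≤ |y| + 1 := by
    have := abs_sub y 1
    simpa using this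
  have h3 : |c * (y - 1)| ≤ c * (|y| + 1) := by
    rw [abs_mul, abs_of_nonneg hc]
    exact mul_le_mul_of_nonneg_left h2 hc
  have hl0 : 0 ≤ l' := (abs_nonneg _).trans hl
  have hm0 : 0 ≤ m' := (abs_nonneg _).trans hm
  refine (abs_add_three _ _ _).trans (add_le_add (add_le_add ?_ ?_) hn)
  · rw [abs_mul, abs_pow]
    gcongr
  · rw [abs_mul]
    gcongr

theorem big_S {c : ℤ} (hc : 3 ≤ c) (hc' : c ≤ 9 * (|y| + 1)) :
    (2 * (y + 1) ^ 2 - c * (y - 1) * y) * X ^ 2 + -((y + 1) * (8 + 2 * (c * (y - 1)))) * X +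
      (1 * (c * (y - 1)) ^ 2 + 5 * (c * (y - 1)) + 8) ≠ 0 := by
  obtain ⟨t, ht, hu, -⟩ := abs_cases' hy
  have hyy : y ^ 2 = |y| ^ 2 := (sq_abs y).symm
  refine gen hy hX (w := c) (b := 3) (g := 10) (by omega) (by norm_num) (by norm_num) (by norm_num)
    (Or.inr (Or.inl ⟨rfl, hc, rfl⟩)) ?_ ?_
  · rw [abs_neg]
    refine (bd_one (m' := 8) (n' := 2) (by norm_num) (by norm_num) (by omega)).trans ?_
    obtain ⟨s, rfl⟩ : ∃ s, c = 3 + s := ⟨c - 3, by omega⟩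
    have hs : 0 ≤ s := by omega
    rw [hyy, hu]
    linarith only [ht, hc, mul_nonneg hs ht, mul_nonneg hs (sq_nonneg t), _root_.sq_nonneg (t : ℤ)]
  · refine (bd_two (l' := 1) (m' := 5) (n' := 8) (by norm_num) (by norm_num) (by norm_num) (by omega)).trans ?_
    have h1 : 1 * (c * (|y| + 1)) ^ 2 ≤ c * (9 * (|y| + 1)) * (|y| + 1) ^ 2 := by
      have : c * c ≤ c * (9 * (|y| + 1)) := mul_le_mul_of_nonneg_left hc' (by omega)
      nlinarith only [this, sq_nonneg (|y| + 1)]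
    obtain ⟨s, rfl⟩ : ∃ s, c = 3 + s := ⟨c - 3, by omega⟩
    have hs : 0 ≤ s := by omega
    rw [hyy, hu] at *
    linarith only [ht, hc, h1, mul_nonneg hs ht, mul_nonneg hs (sq_nonneg t), mul_nonneg hs (mul_nonneg ht (sq_nonneg t)), mul_nonneg ht (sq_nonneg t), _root_.sq_nonneg (t : ℤ)]

theorem big_II1 {d : ℤ} (hd : 3 ≤ d) (hd' : d ≤ |y| + 1) :
    (1 * (y + 1) ^ 2 - d * (y - 1) * y) * X ^ 2 + ((y + 1) * ((-4) + (-3) * (d * (y - 1)))) * X +
      (3 * (d * (y - 1)) ^ 2 + 7 * (d * (y - 1)) + 4) ≠ 0 := by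
  obtain ⟨t, ht, hu, -⟩ := abs_cases' hy
  have hyy : y ^ 2 = |y| ^ 2 := (sq_abs y).symm
  refine gen hy hX (w := d) (b := 4) (g := 4) (by omega) (by norm_num) (by norm_num) (by norm_num)
    (Or.inl ⟨rfl, hd, rfl⟩) ?_ ?_
  · refine (bd_one (m' := 4) (n' := 3) (by norm_num) (by norm_num) (by omega)).trans ?_
    obtain ⟨s, rfl⟩ : ∃ s, d = 3 + s := ⟨d - 3, by omega⟩
    have hs : 0 ≤ s := by omega
    rw [hyy, hu]
    linarith only [ht, hd, mul_nonneg hs ht, mul_nonneg hs (sq_nonneg t), _root_.sq_nonneg (t : ℤ)]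
  · refine (bd_two (l' := 3) (m' := 7) (n' := 4) (by norm_num) (by norm_num) (by norm_num) (by omega)).trans ?_
    have h1 : 3 * (d * (|y| + 1)) ^ 2 ≤ 3 * (d * (|y| + 1) * (|y| + 1) ^ 2) := by
      have : d * d ≤ d * (|y| + 1) := mul_le_mul_of_nonneg_left hd' (by omega)
      nlinarith only [this, sq_nonneg (|y| + 1)]
    obtain ⟨s, rfl⟩ : ∃ s, d = 3 + s := ⟨d - 3, by omega⟩
    have hs : 0 ≤ s := by omega
    rw [hyy, hu] at *
    linarith only [ht, hd, h1, mul_nonneg hs ht, mul_nonneg hs (sq_nonneg t), mul_nonneg hs (mul_nonneg ht (sq_nonneg t)), mul_nonneg ht (sq_nonneg t), _root_.sq_nonneg (t : ℤ)]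

theorem big_II1' {d : ℤ} (hd : 5 ≤ d) (hd' : d ≤ |y| + 1) :
    (3 * (y + 1) ^ 2 - d * (y - 1) * y) * X ^ 2 + ((y + 1) * ((-12) + (-3) * (d * (y - 1)))) * X +
      (1 * (d * (y - 1)) ^ 2 + 7 * (d * (y - 1)) + 12) ≠ 0 := by
  obtain ⟨t, ht, hu, -⟩ := abs_cases' hy
  have hyy : y ^ 2 = |y| ^ 2 := (sq_abs y).symm
  refine gen hy hX (w := d) (b := 4) (g := 2) (by omega) (by norm_num) (by norm_num) (by norm_num)
    (Or.inr (Or.inr (Or.inl ⟨rfl, hd, rfl⟩))) ?_ ?_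
  · refine (bd_one (m' := 12) (n' := 3) (by norm_num) (by norm_num) (by omega)).trans ?_
    obtain ⟨s, rfl⟩ : ∃ s, d = 5 + s := ⟨d - 5, by omega⟩
    have hs : 0 ≤ s := by omega
    rw [hyy, hu]
    linarith only [ht, hd, mul_nonneg hs ht, mul_nonneg hs (sq_nonneg t), _root_.sq_nonneg (t : ℤ)]
  · refine (bd_two (l' := 1) (m' := 7) (n' := 12) (by norm_num) (by norm_num) (by norm_num) (by omega)).trans ?_
    have h1 : 1 * (d * (|y| + 1)) ^ 2 ≤ 1 * (d * (|y| + 1) * (|y| + 1) ^ 2) := by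
      have : d * d ≤ d * (|y| + 1) := mul_le_mul_of_nonneg_left hd' (by omega)
      nlinarith only [this, sq_nonneg (|y| + 1)]
    obtain ⟨s, rfl⟩ : ∃ s, d = 5 + s := ⟨d - 5, by omega⟩
    have hs : 0 ≤ s := by omega
    rw [hyy, hu] at *
    linarith only [ht, hd, h1, mul_nonneg hs ht, mul_nonneg hs (sq_nonneg t), mul_nonneg hs (mul_nonneg ht (sq_nonneg t)), mul_nonneg ht (sq_nonneg t), _root_.sq_nonneg (t : ℤ)]

theorem big_II2 {d : ℤ} (hd : 1 ≤ d) (hd' : d ≤ |y| + 1) :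
    (1 * (y + 1) ^ 2 - (4 * d) * (y - 1) * y) * X ^ 2 + ((y + 1) * ((-4) + 0 * (d * (y - 1)))) * X +
      (3 * (d * (y - 1)) ^ 2 + 4 * (d * (y - 1)) + 4) ≠ 0 := by
  obtain ⟨t, ht, hu, -⟩ := abs_cases' hy
  have hyy : y ^ 2 = |y| ^ 2 := (sq_abs y).symm
  refine gen hy hX (w := d) (b := 1) (g := 4) (by omega) (by norm_num) (by norm_num) (by norm_num)
    (Or.inr (Or.inr (Or.inr (Or.inl ⟨rfl, rfl⟩)))) ?_ ?_
  · refine (bd_one (m' := 4) (n' := 0) (by norm_num) (by norm_num) (by omega)).trans ?_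
    obtain ⟨s, rfl⟩ : ∃ s, d = 1 + s := ⟨d - 1, by omega⟩
    have hs : 0 ≤ s := by omega
    rw [hyy, hu]
    linarith only [ht, hd, mul_nonneg hs ht, mul_nonneg hs (sq_nonneg t), _root_.sq_nonneg (t : ℤ)]
  · refine (bd_two (l' := 3) (m' := 4) (n' := 4) (by norm_num) (by norm_num) (by norm_num) (by omega)).trans ?_
    have h1 : 3 * (d * (|y| + 1)) ^ 2 ≤ 3 * (d * (|y| + 1) * (|y| + 1) ^ 2) := by
      have : d * d ≤ d * (|y| + 1) := mul_le_mul_of_nonneg_left hd' (by omega)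
      nlinarith only [this, sq_nonneg (|y| + 1)]
    obtain ⟨s, rfl⟩ : ∃ s, d = 1 + s := ⟨d - 1, by omega⟩
    have hs : 0 ≤ s := by omega
    rw [hyy, hu] at *
    linarith only [ht, hd, h1, mul_nonneg hs ht, mul_nonneg hs (sq_nonneg t), mul_nonneg hs (mul_nonneg ht (sq_nonneg t)), mul_nonneg ht (sq_nonneg t), _root_.sq_nonneg (t : ℤ)]

theorem big_II2' {d : ℤ} (hd : 1 ≤ d) (hd' : d ≤ |y| + 1) :
    (3 * (y + 1) ^ 2 - (4 * d) * (y - 1) * y) * X ^ 2 + ((y + 1) * ((-12) + 0 * (d * (y - 1)))) * X +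
      (1 * (d * (y - 1)) ^ 2 + 4 * (d * (y - 1)) + 12) ≠ 0 := by
  obtain ⟨t, ht, hu, -⟩ := abs_cases' hy
  have hyy : y ^ 2 = |y| ^ 2 := (sq_abs y).symm
  refine gen hy hX (w := d) (b := 1) (g := 2) (by omega) (by norm_num) (by norm_num) (by norm_num)
    (Or.inr (Or.inr (Or.inr (Or.inr ⟨rfl, rfl⟩)))) ?_ ?_
  · refine (bd_one (m' := 12) (n' := 0) (by norm_num) (by norm_num) (by omega)).trans ?_
    obtain ⟨s, rfl⟩ : ∃ s, d = 1 + s := ⟨d - 1, by omega⟩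
    have hs : 0 ≤ s := by omega
    rw [hyy, hu]
    linarith only [ht, hd, mul_nonneg hs ht, mul_nonneg hs (sq_nonneg t), _root_.sq_nonneg (t : ℤ)]
  · refine (bd_two (l' := 1) (m' := 4) (n' := 12) (by norm_num) (by norm_num) (by norm_num) (by omega)).trans ?_
    have h1 : 1 * (d * (|y| + 1)) ^ 2 ≤ 1 * (d * (|y| + 1) * (|y| + 1) ^ 2) := by
      have : d * d ≤ d * (|y| + 1) := mul_le_mul_of_nonneg_left hd' (by omega)
      nlinarith only [this, sq_nonneg (|y| + 1)]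
    obtain ⟨s, rfl⟩ : ∃ s, d = 1 + s := ⟨d - 1, by omega⟩
    have hs : 0 ≤ s := by omega
    rw [hyy, hu] at *
    linarith only [ht, hd, h1, mul_nonneg hs ht, mul_nonneg hs (sq_nonneg t), mul_nonneg hs (mul_nonneg ht (sq_nonneg t)), mul_nonneg ht (sq_nonneg t), _root_.sq_nonneg (t : ℤ)]

theorem big_II4 {d : ℤ} (hd : 3 ≤ d) (hd' : d ≤ |y| + 1) :
    (1 * (y + 1) ^ 2 - d * (y - 1) * y) * X ^ 2 + ((y + 1) * ((-4) + 1 * (d * (y - 1)))) * X +
      (1 * (d * (y - 1)) ^ 2 + (-1) * (d * (y - 1)) + 4) ≠ 0 := by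
  obtain ⟨t, ht, hu, -⟩ := abs_cases' hy
  have hyy : y ^ 2 = |y| ^ 2 := (sq_abs y).symm
  refine gen hy hX (w := d) (b := 2) (g := 2) (by omega) (by norm_num) (by norm_num) (by norm_num)
    (Or.inl ⟨rfl, hd, rfl⟩) ?_ ?_
  · refine (bd_one (m' := 4) (n' := 1) (by norm_num) (by norm_num) (by omega)).trans ?_
    obtain ⟨s, rfl⟩ : ∃ s, d = 3 + s := ⟨d - 3, by omega⟩
    have hs : 0 ≤ s := by omega
    rw [hyy, hu]
    linarith only [ht, hd, mul_nonneg hs ht, mul_nonneg hs (sq_nonneg t), _root_.sq_nonneg (t : ℤ)]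
  · refine (bd_two (l' := 1) (m' := 1) (n' := 4) (by norm_num) (by norm_num) (by norm_num) (by omega)).trans ?_
    have h1 : 1 * (d * (|y| + 1)) ^ 2 ≤ 1 * (d * (|y| + 1) * (|y| + 1) ^ 2) := by
      have : d * d ≤ d * (|y| + 1) := mul_le_mul_of_nonneg_left hd' (by omega)
      nlinarith only [this, sq_nonneg (|y| + 1)]
    obtain ⟨s, rfl⟩ : ∃ s, d = 3 + s := ⟨d - 3, by omega⟩
    have hs : 0 ≤ s := by omega
    rw [hyy, hu] at *
    linarith only [ht, hd, h1, mul_nonneg hs ht, mul_nonneg hs (sq_nonneg t), mul_nonneg hs (mul_nonneg ht (sq_nonneg t)), mul_nonneg ht (sq_nonneg t), _root_.sq_nonneg (t : ℤ)]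

end

end Cfsg.Agent.R2.Spec.X3.PL
end

-- part: R2/Spec/X3/PL/Small
section
/-!
# Packet P-L of box X3 (S3435): the quadratic equations, `|y| < 60` (helper4)
-/

set_option autoImplicit false

namespace Cfsg.Agent.R2.Spec.X3.PL

/-- no root among `X, X y, X y², …` (of absolute value at most `|β| + |γ|`) -/
def lp (y α β γ : ℤ) (B : ℕ) : ℕ → ℤ → Bool
  | 0, X => Nat.blt B X.natAbs
  | n + 1, X => Nat.blt B X.natAbs || (!(decide ((α * X + β) * X + γ = 0)) && lp y α β γ B n (X * y))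

theorem lp_spec {y α β γ : ℤ} {B : ℕ} (hy : 1 ≤ y.natAbs) : ∀ (n : ℕ) (X : ℤ), lp y α β γ B n X = true →
    ∀ j : ℕ, (X * y ^ j).natAbs ≤ B → α * (X * y ^ j) ^ 2 + β * (X * y ^ j) + γ ≠ 0 := by
  have key : ∀ (X : ℤ) (j : ℕ), X.natAbs ≤ (X * y ^ j).natAbs := by
    intro X j
    rw [Int.natAbs_mul, Int.natAbs_pow]
    exact Nat.le_mul_of_pos_right _ (Nat.one_le_pow _ _ hy)
  intro n
  induction n with
  | zero =>
    intro X h j hj
    have h1 : B < X.natAbs := by simpa [lp, Nat.blt] using h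
    have := key X j
    omega
  | succ n ih =>
    intro X h j hj
    rw [lp, Bool.or_eq_true, Bool.and_eq_true] at h
    rcases h with h | ⟨h1, h2⟩
    · have h1 : B < X.natAbs := by simpa [Nat.blt] using h
      have := key X j
      omega
    · rcases Nat.eq_zero_or_pos j with rfl | hj0
      · intro h3
        rw [pow_zero, mul_one] at h3
        have h4 : (α * X + β) * X + γ = 0 := by linear_combination h3
        simp [h4] at h1
      · obtain ⟨k, rfl⟩ : ∃ k, j = k + 1 := ⟨j - 1, by omega⟩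
        have e : X * y ^ (k + 1) = X * y * y ^ k := by ring
        rw [e] at hj ⊢
        exact ih _ h2 k hj

theorem le_of_root {α β γ X : ℤ} (h : α * X ^ 2 + β * X + γ = 0) (hne : ¬ (α = 0 ∧ β = 0)) (hX : X ≠ 0) :
    X.natAbs ≤ β.natAbs + γ.natAbs := by
  have hX1 : 1 ≤ |X| := Int.one_le_abs hX
  suffices hs : |X| ≤ |β| + |γ| by
    rw [Int.abs_eq_natAbs, Int.abs_eq_natAbs, Int.abs_eq_natAbs] at hs
    exact_mod_cast hs
  by_cases hα : α = 0
  · have hβ : β ≠ 0 := fun h1 => hne ⟨hα, h1⟩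
    have hβ1 : 1 ≤ |β| := Int.one_le_abs hβ
    have e : β * X = -γ := by rw [hα] at h; linear_combination h
    have e2 : |β| * |X| = |γ| := by rw [← abs_mul, e, abs_neg]
    nlinarith only [hX1, hβ1, e2]
  · have hα1 : 1 ≤ |α| := Int.one_le_abs hα
    have e1 : |α| * |X| ^ 2 = |β * X + γ| := by
      rw [← abs_pow, ← abs_mul, show α * X ^ 2 = -(β * X + γ) by linear_combination h, abs_neg]
    have e2 : |β * X + γ| ≤ |β| * |X| + |γ| := by
      refine (abs_add_le _ _).trans ?_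
      rw [abs_mul]
    by_contra hcon
    push Not at hcon
    have h3 : (|β| + |γ| + 1) * |X| ≤ |X| * |X| := mul_le_mul_of_nonneg_right (by omega) (by omega)
    have h4 : |X| * |X| ≤ |α| * |X| ^ 2 := by nlinarith only [hα1]
    nlinarith only [e1, e2, hcon, h4, abs_nonneg γ, abs_nonneg β]

/-- check of one quadratic -/
def ck (y α β γ X0 : ℤ) : Bool :=
  !(decide (α = 0 ∧ β = 0)) && lp y α β γ (β.natAbs + γ.natAbs) 40 X0

theorem ck_spec {y α β γ X0 : ℤ} (hy : 1 ≤ y.natAbs) (hX0 : X0 ≠ 0) (h : ck y α β γ X0 = true) (j : ℕ) :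
    α * (X0 * y ^ j) ^ 2 + β * (X0 * y ^ j) + γ ≠ 0 := by
  intro h0
  rw [ck, Bool.and_eq_true] at h
  obtain ⟨h1, h2⟩ := h
  have hne : ¬ (α = 0 ∧ β = 0) := by
    rintro ⟨h3, h4⟩
    simp [h3, h4] at h1
  have hX : X0 * y ^ j ≠ 0 := mul_ne_zero hX0 (pow_ne_zero _ (by rintro rfl; simp at hy))
  exact lp_spec hy _ _ h2 j (le_of_root h0 hne hX) h0

/-- the first value of `X` -/
def X0 (y : ℤ) (d : ℕ) (b : Bool) : ℤ := if d = 1 && !b then y else y * y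

/-- the six families -/
def ckS (y : ℤ) (d : ℕ) (a : ℕ) : Bool :=
  let c : ℤ := a * d
  let D : ℤ := c * (y - 1)
  ck y (2 * (y + 1) ^ 2 - D * y) (-((y + 1) * (8 + 2 * D))) (1 * D ^ 2 + 5 * D + 8) (X0 y d (decide (y = -2 ∧ a = 3)))

def ckA (y : ℤ) (d : ℕ) : Bool :=
  let D : ℤ := d * (y - 1)
  ck y (1 * (y + 1) ^ 2 - D * y) ((y + 1) * (-4 + -3 * D)) (3 * D ^ 2 + 7 * D + 4) (X0 y d false)

def ckA' (y : ℤ) (d : ℕ) : Bool :=
  let D : ℤ := d * (y - 1)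
  ck y (3 * (y + 1) ^ 2 - D * y) ((y + 1) * (-12 + -3 * D)) (1 * D ^ 2 + 7 * D + 12) (X0 y d false)

def ckB (y : ℤ) (d : ℕ) : Bool :=
  let D : ℤ := d * (y - 1)
  ck y (1 * (y + 1) ^ 2 - 4 * D * y) ((y + 1) * (-4 + 0 * D)) (3 * D ^ 2 + 4 * D + 4) (X0 y d false)

def ckB' (y : ℤ) (d : ℕ) : Bool :=
  let D : ℤ := d * (y - 1)
  ck y (3 * (y + 1) ^ 2 - 4 * D * y) ((y + 1) * (-12 + 0 * D)) (1 * D ^ 2 + 4 * D + 12) (X0 y d (decide (y = 9)))

def ckC (y : ℤ) (d : ℕ) : Bool :=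
  let D : ℤ := d * (y - 1)
  ck y (1 * (y + 1) ^ 2 - D * y) ((y + 1) * (-4 + 1 * D)) (1 * D ^ 2 + -1 * D + 4) (X0 y d false)

def ckAll (y : ℤ) : Bool :=
  (List.range 31).all fun i =>
    let d := 2 * i + 1
    !(decide ((y - 1) % (d : ℤ) = 0)) ||
      ((Nat.beq d 1 || ckS y d 1) && ckS y d 3 && ckS y d 5 && ckS y d 7 && ckS y d 9 &&
        (Nat.beq d 1 || ckA y d) && (Nat.ble d 3 || ckA' y d) && ckB y d && ckB' y d && (Nat.beq d 1 || ckC y d))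

private noncomputable def _root_.Cfsg.Agent.LsF.fc8d567_0 : {f // @Cfsg.Agent.R2.Spec.X3.PL.lp = f} := ⟨_, by first | (delta Cfsg.Agent.R2.Spec.X3.PL.lp Nat.brecOn.go Nat.brecOn Cfsg.Agent.R2.Spec.X3.PL.lp._f; rewrite [Cfsg.Agent.LsF.iadd_pat, Cfsg.Agent.LsF.imul_pat, Cfsg.Agent.LsF.and_eq, Cfsg.Agent.LsF.or_eq, Cfsg.Agent.LsF.not_eq, Cfsg.Agent.LsF.natAbs_eq, Cfsg.Agent.LsF.instIDecEq_eq, Cfsg.Agent.LsF.decide_eq]; (try delta Cfsg.Agent.R2.Spec.X3.PL.lp.match_1); (try delta Nat.casesOn); first | dsimp -zeta only | exact rfl) | exact rfl⟩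
private noncomputable def _root_.Cfsg.Agent.LsF.fc8d567_1 : {f // @Cfsg.Agent.R2.Spec.X3.PL.ck = f} := ⟨_, by first | (delta Cfsg.Agent.R2.Spec.X3.PL.ck; rewrite [Cfsg.Agent.LsF.fc8d567_0.2, Cfsg.Agent.LsF.nadd_pat, Cfsg.Agent.LsF.and_eq, Cfsg.Agent.LsF.not_eq, Cfsg.Agent.LsF.natAbs_eq, Cfsg.Agent.LsF.instIDecEq_eq, Cfsg.Agent.LsF.dAnd_eq, Cfsg.Agent.LsF.decide_eq]; exact rfl) | exact rfl⟩
private noncomputable def _root_.Cfsg.Agent.LsF.fc8d567_2 : {f // @Cfsg.Agent.R2.Spec.X3.PL.X0 = f} := ⟨_, by first | (delta Cfsg.Agent.R2.Spec.X3.PL.X0; rewrite [Cfsg.Agent.LsF.imul_pat, Cfsg.Agent.LsF.and_eq, Cfsg.Agent.LsF.not_eq, Cfsg.Agent.LsF.instDecEq_eq, Cfsg.Agent.LsF.dBoolEq_eq, Cfsg.Agent.LsF.ite_eq, Cfsg.Agent.LsF.decide_eq]; exact rfl) | exact rfl⟩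
private noncomputable def _root_.Cfsg.Agent.LsF.fc8d567_3 : {f // @Cfsg.Agent.R2.Spec.X3.PL.ckS = f} := ⟨_, by first | (delta Cfsg.Agent.R2.Spec.X3.PL.ckS; rewrite [Cfsg.Agent.LsF.fc8d567_1.2, Cfsg.Agent.LsF.fc8d567_2.2, Cfsg.Agent.LsF.iadd_pat, Cfsg.Agent.LsF.imul_pat, Cfsg.Agent.LsF.isub_pat, Cfsg.Agent.LsF.ineg_pat, Cfsg.Agent.LsF.icast_pat, Cfsg.Agent.LsF.instDecEq_eq, Cfsg.Agent.LsF.instIDecEq_eq, Cfsg.Agent.LsF.dAnd_eq, Cfsg.Agent.LsF.decide_eq]; exact rfl) | exact rfl⟩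
private noncomputable def _root_.Cfsg.Agent.LsF.fc8d567_4 : {f // @Cfsg.Agent.R2.Spec.X3.PL.ckA = f} := ⟨_, by first | (delta Cfsg.Agent.R2.Spec.X3.PL.ckA; rewrite [Cfsg.Agent.LsF.fc8d567_1.2, Cfsg.Agent.LsF.fc8d567_2.2, Cfsg.Agent.LsF.iadd_pat, Cfsg.Agent.LsF.imul_pat, Cfsg.Agent.LsF.isub_pat, Cfsg.Agent.LsF.ineg_pat, Cfsg.Agent.LsF.icast_pat]; exact rfl) | exact rfl⟩
private noncomputable def _root_.Cfsg.Agent.LsF.fc8d567_5 : {f // @Cfsg.Agent.R2.Spec.X3.PL.ckA' = f} := ⟨_, by first | (delta Cfsg.Agent.R2.Spec.X3.PL.ckA'; rewrite [Cfsg.Agent.LsF.fc8d567_1.2, Cfsg.Agent.LsF.fc8d567_2.2, Cfsg.Agent.LsF.iadd_pat, Cfsg.Agent.LsF.imul_pat, Cfsg.Agent.LsF.isub_pat, Cfsg.Agent.LsF.ineg_pat, Cfsg.Agent.LsF.icast_pat]; exact rfl) | exact rfl⟩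
private noncomputable def _root_.Cfsg.Agent.LsF.fc8d567_6 : {f // @Cfsg.Agent.R2.Spec.X3.PL.ckB = f} := ⟨_, by first | (delta Cfsg.Agent.R2.Spec.X3.PL.ckB; rewrite [Cfsg.Agent.LsF.fc8d567_1.2, Cfsg.Agent.LsF.fc8d567_2.2, Cfsg.Agent.LsF.iadd_pat, Cfsg.Agent.LsF.imul_pat, Cfsg.Agent.LsF.isub_pat, Cfsg.Agent.LsF.ineg_pat, Cfsg.Agent.LsF.icast_pat]; exact rfl) | exact rfl⟩
private noncomputable def _root_.Cfsg.Agent.LsF.fc8d567_7 : {f // @Cfsg.Agent.R2.Spec.X3.PL.ckB' = f} := ⟨_, by first | (delta Cfsg.Agent.R2.Spec.X3.PL.ckB'; rewrite [Cfsg.Agent.LsF.fc8d567_1.2, Cfsg.Agent.LsF.fc8d567_2.2, Cfsg.Agent.LsF.iadd_pat, Cfsg.Agent.LsF.imul_pat, Cfsg.Agent.LsF.isub_pat, Cfsg.Agent.LsF.ineg_pat, Cfsg.Agent.LsF.icast_pat, Cfsg.Agent.LsF.instIDecEq_eq, Cfsg.Agent.LsF.decide_eq]; exact rfl) | exact rfl⟩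
private noncomputable def _root_.Cfsg.Agent.LsF.fc8d567_8 : {f // @Cfsg.Agent.R2.Spec.X3.PL.ckC = f} := ⟨_, by first | (delta Cfsg.Agent.R2.Spec.X3.PL.ckC; rewrite [Cfsg.Agent.LsF.fc8d567_1.2, Cfsg.Agent.LsF.fc8d567_2.2, Cfsg.Agent.LsF.iadd_pat, Cfsg.Agent.LsF.imul_pat, Cfsg.Agent.LsF.isub_pat, Cfsg.Agent.LsF.ineg_pat, Cfsg.Agent.LsF.icast_pat]; exact rfl) | exact rfl⟩
private noncomputable def _root_.Cfsg.Agent.LsF.fc8d567_9 : {f // @Cfsg.Agent.R2.Spec.X3.PL.ckAll = f} := ⟨_, by first | (delta Cfsg.Agent.R2.Spec.X3.PL.ckAll; rewrite [Cfsg.Agent.LsF.fc8d567_3.2, Cfsg.Agent.LsF.fc8d567_4.2, Cfsg.Agent.LsF.fc8d567_5.2, Cfsg.Agent.LsF.fc8d567_6.2, Cfsg.Agent.LsF.fc8d567_7.2, Cfsg.Agent.LsF.fc8d567_8.2, Cfsg.Agent.LsF.nadd_pat, Cfsg.Agent.LsF.nmul_pat, Cfsg.Agent.LsF.isub_pat, Cfsg.Agent.LsF.imod_pat, Cfsg.Agent.LsF.icast_pat, Cfsg.Agent.LsF.and_eq, Cfsg.Agent.LsF.or_eq, Cfsg.Agent.LsF.not_eq,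 Cfsg.Agent.LsF.all_eq, Cfsg.Agent.LsF.range_eq, Cfsg.Agent.LsF.instIDecEq_eq, Cfsg.Agent.LsF.decide_eq]; exact rfl) | exact rfl⟩
theorem chk_pos : ((List.range 60).all fun u => Nat.ble u 1 || ckAll (u : ℤ)) = true := by ((try (rewrite [Cfsg.Agent.LsF.fc8d567_9.2, Cfsg.Agent.LsF.icast_pat, Cfsg.Agent.LsF.or_eq, Cfsg.Agent.LsF.all_eq, Cfsg.Agent.LsF.range_eq])); decide +kernel)
theorem chk_neg : ((List.range 60).all fun u => Nat.ble u 1 || ckAll (-(u : ℤ))) = true := by ((try (rewrite [Cfsg.Agent.LsF.fc8d567_9.2, Cfsg.Agent.LsF.ineg_pat, Cfsg.Agent.LsF.icast_pat, Cfsg.Agent.LsF.or_eq, Cfsg.Agent.LsF.all_eq, Cfsg.Agent.LsF.range_eq])); decide +kernel)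

theorem ckAll_of {y : ℤ} (hy : 2 ≤ |y|) (hy' : |y| < 60) : ckAll y = true := by
  have h0 : (y.natAbs : ℤ) = |y| := (Int.abs_eq_natAbs y).symm
  rcases abs_cases y with ⟨h1, h2⟩ | ⟨h1, h2⟩
  · have h3 := List.all_eq_true.1 chk_pos y.natAbs (List.mem_range.2 (by omega))
    rw [Bool.or_eq_true] at h3
    rcases h3 with h3 | h3
    · have := Nat.le_of_ble_eq_true h3
      omega
    · rwa [show ((y.natAbs : ℕ) : ℤ) = y by omega] at h3
  · have h3 := List.all_eq_true.1 chk_neg y.natAbs (List.mem_range.2 (by omega))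
    rw [Bool.or_eq_true] at h3
    rcases h3 with h3 | h3
    · have := Nat.le_of_ble_eq_true h3
      omega
    · rwa [show -((y.natAbs : ℕ) : ℤ) = y by omega] at h3

theorem X0_spec {y : ℤ} {d h : ℕ} {b : Bool} (hh : 1 ≤ h) (h1 : h = 1 → d = 1 ∧ b = false) :
    ∃ j, X0 y d b * y ^ j = y ^ h := by
  unfold X0
  split_ifs with h2
  · exact ⟨h - 1, by rw [← pow_succ', Nat.sub_add_cancel hh]⟩
  · have h3 : 2 ≤ h := by
      by_contra hcon
      obtain ⟨rfl, rfl⟩ := h1 (by omega)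
      simp at h2
    obtain ⟨k, rfl⟩ : ∃ k, h = k + 2 := ⟨h - 2, by omega⟩
    exact ⟨k, by ring⟩

theorem X0_ne {y : ℤ} {d : ℕ} {b : Bool} (hy : y ≠ 0) : X0 y d b ≠ 0 := by
  unfold X0
  split_ifs
  · exact hy
  · exact mul_ne_zero hy hy

section

variable {y : ℤ} {d h : ℕ} (hy : 2 ≤ |y|) (hd : (d : ℤ) ∣ y - 1) (hdo : d % 2 = 1) (hh : 1 ≤ h)
include hy hd hdo hh

theorem d_le : (d : ℤ) ≤ |y| + 1 := by
  have hne : y - 1 ≠ 0 := by
    intro h0
    have : y = 1 := by omega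
    rw [this] at hy
    norm_num at hy
  have h1 := Int.le_of_dvd (abs_pos.2 hne) ((dvd_abs _ _).2 hd)
  have h2 := abs_sub y 1
  simp only [abs_one] at h2
  omega

theorem abs_le_pow : |y| ≤ |y ^ h| := by
  rw [abs_pow]
  exact le_self_pow₀ (by omega) (by omega)

theorem row_of (hy' : |y| < 60) : ((Nat.beq d 1 || ckS y d 1) && ckS y d 3 && ckS y d 5 && ckS y d 7 && ckS y d 9 &&
        (Nat.beq d 1 || ckA y d) && (Nat.ble d 3 || ckA' y d) && ckB y d && ckB' y d &&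
        (Nat.beq d 1 || ckC y d)) = true := by
  have h1 := ckAll_of hy hy'
  have h2 := d_le hy hd hdo hh
  obtain ⟨i, rfl⟩ : ∃ i, d = 2 * i + 1 := ⟨d / 2, by omega⟩
  have h3 := List.all_eq_true.1 h1 i (List.mem_range.2 (by push_cast at h2; omega))
  simp only [Bool.or_eq_true] at h3
  rcases h3 with h3 | h3
  · exfalso
    rw [Int.emod_eq_zero_of_dvd hd] at h3
    simp at h3
  · simpa only [Bool.or_eq_true] using h3

/-- **the family S** -/
theorem quad_S {a : ℕ} (ha : a = 1 ∨ a = 3 ∨ a = 5 ∨ a = 7 ∨ a = 9) (h3 : 3 ≤ a * d) (h1 : h = 1 → d = 1)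
    (hex : ¬ (y = -2 ∧ a = 3 ∧ h = 1)) :
    (2 * (y + 1) ^ 2 - ((a : ℤ) * d) * (y - 1) * y) * (y ^ h) ^ 2 +
      -((y + 1) * (8 + 2 * (((a : ℤ) * d) * (y - 1)))) * y ^ h +
      (1 * (((a : ℤ) * d) * (y - 1)) ^ 2 + 5 * (((a : ℤ) * d) * (y - 1)) + 8) ≠ 0 := by
  rcases lt_or_ge |y| 60 with hy' | hy'
  · have hr := row_of hy hd hdo hh hy'
    simp only [Bool.and_eq_true, Bool.or_eq_true] at hr
    obtain ⟨⟨⟨⟨⟨⟨⟨⟨⟨r1, r3⟩, r5⟩, r7⟩, r9⟩, -⟩, -⟩, -⟩, -⟩, -⟩ := hr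
    have hS : ckS y d a = true := by
      rcases ha with rfl | rfl | rfl | rfl | rfl
      · rcases r1 with r1 | r1
        · have : d = 1 := by simpa using r1
          omega
        · exact r1
      · exact r3
      · exact r5
      · exact r7
      · exact r9
    have hy0 : y ≠ 0 := by rintro rfl; norm_num at hy
    obtain ⟨j, hj⟩ := X0_spec (y := y) (d := d) (b := decide (y = -2 ∧ a = 3)) hh (fun h2 => ⟨h1 h2, by
      rw [decide_eq_false_iff_not]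
      exact fun h4 => hex ⟨h4.1, h4.2, h2⟩⟩)
    have := ck_spec (by omega) (X0_ne hy0) hS j
    rw [hj] at this
    exact this
  · refine big_S hy' (abs_le_pow hy hd hdo hh) (by exact_mod_cast h3) ?_
    have h2 := d_le hy hd hdo hh
    have : (a : ℤ) ≤ 9 := by omega
    nlinarith only [h2, this]

/-- **the family A** -/
theorem quad_A (h3 : 3 ≤ d) (h1 : h = 1 → d = 1) :
    (1 * (y + 1) ^ 2 - (d : ℤ) * (y - 1) * y) * (y ^ h) ^ 2 + ((y + 1) * (-4 + -3 * ((d : ℤ) * (y - 1)))) * y ^ h +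
      (3 * ((d : ℤ) * (y - 1)) ^ 2 + 7 * ((d : ℤ) * (y - 1)) + 4) ≠ 0 := by
  rcases lt_or_ge |y| 60 with hy' | hy'
  · have hr := row_of hy hd hdo hh hy'
    simp only [Bool.and_eq_true, Bool.or_eq_true] at hr
    obtain ⟨⟨⟨⟨⟨-, r⟩, -⟩, -⟩, -⟩, -⟩ := hr
    have hS : ckA y d = true := by
      rcases r with r | r
      · have : d = 1 := by simpa using r
        omega
      · exact r
    have hy0 : y ≠ 0 := by rintro rfl; norm_num at hy
    obtain ⟨j, hj⟩ := X0_spec (y := y) (d := d) (b := false) hh (fun h2 => ⟨h1 h2, rfl⟩)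
    have := ck_spec (by omega) (X0_ne hy0) hS j
    rw [hj] at this
    exact this
  · exact big_II1 hy' (abs_le_pow hy hd hdo hh) (by exact_mod_cast h3) (d_le hy hd hdo hh)

/-- **the family A'** -/
theorem quad_A' (h3 : 5 ≤ d) (h1 : h = 1 → d = 1) :
    (3 * (y + 1) ^ 2 - (d : ℤ) * (y - 1) * y) * (y ^ h) ^ 2 + ((y + 1) * (-12 + -3 * ((d : ℤ) * (y - 1)))) * y ^ h +
      (1 * ((d : ℤ) * (y - 1)) ^ 2 + 7 * ((d : ℤ) * (y - 1)) + 12) ≠ 0 := by
  rcases lt_or_ge |y| 60 with hy' | hy'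
  · have hr := row_of hy hd hdo hh hy'
    simp only [Bool.and_eq_true, Bool.or_eq_true] at hr
    obtain ⟨⟨⟨⟨-, r⟩, -⟩, -⟩, -⟩ := hr
    have hS : ckA' y d = true := by
      rcases r with r | r
      · have := Nat.le_of_ble_eq_true r
        omega
      · exact r
    have hy0 : y ≠ 0 := by rintro rfl; norm_num at hy
    obtain ⟨j, hj⟩ := X0_spec (y := y) (d := d) (b := false) hh (fun h2 => ⟨h1 h2, rfl⟩)
    have := ck_spec (by omega) (X0_ne hy0) hS j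
    rw [hj] at this
    exact this
  · exact big_II1' hy' (abs_le_pow hy hd hdo hh) (by exact_mod_cast h3) (d_le hy hd hdo hh)

/-- **the family B** -/
theorem quad_B (h1 : h = 1 → d = 1) :
    (1 * (y + 1) ^ 2 - 4 * (d : ℤ) * (y - 1) * y) * (y ^ h) ^ 2 + ((y + 1) * (-4 + 0 * ((d : ℤ) * (y - 1)))) * y ^ h +
      (3 * ((d : ℤ) * (y - 1)) ^ 2 + 4 * ((d : ℤ) * (y - 1)) + 4) ≠ 0 := by
  rcases lt_or_ge |y| 60 with hy' | hy'
  · have hr := row_of hy hd hdo hh hy'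
    simp only [Bool.and_eq_true, Bool.or_eq_true] at hr
    obtain ⟨⟨⟨-, r⟩, -⟩, -⟩ := hr
    have hy0 : y ≠ 0 := by rintro rfl; norm_num at hy
    obtain ⟨j, hj⟩ := X0_spec (y := y) (d := d) (b := false) hh (fun h2 => ⟨h1 h2, rfl⟩)
    have := ck_spec (by omega) (X0_ne hy0) r j
    rw [hj] at this
    rw [show (4 : ℤ) * d * (y - 1) * y = 4 * (d * (y - 1)) * y by ring]
    exact this
  · have h2 : (1 : ℤ) ≤ d := by
      have : 1 ≤ d := by omega
      exact_mod_cast this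
    exact big_II2 hy' (abs_le_pow hy hd hdo hh) h2 (d_le hy hd hdo hh)

/-- **the family B'** -/
theorem quad_B' (h1 : h = 1 → d = 1) (hex : ¬ (y = 9 ∧ h = 1)) :
    (3 * (y + 1) ^ 2 - 4 * (d : ℤ) * (y - 1) * y) * (y ^ h) ^ 2 + ((y + 1) * (-12 + 0 * ((d : ℤ) * (y - 1)))) * y ^ h +
      (1 * ((d : ℤ) * (y - 1)) ^ 2 + 4 * ((d : ℤ) * (y - 1)) + 12) ≠ 0 := by
  rcases lt_or_ge |y| 60 with hy' | hy'
  · have hr := row_of hy hd hdo hh hy'
    simp only [Bool.and_eq_true, Bool.or_eq_true] at hr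
    obtain ⟨⟨-, r⟩, -⟩ := hr
    have hy0 : y ≠ 0 := by rintro rfl; norm_num at hy
    obtain ⟨j, hj⟩ := X0_spec (y := y) (d := d) (b := decide (y = 9)) hh (fun h2 => ⟨h1 h2, by
      rw [decide_eq_false_iff_not]
      exact fun h4 => hex ⟨h4, h2⟩⟩)
    have := ck_spec (by omega) (X0_ne hy0) r j
    rw [hj] at this
    rw [show (4 : ℤ) * d * (y - 1) * y = 4 * (d * (y - 1)) * y by ring]
    exact this
  · have h2 : (1 : ℤ) ≤ d := by
      have : 1 ≤ d := by omega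
      exact_mod_cast this
    exact big_II2' hy' (abs_le_pow hy hd hdo hh) h2 (d_le hy hd hdo hh)

/-- **the family C** -/
theorem quad_C (h3 : 3 ≤ d) (h1 : h = 1 → d = 1) :
    (1 * (y + 1) ^ 2 - (d : ℤ) * (y - 1) * y) * (y ^ h) ^ 2 + ((y + 1) * (-4 + 1 * ((d : ℤ) * (y - 1)))) * y ^ h +
      (1 * ((d : ℤ) * (y - 1)) ^ 2 + -1 * ((d : ℤ) * (y - 1)) + 4) ≠ 0 := by
  rcases lt_or_ge |y| 60 with hy' | hy'
  · have hr := row_of hy hd hdo hh hy'
    simp only [Bool.and_eq_true, Bool.or_eq_true] at hr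
    obtain ⟨-, r⟩ := hr
    have hS : ckC y d = true := by
      rcases r with r | r
      · have : d = 1 := by simpa using r
        omega
      · exact r
    have hy0 : y ≠ 0 := by rintro rfl; norm_num at hy
    obtain ⟨j, hj⟩ := X0_spec (y := y) (d := d) (b := false) hh (fun h2 => ⟨h1 h2, rfl⟩)
    have := ck_spec (by omega) (X0_ne hy0) hS j
    rw [hj] at this
    exact this
  · exact big_II4 hy' (abs_le_pow hy hd hdo hh) (by exact_mod_cast h3) (d_le hy hd hdo hh)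

end

end Cfsg.Agent.R2.Spec.X3.PL
end

private theorem dce_5c7710df3a36 : _root_.True := by
  try have : _root_.True := by simp only [_root_.Cfsg.Agent.R2.Spec.X3.PL.lp.eq_1]
  try have : _root_.True := by simp only [_root_.Cfsg.Agent.R2.Spec.X3.PL.ck.eq_1]
  try have : _root_.True := by simp only [_root_.Cfsg.Agent.R2.Spec.X3.PL.lp.eq_def]
  try have : _root_.True := by simp only [_root_.Cfsg.Agent.R2.Spec.X3.PL.lp.eq_2]
  try have : _root_.True := by simp only [_root_.Nat.blt.eq_1]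
  exact _root_.True.intro
end

-- part: R2/Spec/X3/PO/NumII
section
prune_inst 0x2000000000000000000000014000000000000000000008000000000200200000000000000000001000000000000000000000000000008400c4180008800000002000000000000000000000000000000000000000000000000
set_option linter.all false
open scoped Cfsg.Agent.FastGrp

-- part: R2/Spec/X3/PO/NumI
section
/-!
# X3, `PΩ^±_{2m}(u)`, `m` odd: the numerics, type I (helper5)
-/

set_option autoImplicit false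

namespace Cfsg.Agent.R2.Spec.X3.PO

/-- `a ∣ x³ - 1`, `b ∣ x³ - x`, `b - a = s`, `|s| ≤ 2` -/
theorem tw_keyI {x a b s : ℤ} (hx : 5 ≤ x) (hb : 0 < b) (hab : b = a + s)
    (hs : s = 1 ∨ s = 2 ∨ s = -1 ∨ s = -2) (hA : a ∣ x ^ 3 - 1) (hB : b ∣ x ^ 3 - x)
    (hbig : 3 * x ^ 3 ≤ a * b) : (b = x ^ 2 + x ∧ s = -1) ∨ (b = 2 * (x ^ 2 + x) ∧ s = -2) := by
  obtain ⟨Z, hZ⟩ := hB
  have hpos : 0 < x ^ 3 - x := by nlinarith only [hx, sq_nonneg x]
  have hZ0 : 0 < Z := by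
    by_contra hc
    have : b * Z ≤ 0 := mul_nonpos_of_nonneg_of_nonpos hb.le (not_lt.1 hc)
    omega
  have hW : a ∣ x - 1 + s * Z := by
    have h1 : x - 1 + s * Z = (x ^ 3 - 1) - a * Z := by
      have : x ^ 3 - x = (a + s) * Z := by rw [hZ, hab]
      linarith
    rw [h1]
    exact dvd_sub hA (Dvd.intro _ rfl)
  by_cases h0 : x - 1 + s * Z = 0
  · rcases hs with rfl | rfl | rfl | rfl
    · omega
    · omega
    · left
      refine ⟨?_, rfl⟩
      have hZ1 : Z = x - 1 := by linarith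
      rw [hZ1] at hZ
      have : (x - 1) * b = (x - 1) * (x ^ 2 + x) := by linarith
      exact mul_left_cancel₀ (by omega) this
    · right
      refine ⟨?_, rfl⟩
      have hZ1 : 2 * Z = x - 1 := by linarith
      have : (x - 1) * b = (x - 1) * (2 * (x ^ 2 + x)) := by
        rw [← hZ1]
        have h2 : (2 * Z) * (2 * (x ^ 2 + x)) = (x - 1) * (2 * (x ^ 2 + x)) := by rw [hZ1]
        linarith
      exact mul_left_cancel₀ (by omega) this
  · exfalso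
    have h1 : a ≤ |x - 1 + s * Z| := Int.le_of_dvd (abs_pos.2 h0) ((dvd_abs _ _).2 hW)
    have h2 : |x - 1 + s * Z| ≤ x - 1 + 2 * Z := by
      rw [abs_le]
      rcases hs with rfl | rfl | rfl | rfl <;> constructor <;> linarith only [hx, hZ0]
    have h3 : a ≤ x - 1 + 2 * Z := h1.trans h2
    have h4 : a * b ≤ (x - 1 + 2 * Z) * b := mul_le_mul_of_nonneg_right h3 hb.le
    have h5 : x ^ 3 + 2 * x ≤ (x - 1) * b := by linarith only [hbig, hZ, h4]
    have h6 : Z ≤ x - 1 := by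
      by_contra hc
      have hc' : x ≤ Z := by omega
      have h7 : b * x ≤ b * Z := mul_le_mul_of_nonneg_left hc' hb.le
      have h8 : b ≤ x ^ 2 - 1 := by
        rw [← hZ] at h7
        have : x * b ≤ x * (x ^ 2 - 1) := by linarith only [h7]
        exact le_of_mul_le_mul_left this (by omega)
      have h9 : (x - 1) * b ≤ (x - 1) * (x ^ 2 - 1) := mul_le_mul_of_nonneg_left h8 (by omega)
      linarith only [hx, hb, hbig, hZ, h4, h7]
    have h7 : a ≤ 3 * (x - 1) := by linarith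
    have h8 : b ≤ 3 * x := by rcases hs with h | h | h | h <;> linarith
    have h9 : a * b ≤ (3 * (x - 1)) * (3 * x) := mul_le_mul h7 h8 hb.le (by linarith)
    linarith only [hx, hbig, hpos, h9, mul_nonneg (sq_nonneg x) (by linarith : (0 : ℤ) ≤ x - 5)]

/-- `N` is free, type I -/
def FrI (p : ℕ) (x N : ℤ) : Prop := 4 * N ∣ x ^ 3 - 1 ∨ N ∣ p * (x ^ 2 - 1)

/-- twins, type I -/
theorem twI {p X Y : ℕ} {x : ℤ} (hp0 : 0 < p) (hpx : (p : ℤ) ≤ x) (hdv : (p : ℤ) ∣ x) (hx : 5 ≤ x) (hX0 : 0 < X)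
    (hXY : Nat.Coprime X Y) (hd : Y = X + 1 ∨ Y = X + 2) (fX : FrI p x X) (fY : FrI p x Y) :
    (X : ℤ) * Y < 3 * x ^ 3 ∨ ((X : ℤ) = x ^ 2 + x ∧ (Y : ℤ) = x ^ 2 + x + 1) := by
  by_contra hcon
  push Not at hcon
  obtain ⟨hbig, hne⟩ := hcon
  have hx3 : 0 < x ^ 3 - 1 := by nlinarith only [hx, sq_nonneg x]
  have hp2 : 0 < (p : ℤ) * (x ^ 2 - 1) := by
    have : (0 : ℤ) < p := by exact_mod_cast hp0
    have : 0 < x ^ 2 - 1 := by nlinarith only [hx]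
    positivity
  have hco : IsCoprime (X : ℤ) (Y : ℤ) := Nat.isCoprime_iff_coprime.2 hXY
  have hB3 : (p : ℤ) * (x ^ 2 - 1) ∣ x ^ 3 - x := by
    have e : x ^ 3 - x = x * (x ^ 2 - 1) := by ring
    rw [e]
    exact mul_dvd_mul_right hdv _
  have hle : (p : ℤ) * (x ^ 2 - 1) ≤ x ^ 3 := by
    have : (p : ℤ) * (x ^ 2 - 1) ≤ x * (x ^ 2 - 1) := mul_le_mul_of_nonneg_right hpx (by nlinarith only [hp2])
    linarith only [hx, this]
  have hx30 : 0 < x ^ 3 := by positivity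
  have c4 : ∀ N : ℤ, 4 * N ∣ x ^ 3 - 1 → N ∣ x ^ 3 - 1 := fun N h => (dvd_mul_left _ _).trans h
  -- the mixed cases
  have mix : ∀ a b : ℕ, 0 < b → ∀ s : ℤ, (b : ℤ) = a + s → (s = 1 ∨ s = 2 ∨ s = -1 ∨ s = -2) →
      4 * (a : ℤ) ∣ x ^ 3 - 1 → (b : ℤ) ∣ p * (x ^ 2 - 1) → 3 * x ^ 3 ≤ (a : ℤ) * b → Nat.Coprime a b →
      ((b : ℤ) = x ^ 2 + x ∧ s = -1) := by
    intro a b hb s hab hs hA hB hbg hcop
    rcases tw_keyI hx (by exact_mod_cast hb) hab hs (c4 _ hA) (hB.trans hB3) hbg with h1 | ⟨h1, h2⟩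
    · exact h1
    · exfalso
      have hbe : b % 2 = 0 := by
        have h3 : (2 : ℤ) ∣ (b : ℤ) := by rw [h1]; exact Dvd.intro _ rfl
        omega
      have hae : a % 2 = 0 := by (clear * - hab h2 hbe; omega)
      have := Nat.dvd_gcd (Nat.dvd_of_mod_eq_zero hae) (Nat.dvd_of_mod_eq_zero hbe)
      rw [hcop] at this
      omega
  rcases fX with h1 | h1 <;> rcases fY with h2 | h2
  · have h3 := Int.le_of_dvd hx3 (hco.mul_dvd (c4 _ h1) (c4 _ h2))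
    linarith only [hbig, hx3, h3]
  · have := (mix X Y (by omega) (Y - X) (by ring) (by rcases hd with h | h <;> omega) h1 h2 hbig hXY).2
    omega
  · obtain ⟨h3, h4⟩ := mix Y X hX0 (X - Y) (by ring) (by rcases hd with h | h <;> omega) h2 h1
      (by rw [mul_comm (Y : ℤ) X]; exact hbig) hXY.symm
    exact hne h3 (by omega)
  · have h3 := Int.le_of_dvd hp2 (hco.mul_dvd h1 h2)
    linarith only [hbig, hx3, hle, h3]

/-- the check, type I -/
def chkI (u j t : ℕ) : Bool :=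
  let z := u ^ (2 * j + 4)
  let x := 4 * t + 5
  let M := (x ^ 2 + 1) / 2
  let X := if u % 2 = 0 then z - 1 else (z - 1) / 2
  !(((u * z) % M == 1 || (u * z) % M == M - 1) && ((x ^ 3 - 1) % (4 * X) == 0 || (x ^ 3 - x) % X == 0))

theorem chkI_all : ((List.range 10).all fun u => (List.range 6).all fun j =>
    Nat.blt u 2 || Nat.blt 10000 (u ^ (2 * j + 4)) || (List.range 50).all fun t => chkI u j t) = true := by
  decide +kernel

theorem chkI_spec {u j t : ℕ} (hu : 2 ≤ u) (hu' : u < 10) (hj : j < 6) (hz : u ^ (2 * j + 4) ≤ 10000) (ht : t < 50) :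
    chkI u j t = true := by
  have h := List.all_eq_true.1 chkI_all u (List.mem_range.2 hu')
  have h2 := List.all_eq_true.1 h j (List.mem_range.2 hj)
  rw [Bool.or_eq_true, Bool.or_eq_true] at h2
  rcases h2 with (h2 | h2) | h2
  · rw [Nat.blt_eq] at h2; omega
  · rw [Nat.blt_eq] at h2; omega
  · exact List.all_eq_true.1 h2 t (List.mem_range.2 ht)

/-- the twins -/
def TwXY (u z X Y : ℕ) : Prop :=
  (u % 2 = 0 ∧ X + 1 = z ∧ Y = z + 1) ∨ (u % 2 = 1 ∧ 2 * X + 1 = z ∧ 2 * Y = z + 1)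

theorem TwXY.step {u z X Y : ℕ} (h : TwXY u z X Y) : (Y = X + 1 ∧ z = 2 * X + 1) ∨ (Y = X + 2 ∧ z = X + 1) := by
  rcases h with ⟨-, h1, h2⟩ | ⟨-, h1, h2⟩ <;> omega

theorem TwXY.cop {u z X Y : ℕ} (h : TwXY u z X Y) (hz : u % 2 = 0 → z % 2 = 0) : Nat.Coprime X Y := by
  rcases h with ⟨h0, h1, h2⟩ | ⟨-, h1, h2⟩
  · have h5 : Y = X + 2 := by omega
    rw [h5]
    have h6 : Nat.Coprime X 2 := Nat.coprime_two_right.2 (Nat.odd_iff.2 (by have := hz h0; omega))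
    simpa using h6
  · have h5 : Y = X + 1 := by omega
    rw [h5]
    simp

theorem TwXY.sq {u z X Y : ℕ} (h : TwXY u z X Y) : z ^ 2 ≤ 4 * (X * Y) + 1 := by
  rcases h.step with ⟨rfl, rfl⟩ | ⟨rfl, rfl⟩ <;> nlinarith only []

theorem mod_of_dvd {M N : ℕ} (hM : 2 ≤ M) (hN : 1 ≤ N) (h : M ∣ N - 1 ∨ M ∣ N + 1) :
    N % M = 1 ∨ N % M = M - 1 := by
  rcases h with ⟨k, hk⟩ | ⟨k, hk⟩
  · left
    have : N = 1 + M * k := by omega
    rw [this, Nat.add_mul_mod_self_left, Nat.mod_eq_of_lt (by omega)]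
  · right
    have hk0 : 0 < k := by
      rcases Nat.eq_zero_or_pos k with rfl | h
      · omega
      · exact h
    obtain ⟨l, rfl⟩ : ∃ l, k = l + 1 := ⟨k - 1, by omega⟩
    have : N = (M - 1) + M * l := by
      rw [mul_add, mul_one] at hk
      omega
    rw [this, Nat.add_mul_mod_self_left, Nat.mod_eq_of_lt (by omega)]

/-- **type I** -/
theorem numI {p M X Y u j z : ℕ} {x : ℤ} (hp0 : 0 < p) (hpx : (p : ℤ) ≤ x) (hdv : (p : ℤ) ∣ x) (hx : 5 ≤ x)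
    (hx4 : x % 4 = 1) (hM : 2 * (M : ℤ) = x ^ 2 + 1) (hu : 2 ≤ u) (hz : z = u ^ (2 * j + 4))
    (hle : (u - 1) * M ≤ u * z) (hd : M ∣ u * z - 1 ∨ M ∣ u * z + 1) (hXY : TwXY u z X Y)
    (fX : FrI p x X) (fY : FrI p x Y) : False := by
  have hu4 : u ^ 4 ≤ z := by rw [hz]; exact Nat.pow_le_pow_right (by omega) (by omega)
  have h24 : 2 ^ (2 * j + 4) ≤ z := by rw [hz]; exact Nat.pow_le_pow_left hu _
  have hz16 : 16 ≤ z := le_trans (by
    calc 16 = 2 ^ 4 := rfl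
      _ ≤ u ^ 4 := Nat.pow_le_pow_left hu 4) hu4
  have hX0 : 0 < X := by rcases hXY.step with ⟨h1, h2⟩ | ⟨h1, h2⟩ <;> omega
  have hcop := hXY.cop (fun h => by rw [hz, Nat.pow_mod, h, zero_pow (by omega), Nat.zero_mod])
  have hM13 : 13 ≤ M := by
    have : (26 : ℤ) ≤ 2 * M := by rw [hM]; nlinarith only [hx]
    omega
  have huz : 1 ≤ u * z := Nat.mul_pos (by omega) (by omega)
  -- the region
  have hreg : x < 200 ∧ z < 10000 := by
    have hxz : x ^ 2 + 1 ≤ 4 * z := by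
      have h1 : u * M ≤ u * (2 * z) := by
        obtain ⟨w, rfl⟩ : ∃ w, u = w + 2 := ⟨u - 2, by omega⟩
        rw [show w + 2 - 1 = w + 1 by omega] at hle
        nlinarith only [hle]
      have h2 : M ≤ 2 * z := Nat.le_of_mul_le_mul_left h1 (by omega)
      have h3 : (M : ℤ) ≤ 2 * z := by exact_mod_cast h2
      linarith only [hM, h2]
    rcases twI hp0 hpx hdv hx hX0 hcop (by rcases hXY.step with h | h <;> omega) fX fY with h1 | ⟨h1, h2⟩
    · have h3 : (z : ℤ) ^ 2 ≤ 4 * (X * Y) + 1 := by exact_mod_cast hXY.sq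
      have h4 : (z : ℤ) ^ 2 ≤ 12 * x ^ 3 := by linarith only [h1, h3]
      have h5 : x < 200 := by
        by_contra hc
        push Not at hc
        have h6 : (x ^ 2 + 1) ^ 2 ≤ (4 * z) ^ 2 := pow_le_pow_left₀ (by positivity) hxz 2
        have h7 : 200 * x ^ 3 ≤ x ^ 4 := by
          have : (0 : ℤ) ≤ x ^ 3 := by positivity
          nlinarith only [h1, h3, hc]
        linarith only [h1, h3, h6, h7, _root_.sq_nonneg (x : ℤ), _root_.sq_nonneg (↑z : ℤ)]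
      refine ⟨h5, ?_⟩
      by_contra hc
      push Not at hc
      have h6 : (10000 : ℤ) ≤ z := by exact_mod_cast hc
      have h7 : x ^ 3 ≤ 199 ^ 3 := pow_le_pow_left₀ (by omega) (by omega) 3
      nlinarith only [hxz, h1, h3, h5, hc]
    · have hz2 : (z : ℤ) = 2 * x ^ 2 + 2 * x + 1 := by
        rcases hXY.step with ⟨h3, h4⟩ | ⟨h3, h4⟩
        · have : (z : ℤ) = 2 * X + 1 := by exact_mod_cast h4
          rw [this, h1]; ring
        · have : (Y : ℤ) = X + 2 := by exact_mod_cast h3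
          omega
      have h3 : (M : ℤ) ≤ u * (2 * x - 1) + 1 := by
        have huZ : (2 : ℤ) ≤ u := by exact_mod_cast hu
        have e : (u : ℤ) * z = M * (4 * u) + u * (2 * x - 1) := by
          rw [hz2]
          linear_combination (-2 * (u : ℤ)) * hM
        have h5 : 2 ≤ u * (2 * x - 1) := by nlinarith only [hp0, hpx, hu]
        rcases hd with hd | hd
        · have h4 : (M : ℤ) ∣ (u : ℤ) * z - 1 := by
            have : ((u * z - 1 : ℕ) : ℤ) = (u : ℤ) * z - 1 := by push_cast [huz]; ring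
            rw [← this]; exact_mod_cast hd
          rw [e, show (M : ℤ) * (4 * u) + u * (2 * x - 1) - 1 = (u * (2 * x - 1) - 1) + M * (4 * u) by ring] at h4
          have h6 := Int.le_of_dvd (by linarith only [h5]) ((Int.dvd_add_left (dvd_mul_right _ _)).1 h4)
          linarith only [h6]
        · have h4 : (M : ℤ) ∣ (u : ℤ) * z + 1 := by exact_mod_cast hd
          rw [e, show (M : ℤ) * (4 * u) + u * (2 * x - 1) + 1 = (u * (2 * x - 1) + 1) + M * (4 * u) by ring] at h4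
          exact Int.le_of_dvd (by linarith only [h5]) ((Int.dvd_add_left (dvd_mul_right _ _)).1 h4)
      have hx4u : x ≤ 4 * u := by
        by_contra hc
        push Not at hc
        have huZ : (2 : ℤ) ≤ u := by exact_mod_cast hu
        nlinarith only [hM, hu, h3, hc]
      have hu5 : u ≤ 5 := by
        by_contra hc
        push Not at hc
        have huZ : (6 : ℤ) ≤ u := by exact_mod_cast hc
        have h5 : (u : ℤ) ^ 4 ≤ z := by exact_mod_cast hu4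
        have h6 : x ^ 2 ≤ (4 * u) ^ 2 := pow_le_pow_left₀ (by omega) hx4u 2
        have h7 : (u : ℤ) ^ 4 ≤ 32 * u ^ 2 + 8 * u + 1 := by
          rw [hz2] at h5
          linarith only [hu4, hz2, hx4u, h6]
        have h8 : 36 * (u : ℤ) ^ 2 ≤ u ^ 4 := by
          have : (u : ℤ) ^ 4 = u ^ 2 * u ^ 2 := by ring
          rw [this]
          exact mul_le_mul_of_nonneg_right (by nlinarith only [hc]) (by positivity)
        nlinarith only [hu4, hz2, h3, hx4u, hc, h8]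
      have huZ : (u : ℤ) ≤ 5 := by exact_mod_cast hu5
      refine ⟨by omega, ?_⟩
      have hx20 : x ≤ 20 := by omega
      have : (z : ℤ) ≤ 841 := by rw [hz2]; nlinarith only [hM, h3, hx4u, hu5]
      (clear * - this; omega)
  obtain ⟨hx200, hz1⟩ := hreg
  obtain ⟨t, ht⟩ : ∃ t : ℕ, x = 4 * t + 5 := ⟨((x - 5) / 4).toNat, by (clear * - hx hx4; omega)⟩
  have hu10 : u < 10 := by
    by_contra hc
    push Not at hc
    have := Nat.pow_le_pow_left hc 4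
    omega
  have hj6 : j < 6 := by
    by_contra hc
    push Not at hc
    have h1 : 2 ^ 16 ≤ 2 ^ (2 * j + 4) := Nat.pow_le_pow_right (by norm_num) (by omega)
    norm_num at h1
    omega
  have hck := chkI_spec hu hu10 hj6 (by rw [← hz]; omega) (t := t) (by omega)
  have hMt : ((4 * t + 5) ^ 2 + 1) / 2 = M := by
    have : (2 * M : ℤ) = ((4 * t + 5) ^ 2 + 1 : ℕ) := by rw [hM, ht]; push_cast; ring
    have h2 : 2 * M = (4 * t + 5) ^ 2 + 1 := by exact_mod_cast this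
    omega
  have hXt : (if u % 2 = 0 then z - 1 else (z - 1) / 2) = X := by
    rcases hXY with ⟨h0, h1, h2⟩ | ⟨h0, h1, h2⟩
    · rw [if_pos h0]; (clear * - h1; omega)
    · rw [if_neg (by omega)]; (clear * - h1; omega)
  have h1 : 1 ≤ (4 * t + 5) ^ 3 := Nat.one_le_pow _ _ (by omega)
  have hlx : (4 * t + 5) ≤ (4 * t + 5) ^ 3 := Nat.le_self_pow (by norm_num) _
  have hmod := mod_of_dvd (by omega) huz hd
  unfold chkI at hck
  simp only [← hz, hMt, hXt] at hck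
  rw [Bool.not_eq_true', Bool.and_eq_false_iff] at hck
  rcases hck with hck | hck
  · rw [Bool.or_eq_false_iff, beq_eq_false_iff_ne, beq_eq_false_iff_ne] at hck
    (clear * - M u z hd hmod hck; tauto)
  · rw [Bool.or_eq_false_iff, beq_eq_false_iff_ne, beq_eq_false_iff_ne] at hck
    rcases fX with f | f
    · apply hck.1
      apply Nat.mod_eq_zero_of_dvd
      have h3 : ((4 * X : ℕ) : ℤ) ∣ (((4 * t + 5) ^ 3 - 1 : ℕ) : ℤ) := by
        rw [Nat.cast_sub h1]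
        push_cast
        rw [ht] at f
        exact f
      exact_mod_cast h3
    · apply hck.2
      apply Nat.mod_eq_zero_of_dvd
      have h3 : (X : ℤ) ∣ (((4 * t + 5) ^ 3 - (4 * t + 5) : ℕ) : ℤ) := by
        rw [Nat.cast_sub hlx]
        push_cast
        rw [← ht]
        refine f.trans ?_
        have e : x ^ 3 - x = x * (x ^ 2 - 1) := by ring
        rw [e]
        exact mul_dvd_mul_right hdv _
      exact_mod_cast h3

end Cfsg.Agent.R2.Spec.X3.PO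
end

-- part: R2/Spec/X3/PO/NumII
section
/-!
# X3, `PΩ^±_{2m}(u)`, `m` odd: the numerics, type II (helper5)
-/

set_option autoImplicit false

namespace Cfsg.Agent.R2.Spec.X3.PO

/-- the region -/
theorem regA {y u z M : ℤ} (hy7 : 7 ≤ y) (hu : 2 ≤ u) (h1 : 4 * y ^ 2 ≤ 13 * M) (h2 : (u - 1) * M ≤ u * z)
    (h4 : u ^ 4 ≤ z) (h3 : (z - 1) * M ≤ 2 * u * (z - 1) + 2 * (u + 1) * ((y ^ 2 + 1) * (y + 1)))
    (h5 : z - 1 ≤ (y ^ 2 + 1) * (y + 1)) : y < 500 := by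
  by_contra hc
  push Not at hc
  have hy0 : 0 < y := by omega
  have hy2 : 0 < y ^ 2 := by positivity
  have hy3 : 0 < y ^ 3 := by positivity
  have e1 : 500 * y ^ 2 ≤ y ^ 3 := by nlinarith only [hc]
  have e2 : 500 * y ≤ y ^ 2 := by nlinarith only [hc]
  have e3 : 100 * ((y ^ 2 + 1) * (y + 1)) ≤ 101 * y ^ 3 := by linarith only [hc, e1, e2]
  have e4 : z ≤ 2 * y ^ 3 := by linarith only [h5, hc, e1, e2]
  have e5 : u < y := by
    by_contra hcon
    push Not at hcon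
    have h6 : y ^ 4 ≤ u ^ 4 := pow_le_pow_left₀ hy0.le hcon 4
    nlinarith only [h4, h5, hc, e2, h6]
  have hz16 : 16 ≤ z := by
    have : (2 : ℤ) ^ 4 ≤ u ^ 4 := pow_le_pow_left₀ (by norm_num) hu 4
    linarith
  have hM0 : 0 < M := by linarith only [h1, hc, e2]
  have e6 : 987 * M ≤ 1000 * (M - 2 * u) := by linarith only [h1, e2, e5]
  have hz1 : 0 ≤ z - 1 := by omega
  have e7 : 987 * ((z - 1) * M) ≤ 2020 * ((u + 1) * y ^ 3) := by
    have a1 : (z - 1) * (987 * M) ≤ (z - 1) * (1000 * (M - 2 * u)) := mul_le_mul_of_nonneg_left e6 hz1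
    have a2 : (z - 1) * (M - 2 * u) ≤ 2 * (u + 1) * ((y ^ 2 + 1) * (y + 1)) := by linarith
    have a3 : 2 * (u + 1) * (100 * ((y ^ 2 + 1) * (y + 1))) ≤ 2 * (u + 1) * (101 * y ^ 3) :=
      mul_le_mul_of_nonneg_left e3 (by omega)
    linarith only [h3, a1, a3]
  have e8 : z ≤ 7 * ((u + 1) * y) := by
    have a1 : (z - 1) * (4 * y ^ 2) ≤ (z - 1) * (13 * M) := mul_le_mul_of_nonneg_left h1 hz1
    have a2 : y ^ 2 * (3948 * (z - 1)) ≤ y ^ 2 * (26260 * ((u + 1) * y)) := by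
      have : y ^ 2 * (26260 * ((u + 1) * y)) = 13 * (2020 * ((u + 1) * y ^ 3)) := by ring
      rw [this]
      linarith only [e7, a1]
    have a3 := le_of_mul_le_mul_left a2 hy2
    have a4 : 1500 ≤ (u + 1) * y := by nlinarith only [hu, hc]
    linarith
  have e9 : 4 * (u - 1) * y ≤ 91 * (u * (u + 1)) := by
    have a1 : (u - 1) * (4 * y ^ 2) ≤ (u - 1) * (13 * M) := mul_le_mul_of_nonneg_left h1 (by omega)
    have a2 : u * z ≤ u * (7 * ((u + 1) * y)) := mul_le_mul_of_nonneg_left e8 (by omega)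
    have a3 : y * (4 * (u - 1) * y) ≤ y * (91 * (u * (u + 1))) := by linarith only [h2, a1, a2]
    exact le_of_mul_le_mul_left a3 hy0
  have e10 : u ≤ 14 := by
    by_contra hcon
    push Not at hcon
    have a1 : 4 * (u - 1) * u ^ 4 ≤ 4 * (u - 1) * (7 * ((u + 1) * y)) :=
      mul_le_mul_of_nonneg_left (h4.trans e8) (by omega)
    have a2 : 7 * (u + 1) * (4 * (u - 1) * y) ≤ 7 * (u + 1) * (91 * (u * (u + 1))) :=
      mul_le_mul_of_nonneg_left e9 (by omega)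
    have a3 : u * (4 * (u - 1) * u ^ 3) ≤ u * (637 * (u + 1) ^ 2) := by linarith only [a1, a2]
    have a4 := le_of_mul_le_mul_left a3 (by omega)
    obtain ⟨w, rfl⟩ : ∃ w, u = w + 15 := ⟨u - 15, by ring⟩
    have hw : 0 ≤ w := by omega
    have a5 : 4 * (w + 15 - 1) * (w + 15) ^ 3 - 637 * (w + 15 + 1) ^ 2 =
      4 * w ^ 4 + 236 * w ^ 3 + 4583 * w ^ 2 + 30916 * w + 25928 := by ring
    have a6 : 0 < 4 * w ^ 4 + 236 * w ^ 3 + 4583 * w ^ 2 + 30916 * w + 25928 := by (clear * - hw; positivity)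
    linarith only [a4, a6]
  interval_cases u <;> (clear * - hc e9; omega)

/-- `N` is free, type II -/
def FrII (p : ℕ) (x δ N : ℤ) : Prop := 2 * N ∣ (x ^ 2 + 1) * (x + 1) ∨ N ∣ p * (x ^ 2 - 1) ∨ 2 * N ∣ δ * (x - 1)

/-- the zero case -/
theorem zeroII {x a b s : ℤ} (hx : 7 ≤ x ∨ x ≤ -13) (ha : 2 * a = |(x ^ 2 + 1) * (x + 1)|) (hab : b = a + s)
    (hs : |s| ≤ 2) (hb : 0 < b) (hB : b ∣ x ^ 3 - x) : False := by
  obtain ⟨hs1, hs2⟩ := abs_le.1 hs
  rcases hx with hx | hx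
  · rw [abs_of_nonneg (by positivity)] at ha
    obtain ⟨Z, hZ⟩ := hB
    have hpos : 0 < x ^ 3 - x := by nlinarith only [hx, sq_nonneg x]
    have hZ0 : 0 < Z := by
      by_contra hc
      have : b * Z ≤ 0 := mul_nonpos_of_nonneg_of_nonpos hb.le (not_lt.1 hc)
      omega
    rcases (by omega : Z = 1 ∨ 2 ≤ Z) with rfl | h2
    · nlinarith only [ha, hab, hs2, hx, hZ, mul_nonneg (sq_nonneg x) (by linarith : (0 : ℤ) ≤ x - 7)]
    · have : b * 2 ≤ b * Z := mul_le_mul_of_nonneg_left h2 hb.le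
      linarith only [ha, hab, hs1, hx, hZ, this, _root_.sq_nonneg (x : ℤ)]
  · obtain ⟨y, rfl⟩ : ∃ y, x = -y := ⟨-x, by ring⟩
    have hy : 13 ≤ y := by omega
    have e : ((-y) ^ 2 + 1) * (-y + 1) = -((y ^ 2 + 1) * (y - 1)) := by ring
    have hy1 : 0 ≤ y - 1 := by omega
    rw [e, abs_neg, abs_of_nonneg (by (clear * - hy hy1; positivity))] at ha
    have hB' : b ∣ y ^ 3 - y := by
      have : y ^ 3 - y = -((-y) ^ 3 - -y) := by ring
      rw [this]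
      exact (dvd_neg).2 hB
    obtain ⟨Z, hZ⟩ := hB'
    have hpos : 0 < y ^ 3 - y := by nlinarith only [hx, sq_nonneg y]
    have hZ0 : 0 < Z := by
      by_contra hc
      have : b * Z ≤ 0 := mul_nonpos_of_nonneg_of_nonpos hb.le (not_lt.1 hc)
      omega
    rcases (by omega : Z = 1 ∨ Z = 2 ∨ 3 ≤ Z) with rfl | rfl | h2
    · nlinarith only [hab, hs2, ha, hx, hZ, mul_nonneg (sq_nonneg y) (by linarith : (0 : ℤ) ≤ y - 13)]
    · nlinarith only [hab, hs2, ha, hx, hZ]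
    · have : b * 3 ≤ b * Z := mul_le_mul_of_nonneg_left h2 hb.le
      linarith only [hab, hb, hs1, ha, hx, hZ, this, mul_nonneg (sq_nonneg y) (by linarith : (0 : ℤ) ≤ y - 13)]

/-- the mixed case -/
theorem mixII {x δ M u c z a b s τ ε : ℤ} (hx : 7 ≤ x ∨ x ≤ -13) (hM : δ * M = x ^ 2 + x + 1) (hM0 : 0 < M) (hu : 2 ≤ u)
    (hc : (c = 1 ∧ u % 2 = 0) ∨ (c = 2 ∧ u % 2 = 1)) (hz : z = c * a + τ) (hz16 : 16 ≤ z) (hτ : τ = 1 ∨ τ = -1)
    (hε : ε = 1 ∨ ε = -1) (hd : M ∣ u * z - ε) (hab : b = a + s) (hs : |s| ≤ 2) (hb : 0 < b)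
    (hA : 2 * a ∣ (x ^ 2 + 1) * (x + 1)) (hB : b ∣ x ^ 3 - x) :
    (z - 1) * M ≤ 2 * u * (z - 1) + 2 * (u + 1) * ((|x| ^ 2 + 1) * (|x| + 1)) ∧ z - 1 ≤ (|x| ^ 2 + 1) * (|x| + 1) := by
  obtain ⟨w, hw⟩ := hA
  have hne : (x ^ 2 + 1) * (x + 1) ≠ 0 := mul_ne_zero (by (clear * -; positivity)) (by omega)
  have hw0 : w ≠ 0 := by
    rintro rfl
    exact hne (by rw [hw, mul_zero])
  have ha0 : 0 < a := by
    rcases hc with ⟨rfl, -⟩ | ⟨rfl, -⟩ <;> rcases hτ with rfl | rfl <;> (clear * - hz16 hz; omega)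
  have habs : |(x ^ 2 + 1) * (x + 1)| ≤ (|x| ^ 2 + 1) * (|x| + 1) := by
    rw [abs_mul, abs_of_nonneg (by (clear * -; positivity) : (0 : ℤ) ≤ x ^ 2 + 1), sq_abs]
    have h1 : |x + 1| ≤ |x| + 1 := by
      have := abs_add_le x 1
      simpa using this
    exact mul_le_mul_of_nonneg_left h1 (by (clear * -; positivity))
  have habs2 : 2 * a * |w| = |(x ^ 2 + 1) * (x + 1)| := by
    rw [hw, abs_mul, abs_of_pos (by positivity : 0 < 2 * a)]
  have hw1 : 1 ≤ |w| := Int.one_le_abs hw0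
  have hca : z - 1 ≤ c * a := by rcases hτ with rfl | rfl <;> omega
  have hca2 : z - 1 ≤ 2 * a := hca.trans (mul_le_mul_of_nonneg_right (by (clear * - hc; omega)) ha0.le)
  refine ⟨?_, ?_⟩
  · set R := u * c + 2 * w * (u * τ - ε) with hR
    have hMR : M ∣ R := by
      have h1 : R = 2 * w * (u * z - ε) - M * (u * c * x * δ) := by
        rw [hR, hz]
        linear_combination (u * c * x) * hM + (u * c) * hw
      rw [h1]
      exact dvd_sub (hd.mul_left _) (dvd_mul_right _ _)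
    have hR0 : R ≠ 0 := by
      intro h0
      have h1 : |u * τ - ε| = u - 1 ∨ |u * τ - ε| = u + 1 := by
        rcases hτ with rfl | rfl <;> rcases hε with rfl | rfl
        · left; rw [mul_one, abs_of_nonneg (by omega)]
        · right; rw [mul_one, abs_of_nonneg (by omega)]; ring
        · right; rw [show u * -1 - 1 = -(u + 1) by ring, abs_neg, abs_of_nonneg (by omega)]
        · left; rw [show u * -1 - -1 = -(u - 1) by ring, abs_neg, abs_of_nonneg (by omega)]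
      have h2 : u * c = 2 * |w| * |u * τ - ε| := by
        have h3 : 2 * w * (u * τ - ε) = -(u * c) := by linarith only [h0]
        have h4 := congrArg abs h3
        rw [abs_neg, abs_mul, abs_mul, abs_of_pos (by norm_num : (0 : ℤ) < 2),
          abs_of_nonneg (by rcases hc with ⟨rfl, -⟩ | ⟨rfl, -⟩ <;> positivity : 0 ≤ u * c)] at h4
        exact h4.symm
      have hu2 : u = 2 ∧ |w| = 1 := by
        rcases hc with ⟨rfl, hc'⟩ | ⟨rfl, hc'⟩
        · rcases h1 with h1 | h1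
          · rw [h1] at h2
            have hu2 : u = 2 := by nlinarith only [hw1, h2]
            subst hu2
            exact ⟨rfl, by omega⟩
          · rw [h1] at h2
            nlinarith only [hu, hw1, h2]
        · exfalso
          rcases h1 with h1 | h1
          · rw [h1] at h2
            rcases (by omega : |w| = 1 ∨ 2 ≤ |w|) with h3 | h3
            · rw [h3] at h2; omega
            · have h4 : 2 * (u - 1) ≤ |w| * (u - 1) := mul_le_mul_of_nonneg_right h3 (by omega)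
              have h5 : 3 ≤ u := by omega
              linarith only [h2, h4, h5]
          · rw [h1] at h2
            nlinarith only [hu, hw1, h2]
      exact zeroII hx (by rw [← habs2, hu2.2, mul_one]) hab hs hb hB
    have h1 : M ≤ |R| := Int.le_of_dvd (abs_pos.2 hR0) ((dvd_abs _ _).2 hMR)
    have h2 : |R| ≤ 2 * u + 2 * |w| * (u + 1) := by
      have h3 : |u * τ - ε| ≤ u + 1 := by
        rcases hτ with rfl | rfl <;> rcases hε with rfl | rfl <;> rw [abs_le] <;> constructor <;> (clear * - hu; omega)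
      have h4 : |2 * w * (u * τ - ε)| ≤ 2 * |w| * (u + 1) := by
        rw [abs_mul, abs_mul, abs_of_pos (by norm_num : (0 : ℤ) < 2)]
        exact mul_le_mul_of_nonneg_left h3 (by positivity)
      have h5 : |u * c| ≤ 2 * u := by
        rw [abs_of_nonneg (by rcases hc with ⟨rfl, -⟩ | ⟨rfl, -⟩ <;> positivity)]
        rcases hc with ⟨rfl, -⟩ | ⟨rfl, -⟩ <;> linarith only [hu]
      calc |R| ≤ |u * c| + |2 * w * (u * τ - ε)| := abs_add_le _ _
        _ ≤ _ := add_le_add h5 h4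
    have h3 : (z - 1) * M ≤ (z - 1) * (2 * u + 2 * |w| * (u + 1)) := mul_le_mul_of_nonneg_left (h1.trans h2) (by omega)
    have h4 : |w| * (z - 1) ≤ |w| * (2 * a) := mul_le_mul_of_nonneg_left hca2 (abs_nonneg _)
    have h5 : |w| * (z - 1) ≤ (|x| ^ 2 + 1) * (|x| + 1) := by linarith only [habs, habs2, h4]
    have h6 : (u + 1) * (|w| * (z - 1)) ≤ (u + 1) * ((|x| ^ 2 + 1) * (|x| + 1)) := mul_le_mul_of_nonneg_left h5 (by omega)
    linarith only [h3, h6]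
  · have : 2 * a * 1 ≤ 2 * a * |w| := mul_le_mul_of_nonneg_left hw1 (by positivity)
    linarith

/-- the check, type II, positive `x = 4 t + 7` -/
def chkP (u j t : ℕ) : Bool :=
  let z := u ^ (2 * j + 4)
  let x := 4 * t + 7
  let d := if x % 3 = 1 then 3 else 1
  let M := (x ^ 2 + x + 1) / d
  let X := if u % 2 = 0 then z - 1 else (z - 1) / 2
  !(((u * z) % M == 1 || (u * z) % M == M - 1) &&
    (((x ^ 2 + 1) * (x + 1)) % (2 * X) == 0 || (x ^ 3 - x) % X == 0 || (d * (x - 1)) % (2 * X) == 0))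

/-- the check, type II, negative `x = -(4 t + 13)` -/
def chkN (u j t : ℕ) : Bool :=
  let z := u ^ (2 * j + 4)
  let y := 4 * t + 13
  let d := if y % 3 = 2 then 3 else 1
  let M := (y ^ 2 - y + 1) / d
  let X := if u % 2 = 0 then z - 1 else (z - 1) / 2
  !(((u * z) % M == 1 || (u * z) % M == M - 1) &&
    (((y ^ 2 + 1) * (y - 1)) % (2 * X) == 0 || (y ^ 3 - y) % X == 0 || (d * (y + 1)) % (2 * X) == 0))

private def MP28 (t : ℕ) : ℕ := ((4 * t + 7) ^ 2 + (4 * t + 7) + 1) / (if (4 * t + 7) % 3 = 1 then 3 else 1)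

private def MN28 (t : ℕ) : ℕ := ((4 * t + 13) ^ 2 - (4 * t + 13) + 1) / (if (4 * t + 13) % 3 = 2 then 3 else 1)

private noncomputable def gg28 (r M : ℕ) (b : Bool) : Bool :=
  Bool.rec (Bool.rec true b (Nat.beq (Nat.mod r M) (Nat.sub M 1))) b (Nat.beq (Nat.mod r M) 1)

private noncomputable def frc28 (e : ℕ) (k : ℕ → Bool) : Bool :=
  Nat.rec (motive := fun _ => Bool) (k 0) (fun m _ => k m) (Nat.add e 1)

private theorem frc28_eq (e : ℕ) (k : ℕ → Bool) : frc28 e k = k e := rfl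

private theorem gg28_eq (r M : ℕ) (c : Bool) :
    gg28 r M (!((r % M == 1 || r % M == M - 1) && c)) = !((r % M == 1 || r % M == M - 1) && c) := by
  have e : ∀ a b : ℕ, (a == b) = Nat.beq a b := fun a b => by rw [Bool.eq_iff_iff, beq_iff_eq, Nat.beq_eq]
  rw [e, e]
  show (Bool.rec (Bool.rec true _ (Nat.beq (r % M) (M - 1))) _ (Nat.beq (r % M) 1) : Bool) = _
  cases Nat.beq (r % M) 1 <;> cases Nat.beq (r % M) (M - 1) <;> rfl

theorem chkII_all : ((List.range 106).all fun u => (List.range 12).all fun j =>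
    Nat.blt u 2 || Nat.blt 124501001 (u ^ (2 * j + 4)) ||
      (List.range 124).all fun t => chkP u j t && chkN u j t) = true := by
  have h : ((List.range 106).all fun u => (List.range 12).all fun j =>
      Nat.blt u 2 || Nat.blt 124501001 (u ^ (2 * j + 4)) || frc28 (u * u ^ (2 * j + 4)) fun r =>
        (List.range 124).all fun t => gg28 r (MP28 t) (chkP u j t) && gg28 r (MN28 t) (chkN u j t)) = true := by
    decide +kernel
  have e : (fun u => (List.range 12).all fun j =>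
      Nat.blt u 2 || Nat.blt 124501001 (u ^ (2 * j + 4)) || frc28 (u * u ^ (2 * j + 4)) fun r =>
        (List.range 124).all fun t => gg28 r (MP28 t) (chkP u j t) && gg28 r (MN28 t) (chkN u j t)) =
      fun u : ℕ => (List.range 12).all fun j => Nat.blt u 2 || Nat.blt 124501001 (u ^ (2 * j + 4)) ||
        (List.range 124).all fun t => chkP u j t && chkN u j t := by
    funext u
    refine congrArg (List.all (List.range 12)) (funext fun j => ?_)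
    refine congrArg (Nat.blt u 2 || Nat.blt 124501001 (u ^ (2 * j + 4)) || ·) ?_
    refine (frc28_eq _ _).trans (congrArg (List.all (List.range 124)) (funext fun t => ?_))
    have h1 : gg28 (u * u ^ (2 * j + 4)) (MP28 t) (chkP u j t) = chkP u j t := gg28_eq _ (MP28 t) _
    have h2 : gg28 (u * u ^ (2 * j + 4)) (MN28 t) (chkN u j t) = chkN u j t := gg28_eq _ (MN28 t) _
    rw [h1, h2]
  exact (congrArg (List.all (List.range 106)) e).symm.trans h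

theorem chkII_spec {u j t : ℕ} (hu : 2 ≤ u) (hu' : u < 106) (hj : j < 12) (hz : u ^ (2 * j + 4) ≤ 124501001) (ht : t < 124) :
    chkP u j t = true ∧ chkN u j t = true := by
  have h := List.all_eq_true.1 chkII_all u (List.mem_range.2 hu')
  have h2 := List.all_eq_true.1 h j (List.mem_range.2 hj)
  rw [Bool.or_eq_true, Bool.or_eq_true] at h2
  rcases h2 with (h2 | h2) | h2
  · rw [Nat.blt_eq] at h2; omega
  · rw [Nat.blt_eq] at h2; omega
  · have h3 := List.all_eq_true.1 h2 t (List.mem_range.2 ht)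
    rwa [Bool.and_eq_true] at h3

end Cfsg.Agent.R2.Spec.X3.PO
end
end

-- part: R2/Spec/SmallU/Mod
section
prune_inst 0x4000010000000000000000000600002000000000000008001410002000a40000000000000000001020060a08000000000000000100000000000000000000000000002c60052f50c08a00000002000400000000000000000000000000000000000000000000
set_option linter.all false
open scoped Cfsg.Agent.FastGrp

/-!
# SMALLU (S3435, helper28): congruences, numerical inequalities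
-/

set_option autoImplicit false

namespace Cfsg.Agent.R2.Spec.SmallU

theorem cycle {x N r e : ℕ} (he : 0 < e) (h : x ^ (r + e) % N = x ^ r % N) (k : ℕ) :
    x ^ (r + k) % N = x ^ (r + k % e) % N := by
  induction k using Nat.strong_induction_on with
  | _ k ih =>
    rcases Nat.lt_or_ge k e with hk | hk
    · rw [Nat.mod_eq_of_lt hk]
    · obtain ⟨j, rfl⟩ : ∃ j, k = j + e := ⟨k - e, by omega⟩
      rw [Nat.add_mod_right, ← ih j (by omega)]
      have h1 : x ^ (r + (j + e)) = x ^ (r + e) * x ^ j := by rw [← pow_add]; congr 1; omega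
      have h2 : x ^ (r + j) = x ^ r * x ^ j := pow_add _ _ _
      rw [h1, h2, Nat.mul_mod, h, ← Nat.mul_mod]

/-- the check: no solution of `c (x ^ n ∓ 1) = 2 (y ^ k ∓ 1)` modulo `N`, `n = 2 (a + 2) + 1`, `k = b + 20` -/
def modChk (N x y c a b : ℕ) : Bool :=
  (c * (x * (x ^ 2) ^ (2 + a)) + 2) % N != (2 * y ^ (20 + b) + c) % N &&
  (c * (x * (x ^ 2) ^ (2 + a))) % N != (2 * y ^ (20 + b) + 2 + c) % N &&
  (c * (x * (x ^ 2) ^ (2 + a)) + c + 2) % N != (2 * y ^ (20 + b)) % N &&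
  (c * (x * (x ^ 2) ^ (2 + a)) + c) % N != (2 * y ^ (20 + b) + 2) % N

theorem mod_kill {N x y e1 e2 c : ℕ} (he1 : 0 < e1) (he2 : 0 < e2) (hx : (x ^ 2) ^ (2 + e1) % N = (x ^ 2) ^ 2 % N)
    (hy : y ^ (20 + e2) % N = y ^ 20 % N)
    (hchk : (List.range e1).all (fun a => (List.range e2).all fun b => modChk N x y c a b) = true)
    {n k P : ℕ} (hn : 5 ≤ n) (hodd : n % 2 = 1) (hk : 20 ≤ k) (h1 : c * P + 1 = y ^ k ∨ c * P = y ^ k + 1)
    (h2 : x ^ n = 2 * P + 1 ∨ x ^ n + 1 = 2 * P) : False := by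
  obtain ⟨a, rfl⟩ : ∃ a, n = 2 * (2 + a) + 1 := ⟨(n - 5) / 2, by omega⟩
  obtain ⟨b, rfl⟩ : ∃ b, k = 20 + b := ⟨k - 20, by omega⟩
  have hX : x ^ (2 * (2 + a) + 1) = x * (x ^ 2) ^ (2 + a) := by rw [pow_succ, pow_mul, mul_comm]
  have hXm : (x * (x ^ 2) ^ (2 + a)) % N = (x * (x ^ 2) ^ (2 + a % e1)) % N := by
    rw [Nat.mul_mod, cycle he1 hx a, ← Nat.mul_mod]
  have hYm : (y ^ (20 + b)) % N = (y ^ (20 + b % e2)) % N := cycle he2 hy b
  rw [List.all_eq_true] at hchk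
  have h3 := hchk (a % e1) (List.mem_range.2 (Nat.mod_lt _ he1))
  rw [List.all_eq_true] at h3
  have h4 := h3 (b % e2) (List.mem_range.2 (Nat.mod_lt _ he2))
  rw [hX] at h2
  set X := x * (x ^ 2) ^ (2 + a) with hXd
  set Y := y ^ (20 + b) with hYd
  simp only [modChk, Bool.and_eq_true, bne_iff_ne, ne_eq] at h4
  obtain ⟨⟨⟨g1, g2⟩, g3⟩, g4⟩ := h4
  have eX : ∀ A B : ℕ, (A * X + B) % N = (A * (x * (x ^ 2) ^ (2 + a % e1)) + B) % N := by
    intro A B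
    rw [Nat.add_mod, Nat.mul_mod, hXm, ← Nat.mul_mod, ← Nat.add_mod]
  have eY : ∀ A B : ℕ, (A * Y + B) % N = (A * y ^ (20 + b % e2) + B) % N := by
    intro A B
    rw [Nat.add_mod, Nat.mul_mod, hYm, ← Nat.mul_mod, ← Nat.add_mod]
  have e2' := eX c 0
  have e3 := eX c (c + 2)
  have e4 := eX c c
  have f1 := eY 2 c
  have f2 := eY 2 (2 + c)
  have f3 := eY 2 0
  have f4 := eY 2 2
  rw [add_zero, add_zero] at e2' f3
  rw [← add_assoc, ← add_assoc] at e3 f2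
  rcases h1 with h1 | h1 <;> rcases h2 with h2 | h2
  · apply g1
    rw [← eX, ← eY, h2]
    congr 1
    linarith only [h1]
  · apply g3
    rw [← e3, ← f3]
    congr 1
    have h5 : c * X + c = c * (X + 1) := by ring
    rw [h5, h2, ← h1]
    ring
  · apply g2
    rw [← e2', ← f2, h2]
    congr 1
    linarith only [h1]
  · apply g4
    rw [← e4, ← f4]
    congr 1
    have h5 : c * X + c = c * (X + 1) := by ring
    rw [h5, h2]
    linarith only [h1]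

/-- `q = 3`, `u = 2` -/
theorem mod_three {c n k P : ℕ} (hc : c = 1 ∨ c = 3 ∨ c = 9) (hn : 5 ≤ n) (hodd : n % 2 = 1) (hk : 20 ≤ k)
    (h1 : c * P + 1 = 2 ^ k ∨ c * P = 2 ^ k + 1) (h2 : 3 ^ n = 2 * P + 1 ∨ 3 ^ n + 1 = 2 * P) : False := by
  rcases hc with rfl | rfl | rfl <;>
  exact mod_kill (N := 8160) (x := 3) (y := 2) (e1 := 8) (e2 := 8) (by norm_num) (by norm_num) (by norm_num) (by norm_num)
    (by decide +kernel) hn hodd hk h1 h2

/-- `q = 5`, `u = 3` -/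
theorem mod_five {c n k P : ℕ} (hc : c = 1 ∨ c = 2 ∨ c = 4 ∨ c = 8 ∨ c = 16) (hn : 5 ≤ n) (hodd : n % 2 = 1)
    (hk : 20 ≤ k) (h1 : c * P + 1 = 3 ^ k ∨ c * P = 3 ^ k + 1) (h2 : 5 ^ n = 2 * P + 1 ∨ 5 ^ n + 1 = 2 * P) : False := by
  rcases hc with rfl | rfl | rfl | rfl | rfl <;>
  exact mod_kill (N := 27972) (x := 5) (y := 3) (e1 := 18) (e2 := 36) (by norm_num) (by norm_num) (by norm_num)
    (by norm_num) (by decide +kernel) hn hodd hk h1 h2

theorem exp_lt {b x n m k : ℕ} (hb : 2 ≤ b) {a c : ℕ} (h1 : b ^ a < x ^ c) (h2 : x ^ n ≤ b ^ m) (hn : 1 ≤ n) :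
    a * n < c * m := by
  have h3 : b ^ (a * n) < b ^ (c * m) := by
    calc b ^ (a * n) = (b ^ a) ^ n := pow_mul _ _ _
      _ < (x ^ c) ^ n := Nat.pow_lt_pow_left h1 (by omega)
      _ = (x ^ n) ^ c := by rw [← pow_mul, ← pow_mul, mul_comm]
      _ ≤ (b ^ m) ^ c := Nat.pow_le_pow_left h2 c
      _ = _ := by rw [← pow_mul, mul_comm]
  exact (Nat.pow_lt_pow_iff_right (by omega)).1 h3

/-- `u = 2`, symplectic and orthogonal -/
theorem num_two {q n m k : ℕ} (hq : 3 ≤ q) (hn : 5 ≤ n) (hm : 64 ≤ m) (h1 : q ^ n ≤ 2 ^ (m + 3)) (h2 : 32 ^ k < q ^ 3)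
    (h3 : 3 * m ≤ 3 * n + 4 * k + 15) : False := by
  have e1 : (5 * k) * n < 3 * (m + 3) :=
    exp_lt (k := 0) le_rfl (x := q) (by rw [pow_mul]; norm_num; exact h2) h1 (by omega)
  have e2 : 19 * n < 12 * (m + 3) :=
    exp_lt (k := 0) le_rfl (x := q) (lt_of_lt_of_le (by norm_num) (Nat.pow_le_pow_left hq 12)) h1 (by omega)
  obtain ⟨d, hd⟩ : ∃ d, n = 5 + d := ⟨n - 5, by omega⟩
  obtain ⟨e, he⟩ : ∃ e, 12 * (m + 3) = 19 * n + e := ⟨12 * (m + 3) - 19 * n, by omega⟩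
  have h4 : 5 * n * (3 * m) ≤ 5 * n * (3 * n + 4 * k + 15) := Nat.mul_le_mul_left _ h3
  zify at *
  nlinarith only [hn, hm, e1, e2, h4]

/-- `u = 3`, symplectic and orthogonal -/
theorem num_three {q n m k : ℕ} (hq : 5 ≤ q) (hn : 5 ≤ n) (hm : 64 ≤ m) (h1 : q ^ n ≤ 3 ^ (m + 4)) (h2 : 27 ^ k < q ^ 3)
    (h3 : 3 * m ≤ 3 * n + 4 * k + 15) : False := by
  have h2' : 3 ^ k < q ^ 1 := by
    rw [pow_one]
    apply lt_of_pow_lt_pow_left₀ 3 (Nat.zero_le _)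
    rw [← pow_mul, mul_comm, pow_mul]
    exact h2
  have e1 : k * n < 1 * (m + 4) := exp_lt (k := 0) (by norm_num) (x := q) h2' h1 (by omega)
  have e2 : 19 * n < 13 * (m + 4) :=
    exp_lt (k := 0) (by norm_num) (x := q) (lt_of_lt_of_le (by norm_num) (Nat.pow_le_pow_left hq 13)) h1 (by omega)
  obtain ⟨d, hd⟩ : ∃ d, n = 5 + d := ⟨n - 5, by omega⟩
  obtain ⟨e, he⟩ : ∃ e, 13 * (m + 4) = 19 * n + e := ⟨13 * (m + 4) - 19 * n, by omega⟩
  have h4 : n * (3 * m) ≤ n * (3 * n + 4 * k + 15) := Nat.mul_le_mul_left _ h3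
  zify at *
  nlinarith only [hn, hm, e1, e2, h4]

/-- `u = 2`, linear and unitary, `q ≥ 5` -/
theorem num_lin_two {q n m k : ℕ} (hq : 5 ≤ q) (hn : 5 ≤ n) (hm : 64 ≤ m) (h1 : q ^ n ≤ 2 ^ (m + 2)) (h2 : 32 ^ k < q ^ 3)
    (h3 : 2 * m ≤ 3 * n + 4 * k + 9) : False := by
  have e1 : (5 * k) * n < 3 * (m + 2) :=
    exp_lt (k := 0) le_rfl (x := q) (by rw [pow_mul]; norm_num; exact h2) h1 (by omega)
  have e2 : 9 * n < 4 * (m + 2) :=
    exp_lt (k := 0) le_rfl (x := q) (lt_of_lt_of_le (by norm_num) (Nat.pow_le_pow_left hq 4)) h1 (by omega)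
  obtain ⟨d, hd⟩ : ∃ d, n = 5 + d := ⟨n - 5, by omega⟩
  obtain ⟨e, he⟩ : ∃ e, 4 * (m + 2) = 9 * n + e := ⟨4 * (m + 2) - 9 * n, by omega⟩
  have h4 : 5 * n * (2 * m) ≤ 5 * n * (3 * n + 4 * k + 9) := Nat.mul_le_mul_left _ h3
  zify at *
  nlinarith only [hn, hm, e1, e2, h4]

/-- `u = 3`, linear and unitary, `q ≥ 7` -/
theorem num_lin_three {q n m k : ℕ} (hq : 7 ≤ q) (hn : 5 ≤ n) (hm : 64 ≤ m) (h1 : q ^ n ≤ 3 ^ m) (h2 : 27 ^ k < q ^ 3)
    (h3 : 2 * m ≤ 3 * n + 4 * k + 9) : False := by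
  have h2' : 3 ^ k < q ^ 1 := by
    rw [pow_one]
    apply lt_of_pow_lt_pow_left₀ 3 (Nat.zero_le _)
    rw [← pow_mul, mul_comm, pow_mul]
    exact h2
  have e1 : k * n < 1 * m := exp_lt (k := 0) (by norm_num) (x := q) h2' h1 (by omega)
  have e2 : 23 * n < 13 * m :=
    exp_lt (k := 0) (by norm_num) (x := q) (lt_of_lt_of_le (by norm_num) (Nat.pow_le_pow_left hq 13)) h1 (by omega)
  obtain ⟨d, hd⟩ : ∃ d, n = 5 + d := ⟨n - 5, by omega⟩
  obtain ⟨e, he⟩ : ∃ e, 13 * m = 23 * n + e := ⟨13 * m - 23 * n, by omega⟩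
  obtain ⟨g, hg⟩ : ∃ g, m = 64 + g := ⟨m - 64, by omega⟩
  have h4 : n * (2 * m) ≤ n * (3 * n + 4 * k + 9) := Nat.mul_le_mul_left _ h3
  zify at *
  nlinarith only [hm, e1, e2, hd, h4]

end Cfsg.Agent.R2.Spec.SmallU

private theorem dce_2103b949ebcb : _root_.True := by
  try have : _root_.True := by simp only [_root_.Cfsg.Agent.R2.Spec.SmallU.modChk.eq_1]
  exact _root_.True.intro
end

-- part: R2/Spec/NA/Num
section
prune_inst 0x4000010000000000000180000400002000000000000008001410002000200000020010800000001020060a00000400008110000100200000000000000000000000002c60052e50108a00000000000400000000000000000000000000000000000000000000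
set_option linter.all false
open scoped Cfsg.Agent.FastGrp

/-!
# S3435, packet NON-A (helper3): the numbers `|y^n - 1|`, `|y^n - 1| / |y - 1|`, `y = ± u`

* `AA e n u = |y^n - 1|` (`H403.NumTop`), `YY e n u = |y^n - 1| / |y - 1|`, `Yz e n u = 1 + y + ... + y^(n-1)`;
* bounds; `gcd_AA`.
-/

set_option autoImplicit false

namespace Cfsg.Agent.R2.Spec.NA

open Cfsg.Agent.H403.NumTop

/-- `|y^n - 1| / |y - 1|` -/
def YY (e : Bool) (n u : ℕ) : ℕ := AA e n u / AA e 1 u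

/-- `1 + y + ... + y^(n-1)` -/
def Yz (e : Bool) (n u : ℕ) : ℤ := ∑ i ∈ Finset.range n, (xv e u) ^ i

theorem AA_natAbs {e : Bool} {n u : ℕ} (hu : 1 ≤ u) : (xv e u ^ n - 1).natAbs = AA e n u := by
  rcases AA_eq (e := e) (i := n) hu with h | h
  · rw [← h, Int.natAbs_natCast]
  · have h1 : xv e u ^ n - 1 = -((AA e n u : ℕ) : ℤ) := by rw [h, neg_neg]
    rw [h1, Int.natAbs_neg, Int.natAbs_natCast]

theorem xv_natAbs {e : Bool} {u : ℕ} : (xv e u).natAbs = u := by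
  unfold xv
  cases e <;> simp

theorem Yz_mul {e : Bool} {n u : ℕ} : Yz e n u * (xv e u - 1) = xv e u ^ n - 1 := geom_sum_mul _ _

theorem AA_true {n u : ℕ} : AA true n u = u ^ n - 1 := by simp [AA]

theorem AA_false_even {n u : ℕ} (h : n % 2 = 0) : AA false n u = u ^ n - 1 := by simp [AA, h]

theorem AA_false_odd {n u : ℕ} (h : n % 2 = 1) : AA false n u = u ^ n + 1 := by simp [AA, h]

theorem AA_le {e : Bool} {n u : ℕ} : AA e n u ≤ u ^ n + 1 := by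
  unfold AA; split_ifs <;> omega

theorem le_AA {e : Bool} {n u : ℕ} : u ^ n ≤ AA e n u + 1 := by
  unfold AA; split_ifs <;> omega

theorem one_pow_le {n u : ℕ} (hu : 2 ≤ u) (hn : 1 ≤ n) : 2 ≤ u ^ n :=
  hu.trans (Nat.le_self_pow (by omega) u)

theorem AA_pos {e : Bool} {n u : ℕ} (hu : 2 ≤ u) (hn : 1 ≤ n) : 0 < AA e n u := by
  have h1 := one_pow_le hu hn
  have h2 := le_AA (e := e) (n := n) (u := u)
  omega

theorem AA_lo {e : Bool} {n u : ℕ} (hu : 2 ≤ u) (hn : 1 ≤ n) : u ^ n ≤ 2 * AA e n u := by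
  have h1 := one_pow_le hu hn
  have h2 := le_AA (e := e) (n := n) (u := u)
  omega

theorem AA_hi {e : Bool} {n u : ℕ} (hu : 2 ≤ u) : AA e n u ≤ 2 * u ^ n := by
  have h1 := Nat.one_le_pow n u (by omega)
  have h2 := AA_le (e := e) (n := n) (u := u)
  omega

theorem AA1_dvd {e : Bool} {n u : ℕ} (hu : 2 ≤ u) : AA e 1 u ∣ AA e n u := by
  rw [← AA_natAbs (show 1 ≤ u by omega), ← AA_natAbs (n := n) (show 1 ≤ u by omega), Int.natAbs_dvd_natAbs, pow_one]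
  exact Dvd.intro_left _ Yz_mul

theorem YY_mul {e : Bool} {n u : ℕ} (hu : 2 ≤ u) : YY e n u * AA e 1 u = AA e n u :=
  Nat.div_mul_cancel (AA1_dvd hu)

theorem Yz_natAbs {e : Bool} {n u : ℕ} (hu : 2 ≤ u) : (Yz e n u).natAbs = YY e n u := by
  have h1 : (Yz e n u).natAbs * AA e 1 u = YY e n u * AA e 1 u := by
    rw [YY_mul hu, ← AA_natAbs (show 1 ≤ u by omega), ← AA_natAbs (n := n) (show 1 ≤ u by omega), pow_one,
      ← Int.natAbs_mul, Yz_mul]
  exact Nat.eq_of_mul_eq_mul_right (AA_pos hu le_rfl) h1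

theorem YY_dvd {e : Bool} {n u : ℕ} (hu : 2 ≤ u) : YY e n u ∣ AA e n u := Dvd.intro _ (YY_mul hu)

theorem YY_pos {e : Bool} {n u : ℕ} (hu : 2 ≤ u) (hn : 1 ≤ n) : 0 < YY e n u := by
  have h1 := AA_pos (e := e) hu hn
  rw [← YY_mul hu] at h1
  exact Nat.pos_of_mul_pos_right h1

theorem YY_lo {e : Bool} {n u : ℕ} (hu : 2 ≤ u) (hn : 1 ≤ n) : u ^ (n - 1) ≤ 2 * YY e n u := by
  obtain ⟨j, rfl⟩ : ∃ j, n = j + 1 := ⟨n - 1, by omega⟩
  rw [Nat.add_sub_cancel]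
  have hA := AA_pos (e := e) hu (le_refl 1)
  refine Nat.le_of_mul_le_mul_right ?_ hA
  rw [mul_assoc, YY_mul hu]
  have hj := Nat.one_le_pow j u (by omega)
  obtain ⟨x, hx⟩ : ∃ x, x = u ^ j := ⟨_, rfl⟩
  have hp : u ^ (j + 1) = x * u := by rw [hx, pow_succ]
  rw [← hx] at hj ⊢
  cases e with
  | true =>
    rw [AA_true, AA_true, hp, pow_one]
    obtain ⟨r, rfl⟩ : ∃ r, u = r + 2 := ⟨u - 2, by omega⟩
    have e1 : r + 2 - 1 = r + 1 := by omega
    have e2 : 2 * (x * (r + 2) - 1) = 2 * (x * (r + 2)) - 2 := by omega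
    rw [e1, e2]
    have : x * (r + 1) + 2 ≤ 2 * (x * (r + 2)) := by nlinarith
    omega
  | false =>
    rcases Nat.mod_two_eq_zero_or_one (j + 1) with h | h
    · rw [AA_false_odd (n := 1) rfl, AA_false_even h, hp, pow_one]
      have hj1 : 1 ≤ j := by omega
      have hx2 : 2 ≤ x := by rw [hx]; exact one_pow_le hu hj1
      have e2 : 2 * (x * u - 1) = 2 * (x * u) - 2 := by omega
      rw [e2]
      have : x * (u + 1) + 2 ≤ 2 * (x * u) := by nlinarith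
      omega
    · rw [AA_false_odd (n := 1) rfl, AA_false_odd h, hp, pow_one]
      nlinarith

theorem YY_hi {e : Bool} {n u : ℕ} (hu : 2 ≤ u) (hn : 1 ≤ n) : YY e n u ≤ 2 * u ^ (n - 1) := by
  obtain ⟨j, rfl⟩ : ∃ j, n = j + 1 := ⟨n - 1, by omega⟩
  rw [Nat.add_sub_cancel]
  have hA := AA_pos (e := e) hu (le_refl 1)
  refine Nat.le_of_mul_le_mul_right ?_ hA
  rw [YY_mul hu]
  have hj := Nat.one_le_pow j u (by omega)
  obtain ⟨x, hx⟩ : ∃ x, x = u ^ j := ⟨_, rfl⟩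
  have hp : u ^ (j + 1) = x * u := by rw [hx, pow_succ]
  rw [← hx] at hj ⊢
  cases e with
  | true =>
    rw [AA_true, AA_true, hp, pow_one]
    obtain ⟨r, rfl⟩ : ∃ r, u = r + 2 := ⟨u - 2, by omega⟩
    have e1 : r + 2 - 1 = r + 1 := by omega
    rw [e1]
    have : x * (r + 2) ≤ 2 * x * (r + 1) + 1 := by nlinarith
    omega
  | false =>
    rw [AA_false_odd (n := 1) rfl, pow_one]
    have h1 := AA_le (e := false) (n := j + 1) (u := u)
    rw [hp] at h1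
    nlinarith

/-- the greatest common divisor -/
theorem gcd_AA {e : Bool} {k n u : ℕ} (hu : 2 ≤ u) : Nat.gcd (AA e k u) (AA e n u) ∣ AA e (Nat.gcd k n) u := by
  have h1 : 1 ≤ u := by omega
  rw [dvd_AA_iff h1]
  have hk := (dvd_AA_iff h1).1 (Nat.gcd_dvd_left (AA e k u) (AA e n u))
  have hn := (dvd_AA_iff h1).1 (Nat.gcd_dvd_right (AA e k u) (AA e n u))
  exact orderOf_dvd_iff_pow_eq_one.1 (Nat.dvd_gcd (orderOf_dvd_of_pow_eq_one hk) (orderOf_dvd_of_pow_eq_one hn))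

/-- a lower bound for the least common multiple -/
theorem lcm_lo {e : Bool} {k n X u : ℕ} (hu : 2 ≤ u) (hk : 1 ≤ k) (hX : X ∣ AA e n u) :
    AA e k u * X ≤ Nat.lcm (AA e k u) X * AA e (Nat.gcd k n) u := by
  rw [← Nat.gcd_mul_lcm (AA e k u) X, mul_comm]
  refine Nat.mul_le_mul_left _ (Nat.le_of_dvd (AA_pos hu (Nat.gcd_pos_of_pos_left _ hk)) ?_)
  exact (Nat.gcd_dvd_gcd_of_dvd_right _ hX).trans (gcd_AA hu)

/-- `u` is prime to `AA e n u` -/
theorem cop_u {e : Bool} {n u : ℕ} (hu : 2 ≤ u) (hn : 1 ≤ n) : Nat.Coprime u (AA e n u) := by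
  rw [Nat.coprime_iff_gcd_eq_one]
  have h0 : Nat.gcd u (AA e n u) ∣ u ^ n := (Nat.gcd_dvd_left _ _).trans (dvd_pow_self u (by omega))
  have h1 : Nat.gcd u (AA e n u) ∣ AA e n u := Nat.gcd_dvd_right _ _
  have hp := Nat.one_le_pow n u (by omega)
  have h2 : AA e n u = u ^ n - 1 ∨ AA e n u = u ^ n + 1 := by unfold AA; split_ifs <;> simp
  rcases h2 with h2 | h2
  · rw [h2] at h0 h1 ⊢
    have h3 := Nat.dvd_sub h0 h1
    rw [show u ^ n - (u ^ n - 1) = 1 by omega] at h3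
    exact Nat.dvd_one.1 h3
  · rw [h2] at h0 h1 ⊢
    have h3 := Nat.dvd_sub h1 h0
    rw [show u ^ n + 1 - u ^ n = 1 by omega] at h3
    exact Nat.dvd_one.1 h3

end Cfsg.Agent.R2.Spec.NA
end

-- part: R2/Spec/NA/Rel
section
prune_inst 0x180000400000000000000000400001404000000800004020010801000001120060208000400000000000100000000000000000000000000002000090480c00000000002000400000000000000000000000000000000000000000000
set_option linter.all false
open scoped Cfsg.Agent.FastGrp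

/-!
# S3435, packet NON-A (helper3): the relations

* `Typ q a b c` : `TypI` or `TypII`;
* `rel_core` : `μ E = K + ρ`, `T ∣ K`, `T ∣ d N` give `T ≤ (q + 1) (H |ρ| + |μ| d (q + 1))`, or type II and the zero case;
* `semi_false` : the sufficient condition `chk` for a contradiction.
-/

set_option autoImplicit false

namespace Cfsg.Agent.R2.Spec.NA

open Cfsg.Agent.H403.NumTop

/-- type I or type II -/
def T2 (a b c : ℤ) : Prop := a = 1 ∧ b = 1 ∧ (c = 1 ∨ c = -1)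

def Typ (q : ℕ) (a b c : ℤ) : Prop :=
  (∃ s : ℤ, (s = 1 ∨ s = -1) ∧ ((a = q + s ∧ b = q) ∨ (a = q ∧ b = q + s)) ∧ c ∣ (q + s) ^ 2) ∨ T2 a b c

theorem Typ.a_le {q : ℕ} {a b c : ℤ} (h : Typ q a b c) (hq : 1 ≤ q) : a.natAbs ≤ q + 1 := by
  rcases h with ⟨s, hs, h1, -⟩ | ⟨h1, -, -⟩
  · rcases h1 with ⟨h1, -⟩ | ⟨h1, -⟩ <;> rcases hs with rfl | rfl <;> omega
  · omega

theorem Typ.c_le {q : ℕ} {a b c : ℤ} (h : Typ q a b c) (hq : 2 ≤ q) : c.natAbs ≤ (q + 1) * (q + 1) := by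
  rcases h with ⟨s, hs, -, h1⟩ | ⟨-, -, h1⟩
  · have h2 := Int.natAbs_dvd_natAbs.2 h1
    rw [pow_two, Int.natAbs_mul] at h2
    have h3 : ((q : ℤ) + s).natAbs ≤ q + 1 := by rcases hs with rfl | rfl <;> omega
    have h4 : 0 < ((q : ℤ) + s).natAbs := by rcases hs with rfl | rfl <;> omega
    exact (Nat.le_of_dvd (Nat.mul_pos h4 h4) h2).trans (Nat.mul_le_mul h3 h3)
  · have : c.natAbs = 1 := by omega
    rw [this]; nlinarith

theorem rel_core {p q : ℕ} (hp : p.Prime) (hpq : p ∣ q) (hq : 3 ≤ q) {a b c : ℤ} {M N H d T : ℕ} {E μ K ρ : ℤ}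
    (hrel : a * M = b * N + c) (htyp : Typ q a b c) (hM : d * M = H * E.natAbs) (hE : μ * E = K + ρ)
    (hTK : (T : ℤ) ∣ K) (hTN : T ∣ d * N) (hpH : ¬ p ∣ H) (hpd : ¬ p ∣ d) (hpμ : ¬ (p : ℤ) ∣ μ) (hpK : ¬ (p : ℤ) ∣ K) :
    T ≤ (q + 1) * (H * ρ.natAbs + μ.natAbs * d * (q + 1)) ∨
      (T2 a b c ∧ H * ρ.natAbs = μ.natAbs * d ∧ μ.natAbs * d * N = H * K.natAbs) := by
  have hpZ : Prime (p : ℤ) := Nat.prime_iff_prime_int.1 hp
  -- the sign
  obtain ⟨σ, hσ, hσE⟩ : ∃ σ : ℤ, (σ = 1 ∨ σ = -1) ∧ ((E.natAbs : ℕ) : ℤ) = σ * E := by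
    rcases Int.natAbs_eq E with h | h
    · exact ⟨1, Or.inl rfl, by rw [one_mul]; exact h.symm⟩
    · exact ⟨-1, Or.inr rfl, by linarith⟩
  have hMz : (d : ℤ) * M = H * (σ * E) := by rw [← hσE]; exact_mod_cast hM
  have e1 : σ * a * H * K + σ * a * H * ρ = μ * d * b * N + μ * d * c := by
    have : μ * (d * (a * M)) = μ * (d * (b * N + c)) := by rw [hrel]
    calc σ * a * H * K + σ * a * H * ρ = σ * a * H * (K + ρ) := by ring
      _ = σ * a * H * (μ * E) := by rw [hE]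
      _ = μ * a * (H * (σ * E)) := by ring
      _ = μ * (d * (a * M)) := by rw [← hMz]; ring
      _ = μ * (d * (b * N + c)) := this
      _ = _ := by ring
  have hTNz : (T : ℤ) ∣ (d : ℤ) * N := by exact_mod_cast Int.natCast_dvd_natCast.2 hTN
  have hF : (T : ℤ) ∣ σ * a * H * ρ - μ * d * c := by
    have h1 : σ * a * H * ρ - μ * d * c = (μ * b) * (d * N) - (σ * a * H) * K := by linear_combination e1
    rw [h1]
    exact dvd_sub (hTNz.mul_left _) (hTK.mul_left _)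
  by_cases h0 : σ * a * H * ρ - μ * d * c = 0
  · right
    have h1 : σ * a * H * ρ = μ * d * c := sub_eq_zero.1 h0
    have h2 : σ * a * H * K = μ * d * b * N := by linear_combination e1 - h1
    have hσp : ¬ (p : ℤ) ∣ σ := by
      intro h
      have h3 : (p : ℤ) ∣ 1 := by
        rcases hσ with rfl | rfl
        · exact h
        · exact (Int.dvd_neg).1 h
      exact hpZ.not_unit (isUnit_of_dvd_one h3)
    have hHp : ¬ (p : ℤ) ∣ (H : ℤ) := fun h => hpH (Int.natCast_dvd_natCast.1 h)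
    have hdp : ¬ (p : ℤ) ∣ (d : ℤ) := fun h => hpd (Int.natCast_dvd_natCast.1 h)
    have hqp : (p : ℤ) ∣ (q : ℤ) := Int.natCast_dvd_natCast.2 hpq
    rcases htyp with ⟨s, hs, hab, hc⟩ | h3
    · exfalso
      have hsp : ¬ (p : ℤ) ∣ (q : ℤ) + s := by
        intro h
        have h4 := (dvd_add_right hqp).1 h
        have h5 : (p : ℤ) ∣ 1 := by
          rcases hs with rfl | rfl
          · exact h4
          · exact (Int.dvd_neg).1 h4
        exact hpZ.not_unit (isUnit_of_dvd_one h5)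
      have hcp : ¬ (p : ℤ) ∣ c := fun h => hsp (hpZ.dvd_of_dvd_pow (h.trans hc))
      rcases hab with ⟨ha, hb⟩ | ⟨ha, hb⟩
      · -- `b = q`
        have h4 : (p : ℤ) ∣ σ * a * H * K := by
          rw [h2, hb]
          exact ((hqp.mul_left _).mul_right _)
        rcases hpZ.dvd_or_dvd h4 with h5 | h5
        · rcases hpZ.dvd_or_dvd h5 with h6 | h6
          · rcases hpZ.dvd_or_dvd h6 with h7 | h7
            · exact hσp h7
            · rw [ha] at h7; exact hsp h7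
          · exact hHp h6
        · exact hpK h5
      · have h4 : (p : ℤ) ∣ μ * d * c := by
          rw [← h1, ha]
          exact (((hqp.mul_left _).mul_right _).mul_right _)
        rcases hpZ.dvd_or_dvd h4 with h5 | h5
        · rcases hpZ.dvd_or_dvd h5 with h6 | h6
          · exact hpμ h6
          · exact hdp h6
        · exact hcp h5
    · refine ⟨h3, ?_, ?_⟩
      · obtain ⟨rfl, rfl, hc⟩ := h3
        have h4 := congrArg Int.natAbs h1
        have h5 : σ.natAbs = 1 := by rcases hσ with rfl | rfl <;> rfl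
        have h6 : c.natAbs = 1 := by rcases hc with rfl | rfl <;> rfl
        simpa [Int.natAbs_mul, h5, h6] using h4
      · obtain ⟨rfl, rfl, hc⟩ := h3
        have h4 := congrArg Int.natAbs h2
        have h5 : σ.natAbs = 1 := by rcases hσ with rfl | rfl <;> rfl
        simpa [Int.natAbs_mul, h5] using h4.symm
  · left
    have h1 := Nat.le_of_dvd (Int.natAbs_pos.2 h0) (Int.natCast_dvd.1 hF)
    have h5 : σ.natAbs = 1 := by rcases hσ with rfl | rfl <;> rfl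
    have h6 := htyp.a_le (show 1 ≤ q by omega)
    have h7 := htyp.c_le (show 2 ≤ q by omega)
    calc T ≤ _ := h1
      _ ≤ (σ * a * H * ρ).natAbs + (μ * d * c).natAbs := Int.natAbs_sub_le _ _
      _ = a.natAbs * (H * ρ.natAbs) + μ.natAbs * d * c.natAbs := by
        simp only [Int.natAbs_mul, h5, Int.natAbs_natCast, one_mul, mul_assoc]
      _ ≤ (q + 1) * (H * ρ.natAbs) + μ.natAbs * d * ((q + 1) * (q + 1)) :=
        Nat.add_le_add (Nat.mul_le_mul_right _ h6) (Nat.mul_le_mul_left _ h7)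
      _ = _ := by ring

/-- the sufficient condition -/
def chk (θ T ρ μ d H Z : ℕ) : Bool :=
  decide ((θ * (H * ρ)) ^ 7 * (480 * (H * Z)) < ((θ - 1) * T) ^ 7 * d) &&
    decide ((θ * (μ * d)) ^ 7 * (480 ^ 2 * (H * Z) ^ 2) < T ^ 7 * d ^ 2)

theorem semi_false {θ T ρ μ d H Z M q : ℕ} (hθ : 1 ≤ θ) (hq : 3 ≤ q) (hM : d * M = H * Z) (hs : q ^ 7 ≤ 64 * M)
    (hT : T ≤ (q + 1) * (H * ρ + μ * d * (q + 1))) (h : chk θ T ρ μ d H Z = true) : False := by
  have h1 : (q + 1) ^ 7 ≤ 480 * M := by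
    have h2 : 3 * (q + 1) ≤ 4 * q := by omega
    have h3 := Nat.pow_le_pow_left h2 7
    rw [mul_pow, mul_pow] at h3
    have h4 : 3 ^ 7 * (q + 1) ^ 7 ≤ 4 ^ 7 * (64 * M) := h3.trans (Nat.mul_le_mul_left _ hs)
    omega
  rw [chk, Bool.and_eq_true, decide_eq_true_eq, decide_eq_true_eq] at h
  obtain ⟨c1, c2⟩ := h
  rw [← hM] at c1 c2
  have k1 : θ * (H * ρ) * (q + 1) < (θ - 1) * T := by
    by_contra hcon
    have h5 := Nat.pow_le_pow_left (not_lt.1 hcon) 7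
    have h6 : ((θ - 1) * T) ^ 7 * d ≤ (θ * (H * ρ)) ^ 7 * (480 * (d * M)) := by
      calc ((θ - 1) * T) ^ 7 * d ≤ (θ * (H * ρ) * (q + 1)) ^ 7 * d := Nat.mul_le_mul_right _ h5
        _ = (θ * (H * ρ)) ^ 7 * ((q + 1) ^ 7 * d) := by rw [mul_pow]; ring
        _ ≤ (θ * (H * ρ)) ^ 7 * (480 * M * d) := Nat.mul_le_mul_left _ (Nat.mul_le_mul_right _ h1)
        _ = _ := by ring
    omega
  have k2 : θ * (μ * d) * (q + 1) ^ 2 < T := by
    by_contra hcon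
    have h5 := Nat.pow_le_pow_left (not_lt.1 hcon) 7
    have h6 : T ^ 7 * d ^ 2 ≤ (θ * (μ * d)) ^ 7 * (480 ^ 2 * (d * M) ^ 2) := by
      calc T ^ 7 * d ^ 2 ≤ (θ * (μ * d) * (q + 1) ^ 2) ^ 7 * d ^ 2 := Nat.mul_le_mul_right _ h5
        _ = (θ * (μ * d)) ^ 7 * (((q + 1) ^ 7) ^ 2 * d ^ 2) := by rw [mul_pow]; ring
        _ ≤ (θ * (μ * d)) ^ 7 * ((480 * M) ^ 2 * d ^ 2) :=
          Nat.mul_le_mul_left _ (Nat.mul_le_mul_right _ (Nat.pow_le_pow_left h1 2))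
        _ = _ := by ring
    omega
  have k3 : θ * T < θ * T := by
    calc θ * T ≤ θ * ((q + 1) * (H * ρ + μ * d * (q + 1))) := Nat.mul_le_mul_left _ hT
      _ = θ * (H * ρ) * (q + 1) + θ * (μ * d) * (q + 1) ^ 2 := by ring
      _ < (θ - 1) * T + T := Nat.add_lt_add k1 k2
      _ = (θ - 1 + 1) * T := by ring
      _ = θ * T := by rw [Nat.sub_add_cancel hθ]
  exact lt_irrefl _ k3

end Cfsg.Agent.R2.Spec.NA

private theorem dce_13ad60e3d7e6 : _root_.True := by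
  try have : _root_.True := by simp only [_root_.Cfsg.Agent.R2.Spec.NA.chk.eq_1]
  exact _root_.True.intro
end

-- part: R2/Spec/NA/Inst
section
prune_inst 0x4000000000000000000180000000002000000000000000000404000000800004000000801000001120060a08000000008110000000200000000000000000000000000c600d2ed0108a00000002000400000000000000000000000000000000000000000000
set_option linter.all false
open scoped Cfsg.Agent.FastGrp

/-!
# S3435, packet NON-A (helper3): the seven relations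

* `ND` : the hypotheses;
* `rT`, `rR`, `rMu`, `rL` : the data of the relations;
* `ND.bd` : the inequality.
-/

set_option autoImplicit false

namespace Cfsg.Agent.R2.Spec.NA

open Cfsg.Agent.H403.NumTop

/-- `i' = m` or `m - 1` -/
def ii (s : Bool) (m : ℕ) : ℕ := if s then m else m - 1

/-- the number of the class `i'`, times `gcd` -/
def ZZ (s e : Bool) (m u : ℕ) : ℕ := if s then YY e m u else AA e (m - 1) u

/-- the hypotheses -/
structure ND (s e : Bool) (m k u q p H M N d : ℕ) (a b c : ℤ) : Prop where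
  m7 : 7 ≤ m
  k3 : 3 ≤ k
  km : k + 2 ≤ m
  nk : ¬ k ∣ ii s m
  u2 : 2 ≤ u
  ex1 : ¬ (e = false ∧ u = 2 ∧ k = 3)
  p_prime : p.Prime
  pq : p ∣ q
  q3 : 3 ≤ q
  rel : a * M = b * N + c
  typ : Typ q a b c
  hd : d ∣ AA e 1 u
  eqM : d * M = H * ZZ s e m u
  n1 : AA e k u ∣ N
  n2 : YY e (m - k) u ∣ d * N
  n3 : ∀ b, 1 ≤ b → b + k + 1 ≤ m → AA e b u ∣ d * N
  pu : ¬ p ∣ u
  pH : ¬ p ∣ H
  pN : ¬ p ∣ N

variable {s e : Bool} {m k u q p H M N d : ℕ} {a b c : ℤ}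

theorem ND.pd (h : ND s e m k u q p H M N d a b c) : ¬ p ∣ d := fun h1 =>
  h.pN (h1.trans (h.hd.trans ((AA1_dvd h.u2).trans h.n1)))

theorem ND.pdN (h : ND s e m k u q p H M N d a b c) : ¬ p ∣ d * N := fun h1 =>
  (h.p_prime.dvd_mul.1 h1).elim h.pd h.pN

theorem ND.pA1 (h : ND s e m k u q p H M N d a b c) : ¬ p ∣ AA e 1 u := fun h1 =>
  h.pN (h1.trans ((AA1_dvd h.u2).trans h.n1))

theorem ND.d_pos (h : ND s e m k u q p H M N d a b c) : 0 < d :=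
  Nat.pos_of_dvd_of_pos h.hd (AA_pos h.u2 le_rfl)

theorem ND.d_le (h : ND s e m k u q p H M N d a b c) : d ≤ AA e 1 u :=
  Nat.le_of_dvd (AA_pos h.u2 le_rfl) h.hd

theorem ND.d_le' (h : ND s e m k u q p H M N d a b c) : d ≤ u + 1 :=
  h.d_le.trans (by have := AA_le (e := e) (n := 1) (u := u); rwa [pow_one] at this)

/-- `rel_core` in the present situation, `T ∣ K` in the natural numbers -/
theorem ND.core' (h : ND s e m k u q p H M N d a b c) {T : ℕ} {E μ K ρ : ℤ} (hZ : E.natAbs = ZZ s e m u)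
    (hE : μ * E = K + ρ) (hTK : T ∣ K.natAbs) (hTN : T ∣ d * N) (hpμ : ¬ p ∣ μ.natAbs) (hpK : ¬ p ∣ K.natAbs) :
    T ≤ (q + 1) * (H * ρ.natAbs + μ.natAbs * d * (q + 1)) ∨
      (T2 a b c ∧ H * ρ.natAbs = μ.natAbs * d ∧ μ.natAbs * d * N = H * K.natAbs) :=
  rel_core h.p_prime h.pq h.q3 h.rel h.typ (E := E) (d := d) (H := H) (by rw [hZ]; exact h.eqM) hE
    (Int.natCast_dvd.2 hTK) hTN h.pH h.pd (fun h1 => hpμ (Int.natCast_dvd.1 h1)) (fun h1 => hpK (Int.natCast_dvd.1 h1))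

/-- `rel_core` in the present situation, `T ∣ K` in the natural numbers -/
theorem ND.core (h : ND s e m k u q p H M N d a b c) {T : ℕ} {E μ K ρ : ℤ} (hZ : E.natAbs = ZZ s e m u)
    (hE : μ * E = K + ρ) (hTK : T ∣ K.natAbs) (hTN : T ∣ d * N) (hpμ : ¬ p ∣ μ.natAbs) (hpK : ¬ p ∣ K.natAbs) :
    T ≤ (q + 1) * (H * ρ.natAbs + μ.natAbs * d * (q + 1)) ∨
      (H * ρ.natAbs = μ.natAbs * d ∧ μ.natAbs * d * N = H * K.natAbs) := by
  rcases h.core' hZ hE hTK hTN hpμ hpK with h1 | ⟨-, h1⟩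
  · exact Or.inl h1
  · exact Or.inr h1

theorem cop_eq_one {A n P : ℕ} (h : A * n = P) (hc : Nat.Coprime P A) : A = 1 :=
  Nat.eq_one_of_dvd_coprimes hc (Dvd.intro _ h) dvd_rfl

theorem ND.R1t (h : ND true e m k u q p H M N d a b c) :
    YY e k u ≤ (q + 1) * (H * YY e (m - k) u + 1 * d * (q + 1)) := by
  have hu := h.u2
  have hk := h.k3
  have hkm := h.km
  have hE : (1 : ℤ) * Yz e m u = xv e u ^ (m - k) * Yz e k u + Yz e (m - k) u := by
    have h1 : Yz e m u = Yz e (m - k) u + xv e u ^ (m - k) * Yz e k u := by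
      unfold Yz
      rw [Finset.mul_sum]
      conv_lhs => rw [show m = (m - k) + k by omega, Finset.sum_range_add]
      simp only [pow_add]
    rw [h1]; ring
  have hK : (xv e u ^ (m - k) * Yz e k u).natAbs = u ^ (m - k) * YY e k u := by
    rw [Int.natAbs_mul, Int.natAbs_pow, xv_natAbs, Yz_natAbs hu]
  have h0 := h.core (T := YY e k u) (by rw [Yz_natAbs hu]; rfl) hE (by rw [hK]; exact Dvd.intro_left _ rfl)
    (((YY_dvd hu).trans h.n1).trans (Dvd.intro_left _ rfl)) (by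
      intro h1; exact h.p_prime.one_lt.ne' (Nat.dvd_one.1 h1)) (by
      rw [hK]; intro h1
      rcases h.p_prime.dvd_mul.1 h1 with h2 | h2
      · exact h.pu (h.p_prime.dvd_of_dvd_pow h2)
      · exact h.pN (h2.trans ((YY_dvd hu).trans h.n1)))
  rw [Yz_natAbs hu, hK] at h0
  rcases h0 with h0 | ⟨h0, h1⟩
  · exact h0
  · exfalso
    simp only [Int.natAbs_one, one_mul] at h0 h1
    obtain ⟨n, hn⟩ := h.n1
    have hH : 0 < H := by
      rcases Nat.eq_zero_or_pos H with h2 | h2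
      · rw [h2, zero_mul] at h0; have := h.d_pos; omega
      · exact h2
    have e1 : AA e (m - k) u * n = u ^ (m - k) := by
      refine Nat.eq_of_mul_eq_mul_left (Nat.mul_pos hH (YY_pos (e := e) (n := k) hu (by omega))) ?_
      calc H * YY e k u * (AA e (m - k) u * n) = H * YY e k u * (YY e (m - k) u * AA e 1 u * n) := by rw [YY_mul hu]
        _ = H * YY e (m - k) u * (YY e k u * AA e 1 u * n) := by ring
        _ = d * N := by rw [h0, YY_mul hu, hn]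
        _ = _ := by rw [h1]; ring
    have e2 := cop_eq_one e1 (Nat.Coprime.pow_left _ (cop_u hu (by omega)))
    have e3 := le_AA (e := e) (n := m - k) (u := u)
    have e4 : u ^ 2 ≤ u ^ (m - k) := Nat.pow_le_pow_right (by omega) (by omega)
    nlinarith only [hu, e2, e3, e4]

theorem AAk_big (hu : 2 ≤ u) (hk : 3 ≤ k) (hex : ¬ (e = false ∧ u = 2 ∧ k = 3)) : AA e 1 u < YY e k u := by
  refine lt_of_mul_lt_mul_right ?_ (Nat.zero_le (AA e 1 u))
  rw [YY_mul hu]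
  have h1 : u ^ 3 ≤ u ^ k := Nat.pow_le_pow_right (by omega) hk
  have h2 := le_AA (e := e) (n := k) (u := u)
  cases e with
  | true =>
    rw [AA_true, pow_one]
    obtain ⟨r, rfl⟩ : ∃ r, u = r + 2 := ⟨u - 2, by omega⟩
    rw [show r + 2 - 1 = r + 1 by omega]
    nlinarith only [h1, h2]
  | false =>
    rw [AA_false_odd (n := 1) rfl, pow_one]
    rcases Nat.lt_or_ge 2 u with h3 | h3
    · nlinarith only [h1, h2, h3]
    · have h4 : u = 2 := by omega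
      subst h4
      have h5 : 4 ≤ k := by
        rcases Nat.lt_or_ge 3 k with h6 | h6
        · omega
        · exact absurd ⟨rfl, rfl, by omega⟩ hex
      have h6 : 2 ^ 4 ≤ 2 ^ k := Nat.pow_le_pow_right (by omega) h5
      omega

theorem ND.R2t (h : ND true e m k u q p H M N d a b c) :
    YY e (m - k) u ≤ (q + 1) * (H * YY e k u + 1 * d * (q + 1)) := by
  have hu := h.u2
  have hk := h.k3
  have hkm := h.km
  have hE : (1 : ℤ) * Yz e m u = xv e u ^ k * Yz e (m - k) u + Yz e k u := by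
    have h1 : Yz e m u = Yz e k u + xv e u ^ k * Yz e (m - k) u := by
      unfold Yz
      rw [Finset.mul_sum]
      conv_lhs => rw [show m = k + (m - k) by omega, Finset.sum_range_add]
      simp only [pow_add]
    rw [h1]; ring
  have hK : (xv e u ^ k * Yz e (m - k) u).natAbs = u ^ k * YY e (m - k) u := by
    rw [Int.natAbs_mul, Int.natAbs_pow, xv_natAbs, Yz_natAbs hu]
  have h0 := h.core (T := YY e (m - k) u) (by rw [Yz_natAbs hu]; rfl) hE (by rw [hK]; exact Dvd.intro_left _ rfl)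
    h.n2 (by intro h1; exact h.p_prime.one_lt.ne' (Nat.dvd_one.1 h1)) (by
      rw [hK]; intro h1
      rcases h.p_prime.dvd_mul.1 h1 with h2 | h2
      · exact h.pu (h.p_prime.dvd_of_dvd_pow h2)
      · exact h.pdN (h2.trans h.n2))
  rw [Yz_natAbs hu, hK] at h0
  rcases h0 with h0 | ⟨h0, h1⟩
  · exact h0
  · exfalso
    simp only [Int.natAbs_one, one_mul] at h0 h1
    have hH : 1 ≤ H := by
      rcases Nat.eq_zero_or_pos H with h2 | h2
      · rw [h2, zero_mul] at h0; have := h.d_pos; omega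
      · exact h2
    have h2 := AAk_big (e := e) hu hk h.ex1
    have h3 := h.d_le
    nlinarith only [h0, hH, h2, h3]

theorem ND.P0t (h : ND true e m k u q p H M N d a b c)
    (hz : d < H * ((YY e k u - YY e (m - k) u) + (YY e (m - k) u - YY e k u))) :
    Nat.lcm (AA e k u) (YY e (m - k) u) ≤ (q + 1) * (H * (YY e k u + YY e (m - k) u) + 1 * d * (q + 1)) := by
  have hu := h.u2
  have hk := h.k3
  have hkm := h.km
  have hE : (1 : ℤ) * Yz e m u = (xv e u ^ k - 1) * Yz e (m - k) u + (Yz e k u + Yz e (m - k) u) := by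
    have h1 : Yz e m u = Yz e k u + xv e u ^ k * Yz e (m - k) u := by
      unfold Yz
      rw [Finset.mul_sum]
      conv_lhs => rw [show m = k + (m - k) by omega, Finset.sum_range_add]
      simp only [pow_add]
    rw [h1]; ring
  have hK : ((xv e u ^ k - 1) * Yz e (m - k) u).natAbs = AA e k u * YY e (m - k) u := by
    rw [Int.natAbs_mul, AA_natAbs (by omega), Yz_natAbs hu]
  have h0 := h.core (T := Nat.lcm (AA e k u) (YY e (m - k) u)) (by rw [Yz_natAbs hu]; rfl) hE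
    (by rw [hK]; exact Nat.lcm_dvd_mul _ _)
    (Nat.lcm_dvd (h.n1.trans (Dvd.intro_left _ rfl)) h.n2)
    (by intro h1; exact h.p_prime.one_lt.ne' (Nat.dvd_one.1 h1)) (by
      rw [hK]; intro h1
      rcases h.p_prime.dvd_mul.1 h1 with h2 | h2
      · exact h.pN (h2.trans h.n1)
      · exact h.pdN (h2.trans h.n2))
  rcases h0 with h0 | ⟨h0, -⟩
  · refine h0.trans (Nat.mul_le_mul_left _ (Nat.add_le_add (Nat.mul_le_mul_left _ ?_) ?_))
    · refine (Int.natAbs_add_le _ _).trans ?_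
      rw [Yz_natAbs hu, Yz_natAbs hu]
    · rw [Int.natAbs_one]
  · exfalso
    rw [Int.natAbs_one, one_mul] at h0
    have h2 : (YY e k u - YY e (m - k) u) + (YY e (m - k) u - YY e k u) ≤ (Yz e k u + Yz e (m - k) u).natAbs := by
      rw [← Yz_natAbs hu, ← Yz_natAbs hu]; (clear * -; omega)
    have h3 := Nat.mul_le_mul_left H h2
    omega

theorem ND.R1f' (h : ND false e m k u q p H M N d a b c) :
    AA e k u ≤ (q + 1) * (H * AA e (m - 1 - k) u + 1 * d * (q + 1)) ∨ (T2 a b c ∧ e = true ∧ u = 2 ∧ k + 2 = m) := by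
  have hu := h.u2
  have hk := h.k3
  have hkm := h.km
  have hE : (1 : ℤ) * (xv e u ^ (m - 1) - 1) = xv e u ^ (m - 1 - k) * (xv e u ^ k - 1) + (xv e u ^ (m - 1 - k) - 1) := by
    conv_lhs => rw [show m - 1 = (m - 1 - k) + k by omega, pow_add]
    ring
  have hK : (xv e u ^ (m - 1 - k) * (xv e u ^ k - 1)).natAbs = u ^ (m - 1 - k) * AA e k u := by
    rw [Int.natAbs_mul, Int.natAbs_pow, xv_natAbs, AA_natAbs (by omega)]
  have h0 := h.core' (T := AA e k u) (by rw [AA_natAbs (by omega)]; rfl) hE (by rw [hK]; exact Dvd.intro_left _ rfl)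
    (h.n1.trans (Dvd.intro_left _ rfl)) (by
      intro h1; exact h.p_prime.one_lt.ne' (Nat.dvd_one.1 h1)) (by
      rw [hK]; intro h1
      rcases h.p_prime.dvd_mul.1 h1 with h2 | h2
      · exact h.pu (h.p_prime.dvd_of_dvd_pow h2)
      · exact h.pN (h2.trans h.n1))
  rw [AA_natAbs (by omega), hK] at h0
  rcases h0 with h0 | ⟨hT, h0, h1⟩
  · exact Or.inl h0
  · right
    simp only [Int.natAbs_one, one_mul] at h0 h1
    obtain ⟨n, hn⟩ := h.n1
    have hH : 0 < H := by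
      rcases Nat.eq_zero_or_pos H with h2 | h2
      · rw [h2, zero_mul] at h0; have := h.d_pos; omega
      · exact h2
    have e1 : AA e (m - 1 - k) u * n = u ^ (m - 1 - k) := by
      refine Nat.eq_of_mul_eq_mul_left (Nat.mul_pos hH (AA_pos (e := e) (n := k) hu (by omega))) ?_
      calc H * AA e k u * (AA e (m - 1 - k) u * n) = H * AA e (m - 1 - k) u * (AA e k u * n) := by ring
        _ = d * N := by rw [h0, hn]
        _ = _ := by rw [h1]; ring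
    have e2 := cop_eq_one e1 (Nat.Coprime.pow_left _ (cop_u hu (by omega)))
    have e3 := le_AA (e := e) (n := m - 1 - k) (u := u)
    have e5 : m - 1 - k = 1 := by
      by_contra hcon
      have e4 : u ^ 2 ≤ u ^ (m - 1 - k) := Nat.pow_le_pow_right (by omega) (by omega)
      nlinarith only [hu, e2, e3, e4]
    rw [e2, e5, pow_one] at e3
    have e6 : u = 2 := by omega
    refine ⟨hT, ?_, e6, by omega⟩
    cases e with
    | true => rfl
    | false => rw [e5, e6] at e2; exact absurd e2 (by decide)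

theorem ND.R1f (h : ND false e m k u q p H M N d a b c) (hex : ¬ (e = true ∧ u = 2 ∧ k + 2 = m)) :
    AA e k u ≤ (q + 1) * (H * AA e (m - 1 - k) u + 1 * d * (q + 1)) :=
  h.R1f'.resolve_right fun h1 => hex h1.2

theorem ND.R2f (h : ND false e m k u q p H M N d a b c) :
    YY e (m - k) u ≤ (q + 1) * (H * AA e (k - 1) u + 1 * d * (q + 1)) := by
  have hu := h.u2
  have hk := h.k3
  have hkm := h.km
  have hE : (1 : ℤ) * (xv e u ^ (m - 1) - 1) = xv e u ^ (k - 1) * (xv e u ^ (m - k) - 1) + (xv e u ^ (k - 1) - 1) := by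
    conv_lhs => rw [show m - 1 = (k - 1) + (m - k) by omega, pow_add]
    ring
  have hK : (xv e u ^ (k - 1) * (xv e u ^ (m - k) - 1)).natAbs = u ^ (k - 1) * AA e (m - k) u := by
    rw [Int.natAbs_mul, Int.natAbs_pow, xv_natAbs, AA_natAbs (by omega)]
  have h0 := h.core (T := YY e (m - k) u) (by rw [AA_natAbs (by omega)]; rfl) hE
    (by rw [hK]; exact (YY_dvd hu).mul_left _) h.n2
    (by intro h1; exact h.p_prime.one_lt.ne' (Nat.dvd_one.1 h1)) (by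
      rw [hK]; intro h1
      rcases h.p_prime.dvd_mul.1 h1 with h2 | h2
      · exact h.pu (h.p_prime.dvd_of_dvd_pow h2)
      · rw [← YY_mul hu] at h2
        rcases h.p_prime.dvd_mul.1 h2 with h3 | h3
        · exact h.pdN (h3.trans h.n2)
        · exact h.pA1 h3)
  rw [AA_natAbs (by omega), hK] at h0
  rcases h0 with h0 | ⟨h0, h1⟩
  · exact h0
  · exfalso
    simp only [Int.natAbs_one, one_mul] at h0 h1
    have hH : 1 ≤ H := by
      rcases Nat.eq_zero_or_pos H with h2 | h2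
      · rw [h2, zero_mul] at h0; have := h.d_pos; omega
      · exact h2
    have h2 : AA e 1 u < AA e (k - 1) u := by
      have h3 : u ^ 2 ≤ u ^ (k - 1) := Nat.pow_le_pow_right (by omega) (by omega)
      have h4 := le_AA (e := e) (n := k - 1) (u := u)
      cases e with
      | true =>
        rw [AA_true, pow_one]
        have h5 : u ^ 2 ≥ 2 * u := by nlinarith only [hu]
        omega
      | false =>
        rw [AA_false_odd (n := 1) rfl, pow_one]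
        rcases Nat.lt_or_ge 2 u with h6 | h6
        · have h5 : u ^ 2 ≥ 3 * u := by nlinarith only [h6]
          omega
        · have h7 : u = 2 := by omega
          subst h7
          have h8 : 4 ≤ k := by
            rcases Nat.lt_or_ge 3 k with h6 | h6
            · omega
            · exact absurd ⟨rfl, rfl, by omega⟩ h.ex1
          have h6 : 2 ^ 3 ≤ 2 ^ (k - 1) := Nat.pow_le_pow_right (by omega) (by omega)
          omega
    have h3 := h.d_le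
    nlinarith only [h0, hH, h2, h3]

theorem ND.P0f (h : ND false e m k u q p H M N d a b c)
    (hz : u * d < H * (((AA e k u - AA e (m - k) u) + (AA e (m - k) u - AA e k u)) - AA e 1 u)) :
    Nat.lcm (AA e k u) (YY e (m - k) u) ≤
      (q + 1) * (H * (AA e k u + AA e (m - k) u + AA e 1 u) + u * d * (q + 1)) := by
  have hu := h.u2
  have hk := h.k3
  have hkm := h.km
  have hE : xv e u * (xv e u ^ (m - 1) - 1) = (xv e u ^ k - 1) * (xv e u ^ (m - k) - 1) +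
      ((xv e u ^ k - 1) + (xv e u ^ (m - k) - 1) - (xv e u ^ 1 - 1)) := by
    have h1 : xv e u * xv e u ^ (m - 1) = xv e u ^ k * xv e u ^ (m - k) := by
      rw [← pow_succ', ← pow_add]; congr 1; omega
    linear_combination h1
  have hK : ((xv e u ^ k - 1) * (xv e u ^ (m - k) - 1)).natAbs = AA e k u * AA e (m - k) u := by
    rw [Int.natAbs_mul, AA_natAbs (by omega), AA_natAbs (by omega)]
  have h0 := h.core (T := Nat.lcm (AA e k u) (YY e (m - k) u)) (by rw [AA_natAbs (by omega)]; rfl) hE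
    (by rw [hK]; exact (Nat.lcm_dvd_mul _ _).trans (Nat.mul_dvd_mul_left _ (YY_dvd hu)))
    (Nat.lcm_dvd (h.n1.trans (Dvd.intro_left _ rfl)) h.n2)
    (by rw [xv_natAbs]; exact h.pu) (by
      rw [hK]; intro h1
      rcases h.p_prime.dvd_mul.1 h1 with h2 | h2
      · exact h.pN (h2.trans h.n1)
      · rw [← YY_mul hu] at h2
        rcases h.p_prime.dvd_mul.1 h2 with h3 | h3
        · exact h.pdN (h3.trans h.n2)
        · exact h.pA1 h3)
  rw [xv_natAbs] at h0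
  rcases h0 with h0 | ⟨h0, -⟩
  · refine h0.trans (Nat.mul_le_mul_left _ (Nat.add_le_add_right (Nat.mul_le_mul_left _ ?_) _))
    refine (Int.natAbs_sub_le _ _).trans ?_
    rw [AA_natAbs (n := 1) (by omega)]
    refine Nat.add_le_add_right ((Int.natAbs_add_le _ _).trans ?_) _
    rw [AA_natAbs (by omega), AA_natAbs (by omega)]
  · exfalso
    have h2 : ((AA e k u - AA e (m - k) u) + (AA e (m - k) u - AA e k u)) - AA e 1 u ≤
        ((xv e u ^ k - 1) + (xv e u ^ (m - k) - 1) - (xv e u ^ 1 - 1)).natAbs := by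
      rw [← AA_natAbs (n := 1) (show 1 ≤ u by omega), ← AA_natAbs (n := k) (show 1 ≤ u by omega),
        ← AA_natAbs (n := m - k) (show 1 ≤ u by omega)]
      (clear * -; omega)
    have h3 := Nat.mul_le_mul_left H h2
    omega

theorem ND.P1f (h : ND false e m k u q p H M N d a b c) 
    (hz : d < H * ((AA e k u - AA e (m - 1 - k) u) + (AA e (m - 1 - k) u - AA e k u))) :
    Nat.lcm (AA e k u) (AA e (m - 1 - k) u) ≤
      (q + 1) * (H * (AA e k u + AA e (m - 1 - k) u) + 1 * d * (q + 1)) := by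
  have hu := h.u2
  have hk := h.k3
  have hkm := h.km
  have hE : 1 * (xv e u ^ (m - 1) - 1) = (xv e u ^ k - 1) * (xv e u ^ (m - 1 - k) - 1) +
      ((xv e u ^ k - 1) + (xv e u ^ (m - 1 - k) - 1)) := by
    have h1 : xv e u ^ (m - 1) = xv e u ^ k * xv e u ^ (m - 1 - k) := by
      rw [← pow_add]; congr 1; omega
    linear_combination h1
  have hK : ((xv e u ^ k - 1) * (xv e u ^ (m - 1 - k) - 1)).natAbs = AA e k u * AA e (m - 1 - k) u := by
    rw [Int.natAbs_mul, AA_natAbs (by omega), AA_natAbs (by omega)]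
  have hn3 := h.n3 (m - 1 - k) (by omega) (by omega)
  have h0 := h.core (T := Nat.lcm (AA e k u) (AA e (m - 1 - k) u)) (by rw [AA_natAbs (by omega)]; rfl) hE
    (by rw [hK]; exact Nat.lcm_dvd_mul _ _)
    (Nat.lcm_dvd (h.n1.trans (Dvd.intro_left _ rfl)) hn3)
    (by intro h1; exact h.p_prime.one_lt.ne' (Nat.dvd_one.1 h1)) (by
      rw [hK]; intro h1
      rcases h.p_prime.dvd_mul.1 h1 with h2 | h2
      · exact h.pN (h2.trans h.n1)
      · exact h.pdN (h2.trans hn3))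
  rcases h0 with h0 | ⟨h0, -⟩
  · refine h0.trans (Nat.mul_le_mul_left _ (Nat.add_le_add (Nat.mul_le_mul_left _ ?_) ?_))
    · refine (Int.natAbs_add_le _ _).trans ?_
      rw [AA_natAbs (by omega), AA_natAbs (by omega)]
    · rw [Int.natAbs_one]
  · exfalso
    rw [Int.natAbs_one, one_mul] at h0
    have h2 : (AA e k u - AA e (m - 1 - k) u) + (AA e (m - 1 - k) u - AA e k u) ≤
        ((xv e u ^ k - 1) + (xv e u ^ (m - 1 - k) - 1)).natAbs := by
      rw [← AA_natAbs (n := k) (show 1 ≤ u by omega), ← AA_natAbs (n := m - 1 - k) (show 1 ≤ u by omega)]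
      (clear * -; omega)
    have h3 := Nat.mul_le_mul_left H h2
    omega

/-- the data of the relations: `T`, `ρ`, `μ`, `λ` -/
def rT (s e : Bool) (m k u : ℕ) : ℕ → ℕ
  | 0 => if s then YY e k u else AA e k u
  | 1 => YY e (m - k) u
  | 2 => Nat.lcm (AA e k u) (YY e (m - k) u)
  | _ => Nat.lcm (AA e k u) (AA e (m - 1 - k) u)

def rR (s e : Bool) (m k u : ℕ) : ℕ → ℕ
  | 0 => if s then YY e (m - k) u else AA e (m - 1 - k) u
  | 1 => if s then YY e k u else AA e (k - 1) u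
  | 2 => if s then YY e k u + YY e (m - k) u else AA e k u + AA e (m - k) u + AA e 1 u
  | _ => AA e k u + AA e (m - 1 - k) u

def rMu (s : Bool) (u : ℕ) : ℕ → ℕ
  | 2 => if s then 1 else u
  | _ => 1

/-- the zero case is excluded -/
def rZ (s e : Bool) (m k u d H : ℕ) : ℕ → Bool
  | 0 => s || !(e && decide (u = 2) && decide (k + 2 = m))
  | 1 => true
  | 2 => if s then decide (d < H * ((YY e k u - YY e (m - k) u) + (YY e (m - k) u - YY e k u)))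
    else decide (u * d < H * (((AA e k u - AA e (m - k) u) + (AA e (m - k) u - AA e k u)) - AA e 1 u))
  | 3 => !s && decide (d < H * ((AA e k u - AA e (m - 1 - k) u) + (AA e (m - 1 - k) u - AA e k u)))
  | _ => false

theorem ND.bd (h : ND s e m k u q p H M N d a b c) (j : ℕ) (hz : rZ s e m k u d H j = true) :
    rT s e m k u j ≤ (q + 1) * (H * rR s e m k u j + rMu s u j * d * (q + 1)) := by
  match j, hz with
  | 0, hz =>
    cases s with
    | true => exact h.R1t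
    | false =>
      refine h.R1f ?_
      rintro ⟨h1, h2, h3⟩
      simp [rZ, h1, h2, h3] at hz
  | 1, _ =>
    cases s with
    | true => exact h.R2t
    | false => exact h.R2f
  | 2, hz =>
    cases s with
    | true => exact h.P0t (by simpa only [rZ, ↓ _root_.reduceIte, _root_.decide_eq_true_eq] using hz)
    | false => exact h.P0f (by simpa only [rZ, _root_.Bool.false_eq_true, ↓ _root_.reduceIte, _root_.decide_eq_true_eq] using hz)
  | 3, hz =>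
    cases s with
    | true => simp only [rZ, _root_.Bool.not_true, _root_.Bool.false_and, _root_.Bool.false_eq_true] at hz
    | false => exact h.P1f (by simpa only [rZ, _root_.Bool.not_false, _root_.Bool.true_and, _root_.decide_eq_true_eq] using hz)
  | n + 4, hz => simp [rZ] at hz

end Cfsg.Agent.R2.Spec.NA

private theorem dce_74ff3a9801ac : _root_.True := by
  try have : _root_.True := by simp only [_root_.Cfsg.Agent.R2.Spec.NA.rZ.eq_4]
  try have : _root_.True := by simp only [_root_.Cfsg.Agent.R2.Spec.NA.rZ.eq_5]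
  try have : _root_.True := by simp only [_root_.Cfsg.Agent.R2.Spec.NA.rZ.eq_3]
  try have : _root_.True := by simp only [_root_.Cfsg.Agent.R2.Spec.NA.rZ.eq_1]
  try have : _root_.True := by simp only [_root_.Cfsg.Agent.R2.Spec.NA.rZ.eq_2]
  exact _root_.True.intro
end

-- part: R2/Spec/NA/Crude
section
prune_inst 0x4000010000000000000000000200002000000000200408001414002000a40004000000000000001120040a08000000000000000100000000000000000000000000000c600d2fd0d08a00000002000400000000000000000000000000000000000000000000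
set_option linter.all false
open scoped Cfsg.Agent.FastGrp

/-!
# S3435, packet NON-A (helper3): the crude inequality

`crude s m k u H j` : a sufficient condition, in terms of powers of `u`, for the relation `j` to give a contradiction.
-/

set_option autoImplicit false

namespace Cfsg.Agent.R2.Spec.NA

open Cfsg.Agent.H403.NumTop

/-- `u^τ ≤ 2^α T` -/
def tau (s : Bool) (m k : ℕ) : ℕ → ℕ
  | 0 => if s then k - 1 else k
  | 1 => m - k - 1
  | 2 => m - 1 - Nat.gcd k (m - k)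
  | _ => m - 1 - Nat.gcd k (m - 1 - k)

/-- `ρ ≤ 2^β u^r` -/
def rr (s : Bool) (m k : ℕ) : ℕ → ℕ
  | 0 => m - k - 1
  | 1 => k - 1
  | 2 => if s then max k (m - k) - 1 else max k (m - k)
  | _ => max k (m - 1 - k)

/-- `μ = u^ν` -/
def nu (s : Bool) : ℕ → ℕ
  | 2 => if s then 0 else 1
  | _ => 0

def K1 : ℕ → ℕ
  | 0 => 960 * 2 ^ 21
  | 1 => 960 * 2 ^ 21
  | _ => 960 * 2 ^ 42

def K2 : ℕ → ℕ
  | 0 => 480 ^ 2 * 4 * 2 ^ 19
  | 1 => 480 ^ 2 * 4 * 2 ^ 19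
  | _ => 480 ^ 2 * 4 * 2 ^ 33

/-- the zero case is excluded -/
def zc (s : Bool) (m k u : ℕ) : ℕ → Bool
  | 0 => true
  | 1 => true
  | 2 => decide (k ≠ m - k) && decide ((u + 1) ^ 2 + 2 < u ^ min k (m - k) * (u - 1))
  | 3 => !s && (decide (k ≠ m - 1 - k) && decide ((u + 1) ^ 2 + 2 < u ^ min k (m - 1 - k) * (u - 1)))
  | _ => false

/-- the sufficient condition in terms of powers of `u` -/
def crude (s : Bool) (m k u H j : ℕ) : Bool :=
  (decide (7 * rr s m k j + (m - 1) ≤ 7 * tau s m k j) &&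
      decide (K1 j * H ^ 8 < u ^ (7 * tau s m k j - (7 * rr s m k j + (m - 1))))) &&
    ((decide (7 * nu s j + 5 + 2 * (m - 1) ≤ 7 * tau s m k j) &&
      decide (K2 j * H ^ 2 < u ^ (7 * tau s m k j - (7 * nu s j + 5 + 2 * (m - 1))))) && zc s m k u j)

theorem crude_chk {A B T ρ μ d H Z u τ r ν n : ℕ} (hT : u ^ τ ≤ A * T) (hρ : ρ ≤ B * u ^ r) (hμ : μ = u ^ ν)
    (hd0 : 0 < d) (hd : d ≤ 2 * u) (hZ : Z ≤ 2 * u ^ n) (hA : 0 < A)
    (h1 : 7 * r + n ≤ 7 * τ) (h2 : 960 * (A * B * 2) ^ 7 * H ^ 8 < u ^ (7 * τ - (7 * r + n)))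
    (h3 : 7 * ν + 5 + 2 * n ≤ 7 * τ) (h4 : 480 ^ 2 * 4 * (32 * (A * 2) ^ 7) * H ^ 2 < u ^ (7 * τ - (7 * ν + 5 + 2 * n))) :
    chk 2 T ρ μ d H Z = true := by
  have hT7 : u ^ (7 * τ) ≤ A ^ 7 * T ^ 7 := by
    calc u ^ (7 * τ) = (u ^ τ) ^ 7 := by rw [← pow_mul]; congr 1; ring
      _ ≤ (A * T) ^ 7 := Nat.pow_le_pow_left hT 7
      _ = _ := by ring
  have hA7 : 0 < A ^ 7 := Nat.pow_pos hA
  have hu : 0 < u := by omega
  rw [chk, Bool.and_eq_true, decide_eq_true_eq, decide_eq_true_eq]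
  constructor
  · refine lt_of_mul_lt_mul_left ?_ (Nat.zero_le (A ^ 7))
    calc A ^ 7 * ((2 * (H * ρ)) ^ 7 * (480 * (H * Z)))
        ≤ A ^ 7 * ((2 * (H * (B * u ^ r))) ^ 7 * (480 * (H * (2 * u ^ n)))) := by gcongr
      _ = 960 * (A * B * 2) ^ 7 * H ^ 8 * u ^ (7 * r + n) := by ring
      _ < u ^ (7 * τ - (7 * r + n)) * u ^ (7 * r + n) := Nat.mul_lt_mul_of_pos_right h2 (Nat.pow_pos hu)
      _ = u ^ (7 * τ) := by rw [← pow_add]; congr 1; omega
      _ ≤ A ^ 7 * T ^ 7 := hT7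
      _ ≤ A ^ 7 * (((2 - 1) * T) ^ 7 * d) := by
        have : 1 ≤ d := hd0
        rw [show 2 - 1 = 1 from rfl, one_mul]
        nlinarith only [hd0, Nat.zero_le (A ^ 7 * T ^ 7)]
  · refine lt_of_mul_lt_mul_left ?_ (Nat.zero_le (A ^ 7))
    calc A ^ 7 * ((2 * (μ * d)) ^ 7 * (480 ^ 2 * (H * Z) ^ 2))
        = A ^ 7 * (2 ^ 7 * μ ^ 7 * d ^ 5 * (480 ^ 2 * (H * Z) ^ 2)) * d ^ 2 := by ring
      _ ≤ A ^ 7 * (2 ^ 7 * μ ^ 7 * (2 * u) ^ 5 * (480 ^ 2 * (H * (2 * u ^ n)) ^ 2)) * d ^ 2 := by gcongr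
      _ = 480 ^ 2 * 4 * (32 * (A * 2) ^ 7) * H ^ 2 * u ^ (7 * ν + 5 + 2 * n) * d ^ 2 := by rw [hμ]; ring
      _ < u ^ (7 * τ - (7 * ν + 5 + 2 * n)) * u ^ (7 * ν + 5 + 2 * n) * d ^ 2 :=
        Nat.mul_lt_mul_of_pos_right (Nat.mul_lt_mul_of_pos_right h4 (Nat.pow_pos hu)) (Nat.pow_pos hd0)
      _ = u ^ (7 * τ) * d ^ 2 := by rw [← pow_add]; congr 2; (clear * - h3; omega)
      _ ≤ A ^ 7 * T ^ 7 * d ^ 2 := Nat.mul_le_mul_right _ hT7
      _ = _ := by ring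

theorem absdiff_lo {e : Bool} {a b u : ℕ} (hu : 2 ≤ u) (ha : 1 ≤ a) (hb : 1 ≤ b) (hab : a ≠ b) :
    u ^ min a b * (u - 1) ≤ (AA e a u - AA e b u) + (AA e b u - AA e a u) + 2 := by
  wlog h : a < b generalizing a b with H
  · have := H hb ha hab.symm (by omega)
    rw [min_comm]; omega
  · rw [min_eq_left h.le]
    have h1 := AA_le (e := e) (n := a) (u := u)
    have h2 := le_AA (e := e) (n := b) (u := u)
    have h3 : u ^ a * u ≤ u ^ b := by rw [← pow_succ]; exact Nat.pow_le_pow_right (by omega) (by omega)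
    obtain ⟨r, rfl⟩ : ∃ r, u = r + 1 := ⟨u - 1, by omega⟩
    have h4 : (r + 1) ^ a * (r + 1 - 1) + (r + 1) ^ a = (r + 1) ^ a * (r + 1) := by
      rw [Nat.add_sub_cancel]; ring
    omega

theorem dist_YY {e : Bool} {a b u : ℕ} (hu : 2 ≤ u) :
    ((YY e a u - YY e b u) + (YY e b u - YY e a u)) * AA e 1 u = (AA e a u - AA e b u) + (AA e b u - AA e a u) := by
  rw [Nat.add_mul, Nat.sub_mul, Nat.sub_mul, YY_mul hu, YY_mul hu]

theorem AA1_le {e : Bool} {u : ℕ} : AA e 1 u ≤ u + 1 := by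
  have := AA_le (e := e) (n := 1) (u := u); rwa [pow_one] at this

theorem zc_rZ {s e : Bool} {m k u d H j : ℕ} (hu : 2 ≤ u) (hk : 3 ≤ k) (hkm : k + 2 ≤ m) (hd : d ≤ u + 1) (hH : 1 ≤ H)
    (hex : ¬ (s = false ∧ e = true ∧ u = 2 ∧ k + 2 = m)) (h : zc s m k u j = true) : rZ s e m k u d H j = true := by
  match j, h with
  | 0, _ =>
    cases s with
    | true => rfl
    | false =>
      simp only [rZ, Bool.false_or, Bool.not_eq_true', Bool.and_eq_false_iff, decide_eq_false_iff_not]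
      by_contra hcon
      push Not at hcon
      obtain ⟨⟨h1, h2⟩, h3⟩ := hcon
      exact hex ⟨rfl, by simpa using h1, h2, h3⟩
  | 1, _ => rfl
  | 2, h =>
    rw [zc, Bool.and_eq_true, decide_eq_true_eq, decide_eq_true_eq] at h
    obtain ⟨h1, h2⟩ := h
    have h3 := absdiff_lo (e := e) hu (show 1 ≤ k by omega) (show 1 ≤ m - k by omega) h1
    cases s with
    | true =>
      simp only [rZ, if_true, decide_eq_true_eq]
      have h4 := dist_YY (e := e) (a := k) (b := m - k) hu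
      obtain ⟨D, hD⟩ : ∃ D, D = (YY e k u - YY e (m - k) u) + (YY e (m - k) u - YY e k u) := ⟨_, rfl⟩
      rw [← hD] at h4 ⊢
      have h5 : u + 1 < D := by
        by_contra hcon
        have h6 := Nat.mul_le_mul (not_lt.1 hcon) (AA1_le (e := e) (u := u))
        rw [← pow_two] at h6
        omega
      calc d ≤ u + 1 := hd
        _ < D := h5
        _ ≤ H * D := Nat.le_mul_of_pos_left _ hH
    | false =>
      simp only [rZ, Bool.false_eq_true, if_false, decide_eq_true_eq]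
      obtain ⟨D, hD⟩ : ∃ D, D = (AA e k u - AA e (m - k) u) + (AA e (m - k) u - AA e k u) := ⟨_, rfl⟩
      rw [← hD] at h3 ⊢
      have h4 := AA1_le (e := e) (u := u)
      have h5 : u * (u + 1) < D - AA e 1 u := by
        have : u * (u + 1) + (u + 1) = (u + 1) ^ 2 := by ring
        omega
      calc u * d ≤ u * (u + 1) := Nat.mul_le_mul_left _ hd
        _ < D - AA e 1 u := h5
        _ ≤ H * (D - AA e 1 u) := Nat.le_mul_of_pos_left _ hH
  | 3, h =>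
    rw [zc, Bool.and_eq_true, Bool.and_eq_true, decide_eq_true_eq, decide_eq_true_eq] at h
    obtain ⟨h0, h1, h2⟩ := h
    have hk1 : m - 1 - k ≥ 1 := by omega
    have h3 := absdiff_lo (e := e) hu (show 1 ≤ k by omega) hk1 h1
    rw [rZ, Bool.and_eq_true, decide_eq_true_eq]
    refine ⟨h0, ?_⟩
    obtain ⟨D, hD⟩ : ∃ D, D = (AA e k u - AA e (m - 1 - k) u) + (AA e (m - 1 - k) u - AA e k u) := ⟨_, rfl⟩
    rw [← hD] at h3 ⊢
    have h5 : u + 1 < D := by nlinarith only [h2, h3]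
    calc d ≤ u + 1 := hd
      _ < D := h5
      _ ≤ H * D := Nat.le_mul_of_pos_left _ hH
  | n + 4, h => simp [zc] at h

theorem ZZ_hi {s e : Bool} {m u : ℕ} (hu : 2 ≤ u) (hm : 1 ≤ m) : ZZ s e m u ≤ 2 * u ^ (m - 1) := by
  unfold ZZ
  split_ifs
  · exact YY_hi hu hm
  · exact AA_hi hu

theorem rT_lo {s e : Bool} {m k u : ℕ} (hu : 2 ≤ u) (hk : 3 ≤ k) (hkm : k + 2 ≤ m) (j : ℕ) :
    u ^ tau s m k j ≤ (if j < 2 then 2 else 8) * rT s e m k u j := by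
  match j with
  | 0 =>
    cases s with
    | true => exact YY_lo (n := k) hu (by omega)
    | false => exact AA_lo (n := k) hu (by omega)
  | 1 => exact YY_lo (n := m - k) hu (by omega)
  | 2 =>
    have h1 := lcm_lo (e := e) (k := k) (n := m - k) (X := YY e (m - k) u) hu (by omega) (YY_dvd hu)
    have h2 := AA_lo (e := e) (n := k) hu (by omega)
    have h3 := YY_lo (e := e) (n := m - k) hu (by omega)
    have h4 := AA_hi (e := e) (n := Nat.gcd k (m - k)) hu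
    have hg : Nat.gcd k (m - k) ≤ m - k := Nat.gcd_le_right _ (by omega)
    have hg' : 0 < u ^ Nat.gcd k (m - k) := Nat.pow_pos (by omega)
    change u ^ (m - 1 - Nat.gcd k (m - k)) ≤ 8 * Nat.lcm (AA e k u) (YY e (m - k) u)
    refine Nat.le_of_mul_le_mul_right ?_ hg'
    calc u ^ (m - 1 - Nat.gcd k (m - k)) * u ^ Nat.gcd k (m - k) = u ^ k * u ^ (m - k - 1) := by
          rw [← pow_add, ← pow_add]; congr 1; omega
      _ ≤ (2 * AA e k u) * (2 * YY e (m - k) u) := Nat.mul_le_mul h2 h3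
      _ = 4 * (AA e k u * YY e (m - k) u) := by ring
      _ ≤ 4 * (Nat.lcm (AA e k u) (YY e (m - k) u) * AA e (Nat.gcd k (m - k)) u) := Nat.mul_le_mul_left _ h1
      _ ≤ 4 * (Nat.lcm (AA e k u) (YY e (m - k) u) * (2 * u ^ Nat.gcd k (m - k))) :=
        Nat.mul_le_mul_left _ (Nat.mul_le_mul_left _ h4)
      _ = _ := by ring
  | n + 3 =>
    have h1 := lcm_lo (e := e) (k := k) (n := m - 1 - k) (X := AA e (m - 1 - k) u) hu (by omega) dvd_rfl
    have h2 := AA_lo (e := e) (n := k) hu (by omega)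
    have hk1 : 1 ≤ m - 1 - k := by omega
    have h3 := AA_lo (e := e) (n := m - 1 - k) hu hk1
    have h4 := AA_hi (e := e) (n := Nat.gcd k (m - 1 - k)) hu
    have hg : Nat.gcd k (m - 1 - k) ≤ m - 1 - k := Nat.gcd_le_right _ (by omega)
    have hg' : 0 < u ^ Nat.gcd k (m - 1 - k) := Nat.pow_pos (by omega)
    change u ^ (m - 1 - Nat.gcd k (m - 1 - k)) ≤ (if n + 3 < 2 then 2 else 8) * Nat.lcm (AA e k u) (AA e (m - 1 - k) u)
    rw [if_neg (by omega)]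
    refine Nat.le_of_mul_le_mul_right ?_ hg'
    calc u ^ (m - 1 - Nat.gcd k (m - 1 - k)) * u ^ Nat.gcd k (m - 1 - k) = u ^ k * u ^ (m - 1 - k) := by
          rw [← pow_add, ← pow_add]; congr 1; omega
      _ ≤ (2 * AA e k u) * (2 * AA e (m - 1 - k) u) := Nat.mul_le_mul h2 h3
      _ = 4 * (AA e k u * AA e (m - 1 - k) u) := by ring
      _ ≤ 4 * (Nat.lcm (AA e k u) (AA e (m - 1 - k) u) * AA e (Nat.gcd k (m - 1 - k)) u) := Nat.mul_le_mul_left _ h1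
      _ ≤ 4 * (Nat.lcm (AA e k u) (AA e (m - 1 - k) u) * (2 * u ^ Nat.gcd k (m - 1 - k))) :=
        Nat.mul_le_mul_left _ (Nat.mul_le_mul_left _ h4)
      _ = _ := by ring

theorem rR_hi {s e : Bool} {m k u : ℕ} (hu : 2 ≤ u) (hk : 3 ≤ k) (hkm : k + 2 ≤ m) (j : ℕ) :
    rR s e m k u j ≤ (if j < 2 then 2 else 4) * u ^ rr s m k j := by
  match j with
  | 0 =>
    cases s with
    | true => exact YY_hi hu (by omega)
    | false =>
      have h1 := AA_hi (e := e) (n := m - 1 - k) hu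
      change AA e (m - 1 - k) u ≤ 2 * u ^ (m - k - 1)
      rwa [show m - k - 1 = m - 1 - k by omega]
  | 1 =>
    cases s with
    | true => exact YY_hi hu (by omega)
    | false => exact AA_hi hu
  | 2 =>
    cases s with
    | true =>
      change YY e k u + YY e (m - k) u ≤ 4 * u ^ (max k (m - k) - 1)
      have h1 := YY_hi (e := e) (n := k) hu (by omega)
      have h2 := YY_hi (e := e) (n := m - k) hu (by omega)
      have h3 : u ^ (k - 1) ≤ u ^ (max k (m - k) - 1) :=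
        Nat.pow_le_pow_right (by omega) (Nat.sub_le_sub_right (le_max_left _ _) _)
      have h4 : u ^ (m - k - 1) ≤ u ^ (max k (m - k) - 1) :=
        Nat.pow_le_pow_right (by omega) (Nat.sub_le_sub_right (le_max_right _ _) _)
      omega
    | false =>
      change AA e k u + AA e (m - k) u + AA e 1 u ≤ 4 * u ^ (max k (m - k))
      have h1 := AA_le (e := e) (n := k) (u := u)
      have h2 := AA_le (e := e) (n := m - k) (u := u)
      have h5 := AA1_le (e := e) (u := u)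
      have h3 : u ^ k ≤ u ^ (max k (m - k)) := Nat.pow_le_pow_right (by omega) (le_max_left _ _)
      have h4 : u ^ (m - k) ≤ u ^ (max k (m - k)) := Nat.pow_le_pow_right (by omega) (le_max_right _ _)
      have h6 : u ^ 3 ≤ u ^ k := Nat.pow_le_pow_right (by omega) hk
      have h7 : u + 3 ≤ 2 * u ^ 3 := by
        have h8 : 4 * u ≤ u ^ 3 := by nlinarith only [hu, _root_.mul_self_nonneg (↑u : ℤ), _root_.Nat.cast_nonneg (α := ℤ) (u)]
        omega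
      omega
  | n + 3 =>
    change AA e k u + AA e (m - 1 - k) u ≤ (if n + 3 < 2 then 2 else 4) * u ^ (max k (m - 1 - k))
    rw [if_neg (by omega)]
    have h1 := AA_hi (e := e) (n := k) hu
    have h2 := AA_hi (e := e) (n := m - 1 - k) hu
    have h3 : u ^ k ≤ u ^ (max k (m - 1 - k)) := Nat.pow_le_pow_right (by omega) (le_max_left _ _)
    have h4 : u ^ (m - 1 - k) ≤ u ^ (max k (m - 1 - k)) := Nat.pow_le_pow_right (by omega) (le_max_right _ _)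
    omega

theorem rMu_eq {s : Bool} {u : ℕ} (j : ℕ) : rMu s u j = u ^ nu s j := by
  match j with
  | 0 => rfl
  | 1 => rfl
  | 2 => cases s <;> simp [rMu, nu]
  | n + 3 => rfl

/-- the crude condition implies the condition of `semi_false` -/
theorem chk_of_crude {s e : Bool} {m k u d H j : ℕ} (hu : 2 ≤ u) (hk : 3 ≤ k) (hkm : k + 2 ≤ m) (hd0 : 0 < d)
    (hd : d ≤ u + 1) (h : crude s m k u H j = true) :
    chk 2 (rT s e m k u j) (rR s e m k u j) (rMu s u j) d H (ZZ s e m u) = true := by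
  rw [crude] at h
  simp only [Bool.and_eq_true, decide_eq_true_eq] at h
  obtain ⟨⟨h1, h2⟩, ⟨h3, h4⟩, -⟩ := h
  refine crude_chk (A := if j < 2 then 2 else 8) (B := if j < 2 then 2 else 4) (rT_lo hu hk hkm j)
    (rR_hi hu hk hkm j) (rMu_eq j) hd0 (by omega) (ZZ_hi hu (by omega)) (by split_ifs <;> norm_num) h1 ?_ h3 ?_
  · refine lt_of_eq_of_lt ?_ h2
    match j with
    | 0 => simp [K1]
    | 1 => simp [K1]
    | n + 2 => simp [K1]
  · refine lt_of_eq_of_lt ?_ h4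
    match j with
    | 0 => simp [K2]
    | 1 => simp [K2]
    | n + 2 => simp [K2]

/-- the crude condition gives a contradiction -/
theorem ND.of_crude {s e : Bool} {m k u q p H M N d : ℕ} {a b c : ℤ} (h : ND s e m k u q p H M N d a b c)
    (hs : q ^ 7 ≤ 64 * M) (hH : 1 ≤ H) (hex : ¬ (s = false ∧ e = true ∧ u = 2 ∧ k + 2 = m)) {j : ℕ}
    (hc : crude s m k u H j = true) : False := by
  have hz : zc s m k u j = true := by
    rw [crude] at hc
    simp only [Bool.and_eq_true] at hc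
    exact hc.2.2
  exact semi_false (by norm_num) h.q3 h.eqM hs (h.bd j (zc_rZ h.u2 h.k3 h.km h.d_le' hH hex hz))
    (chk_of_crude h.u2 h.k3 h.km h.d_pos h.d_le' hc)

end Cfsg.Agent.R2.Spec.NA

private theorem dce_52835b1aca6e : _root_.True := by
  try have : _root_.True := by simp only [_root_.Cfsg.Agent.R2.Spec.NA.K1.eq_3]
  try have : _root_.True := by simp only [_root_.Cfsg.Agent.R2.Spec.NA.K2.eq_3]
  try have : _root_.True := by simp only [_root_.Cfsg.Agent.R2.Spec.NA.zc.eq_4]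
  try have : _root_.True := by simp only [_root_.Cfsg.Agent.R2.Spec.NA.rMu.eq_1]
  try have : _root_.True := by simp only [_root_.Cfsg.Agent.R2.Spec.NA.K2.eq_2]
  try have : _root_.True := by simp only [_root_.Cfsg.Agent.R2.Spec.NA.nu.eq_2]
  try have : _root_.True := by simp only [_root_.Cfsg.Agent.R2.Spec.NA.K2.eq_1]
  try have : _root_.True := by simp only [_root_.Cfsg.Agent.R2.Spec.NA.zc.eq_2]
  try have : _root_.True := by simp only [_root_.Cfsg.Agent.R2.Spec.NA.K1.eq_2]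
  try have : _root_.True := by simp only [_root_.Cfsg.Agent.R2.Spec.NA.K1.eq_1]
  try have : _root_.True := by simp only [_root_.Cfsg.Agent.R2.Spec.NA.rMu.eq_2]
  try have : _root_.True := by simp only [_root_.Cfsg.Agent.R2.Spec.NA.crude.eq_1]
  try have : _root_.True := by simp only [_root_.Cfsg.Agent.R2.Spec.NA.zc.eq_1]
  try have : _root_.True := by simp only [_root_.Cfsg.Agent.R2.Spec.NA.zc.eq_5]
  try have : _root_.True := by simp only [_root_.Cfsg.Agent.R2.Spec.NA.nu.eq_1]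
  try have : _root_.True := by simp only [_root_.Cfsg.Agent.R2.Spec.NA.zc.eq_3]
  exact _root_.True.intro
end

-- part: R2/Spec/NA/Lvl
section
prune_inst 0x4000010000000000000000000200002000000000000008001410002000a00004000000800000001000060a08000400008110000100200000000000000000000000002c60052f50d08a00000002000400000000000000000000000000000000000000000000
set_option linter.all false
open scoped Cfsg.Agent.FastGrp

/-!
# S3435, packet NON-A (helper3): the levels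

* `lvl s m k j a1 a2 mn` : a condition on exponents;
* `strong` (all `u`), `farj` (large `u`);
* `strong_of_large` : `m ≥ 120`;
* `far_or` : `u = w^H` is large or in the list `LL`.
-/

set_option autoImplicit false

namespace Cfsg.Agent.R2.Spec.NA

open Cfsg.Agent.H403.NumTop

def zcc (s : Bool) (m k mn : ℕ) : ℕ → Bool
  | 0 => true
  | 1 => true
  | 2 => decide (k ≠ m - k) && decide (mn ≤ min k (m - k))
  | 3 => !s && (decide (k ≠ m - 1 - k) && decide (mn ≤ min k (m - 1 - k)))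
  | _ => false

def lvl (s : Bool) (m k j a1 a2 mn : ℕ) : Bool :=
  decide (7 * rr s m k j + (m - 1) + a1 ≤ 7 * tau s m k j) &&
    (decide (7 * nu s j + 5 + 2 * (m - 1) + a2 ≤ 7 * tau s m k j) && zcc s m k mn j)

theorem lvl_crude {s : Bool} {m k j a1 a2 mn u H : ℕ} (hu : 2 ≤ u) (h : lvl s m k j a1 a2 mn = true)
    (h1 : K1 j * H ^ 8 < u ^ a1) (h2 : K2 j * H ^ 2 < u ^ a2) (h3 : (u + 1) ^ 2 + 2 < u ^ mn * (u - 1)) :
    crude s m k u H j = true := by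
  rw [lvl] at h
  simp only [Bool.and_eq_true, decide_eq_true_eq] at h
  obtain ⟨c1, c2, c3⟩ := h
  rw [crude]
  simp only [Bool.and_eq_true, decide_eq_true_eq]
  refine ⟨⟨by omega, h1.trans_le (Nat.pow_le_pow_right (by omega) (by omega))⟩,
    ⟨by omega, h2.trans_le (Nat.pow_le_pow_right (by omega) (by omega))⟩, ?_⟩
  match j, c3 with
  | 0, _ => rfl
  | 1, _ => rfl
  | 2, c3 =>
    simp only [zcc, zc, Bool.and_eq_true, decide_eq_true_eq] at c3 ⊢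
    exact ⟨c3.1, h3.trans_le (Nat.mul_le_mul_right _ (Nat.pow_le_pow_right (by omega) c3.2))⟩
  | 3, c3 =>
    simp only [zcc, zc, Bool.and_eq_true, decide_eq_true_eq] at c3 ⊢
    exact ⟨c3.1, c3.2.1, h3.trans_le (Nat.mul_le_mul_right _ (Nat.pow_le_pow_right (by omega) c3.2.2))⟩
  | n + 4, c3 => simp [zcc] at c3

/-- all `u` -/
def strong (s : Bool) (m k : ℕ) : ℕ → Bool
  | 0 => lvl s m k 0 36 41 6
  | 1 => lvl s m k 1 36 41 6
  | 2 => lvl s m k 2 57 55 6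
  | 3 => lvl s m k 3 57 55 6
  | _ => false

/-- large `u` -/
def farj (s : Bool) (m k : ℕ) : ℕ → Bool
  | 0 => lvl s m k 0 5 6 2
  | 1 => lvl s m k 1 5 6 2
  | 2 => lvl s m k 2 7 8 2
  | 3 => lvl s m k 3 7 8 2
  | _ => false

theorem H8 {u H : ℕ} (h : 2 ^ H ≤ u) : H ^ 8 ≤ u ^ 5 := by
  refine le_trans ?_ (Nat.pow_le_pow_left h 5)
  rcases Nat.lt_or_ge H 8 with h1 | h1
  · interval_cases H <;> norm_num
  · induction H, h1 using Nat.le_induction with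
    | base => norm_num
    | succ n hn ih =>
      have ih' := ih (le_trans (Nat.pow_le_pow_right (by norm_num) (by omega)) h)
      have h2 : 8 * (n + 1) ≤ 9 * n := by omega
      have h3 := Nat.pow_le_pow_left h2 8
      rw [mul_pow, mul_pow] at h3
      have h4 : (2 ^ (n + 1)) ^ 5 = 32 * (2 ^ n) ^ 5 := by rw [pow_succ 2 n, mul_pow]; ring
      rw [h4]
      have h5 : (8 : ℕ) ^ 8 * (n + 1) ^ 8 ≤ 8 ^ 8 * (32 * (2 ^ n) ^ 5) := by
        calc (8 : ℕ) ^ 8 * (n + 1) ^ 8 ≤ 9 ^ 8 * n ^ 8 := h3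
          _ ≤ 9 ^ 8 * (2 ^ n) ^ 5 := Nat.mul_le_mul_left _ ih'
          _ ≤ (8 ^ 8 * 32) * (2 ^ n) ^ 5 := Nat.mul_le_mul_right _ (by norm_num)
          _ = _ := by ring
      exact Nat.le_of_mul_le_mul_left h5 (by norm_num)

theorem strong_crude {s : Bool} {m k j u H : ℕ} (hu : 2 ≤ u) (hH : 2 ^ H ≤ u) (h : strong s m k j = true) :
    crude s m k u H j = true := by
  have h8 := H8 hH
  have h2 : H ^ 2 ≤ u ^ 2 := Nat.pow_le_pow_left (Nat.lt_two_pow_self.le.trans hH) 2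
  have hz : (u + 1) ^ 2 + 2 < u ^ 6 * (u - 1) := by
    have h3 : 2 ^ 4 ≤ u ^ 4 := Nat.pow_le_pow_left hu 4
    have h4 : u ^ 6 = u ^ 4 * u ^ 2 := by rw [← pow_add]
    have h5 : u ^ 6 * 1 ≤ u ^ 6 * (u - 1) := Nat.mul_le_mul_left _ (by omega)
    have h6 : 16 * u ^ 2 ≤ u ^ 6 := by rw [h4]; exact Nat.mul_le_mul_right _ h3
    nlinarith
  have key : ∀ {K n a l : ℕ}, K < 2 ^ n → l ≤ u ^ a → K * l < u ^ (n + a) := by
    intro K n a l hK hl
    have hp : 0 < u ^ a := Nat.pow_pos (by omega)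
    calc K * l ≤ K * u ^ a := Nat.mul_le_mul_left _ hl
      _ < 2 ^ n * u ^ a := Nat.mul_lt_mul_of_pos_right hK hp
      _ ≤ u ^ n * u ^ a := Nat.mul_le_mul_right _ (Nat.pow_le_pow_left hu n)
      _ = _ := by rw [pow_add]
  match j, h with
  | 0, h => exact lvl_crude hu h (key (n := 31) (a := 5) (by norm_num [K1]) h8) (key (n := 39) (a := 2) (by norm_num [K2]) h2) hz
  | 1, h => exact lvl_crude hu h (key (n := 31) (a := 5) (by norm_num [K1]) h8) (key (n := 39) (a := 2) (by norm_num [K2]) h2) hz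
  | 2, h => exact lvl_crude hu h (key (n := 52) (a := 5) (by norm_num [K1]) h8) (key (n := 53) (a := 2) (by norm_num [K2]) h2) hz
  | 3, h => exact lvl_crude hu h (key (n := 52) (a := 5) (by norm_num [K1]) h8) (key (n := 53) (a := 2) (by norm_num [K2]) h2) hz
  | n + 4, h => simp [strong] at h

/-- large `u` -/
def Far (u H : ℕ) : Prop :=
  K1 0 * H ^ 8 < u ^ 5 ∧ K2 0 * H ^ 2 < u ^ 6 ∧ K1 2 * H ^ 8 < u ^ 7 ∧ K2 2 * H ^ 2 < u ^ 8

theorem Far.mono {u v H : ℕ} (h : Far u H) (huv : u ≤ v) : Far v H :=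
  ⟨h.1.trans_le (Nat.pow_le_pow_left huv _), h.2.1.trans_le (Nat.pow_le_pow_left huv _),
    h.2.2.1.trans_le (Nat.pow_le_pow_left huv _), h.2.2.2.trans_le (Nat.pow_le_pow_left huv _)⟩

theorem far_crude {s : Bool} {m k j u H : ℕ} (hu : 5 ≤ u) (hF : Far u H) (h : farj s m k j = true) :
    crude s m k u H j = true := by
  have hz : (u + 1) ^ 2 + 2 < u ^ 2 * (u - 1) := by
    have h5 : u ^ 2 * 4 ≤ u ^ 2 * (u - 1) := Nat.mul_le_mul_left _ (by omega)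
    nlinarith
  match j, h with
  | 0, h => exact lvl_crude (by omega) h hF.1 hF.2.1 hz
  | 1, h => exact lvl_crude (by omega) h hF.1 hF.2.1 hz
  | 2, h => exact lvl_crude (by omega) h hF.2.2.1 hF.2.2.2 hz
  | 3, h => exact lvl_crude (by omega) h hF.2.2.1 hF.2.2.2 hz
  | n + 4, h => simp [farj] at h

/-- the small `u`, with `H` -/
def LL : List (ℕ × ℕ) :=
  (List.range 171).map (fun i => (i + 2, 1)) ++
    [(32, 5), (243, 5), (1024, 5), (128, 7), (2048, 11)]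

theorem far_two {H : ℕ} (h : 13 ≤ H) : Far (2 ^ H) H := by
  induction H, h using Nat.le_induction with
  | base => unfold Far K1 K2; norm_num
  | succ n hn ih =>
    obtain ⟨h1, h2, h3, h4⟩ := ih
    have e0 : 13 * (n + 1) ≤ 14 * n := by omega
    have e8 : (n + 1) ^ 8 ≤ 2 * n ^ 8 := by
      have h5 := Nat.pow_le_pow_left e0 8
      rw [mul_pow, mul_pow] at h5
      omega
    have e2 : (n + 1) ^ 2 ≤ 2 * n ^ 2 := by
      have h5 := Nat.pow_le_pow_left e0 2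
      rw [mul_pow, mul_pow] at h5
      omega
    have hs : ∀ a : ℕ, (2 ^ (n + 1)) ^ a = 2 ^ a * (2 ^ n) ^ a := by
      intro a; rw [pow_succ, mul_pow, mul_comm]
    have key : ∀ {K x y a b : ℕ}, y ≤ 2 * x → 1 ≤ a → K * x < (2 ^ n) ^ a → K * y < (2 ^ (n + 1)) ^ a := by
      intro K x y a b hy ha hK
      have h2a : 2 ^ 1 ≤ 2 ^ a := Nat.pow_le_pow_right (by norm_num) ha
      calc K * y ≤ K * (2 * x) := Nat.mul_le_mul_left _ hy
        _ = 2 * (K * x) := by ring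
        _ < 2 * (2 ^ n) ^ a := Nat.mul_lt_mul_of_pos_left hK (by norm_num)
        _ ≤ 2 ^ a * (2 ^ n) ^ a := Nat.mul_le_mul_right _ (by simpa using h2a)
        _ = _ := (hs a).symm
    exact ⟨key (b := 0) e8 (by norm_num) h1, key (b := 0) e2 (by norm_num) h2, key (b := 0) e8 (by norm_num) h3,
      key (b := 0) e2 (by norm_num) h4⟩

theorem far_or {u w H : ℕ} (hH : H % 2 = 1) (hH3 : ¬ 3 ∣ H) (hw : 2 ≤ w) (hu : u = w ^ H) : Far u H ∨ (u, H) ∈ LL := by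
  have key : ∀ w0 : ℕ, Far (w0 ^ H) H → w0 ≤ w → Far u H := fun w0 h1 h2 => by
    rw [hu]; exact h1.mono (Nat.pow_le_pow_left h2 _)
  rcases Nat.lt_or_ge H 13 with h1 | h1
  · have h2 : H = 1 ∨ H = 5 ∨ H = 7 ∨ H = 11 := by omega
    rcases h2 with rfl | rfl | rfl | rfl
    · rcases Nat.lt_or_ge w 173 with h3 | h3
      · right
        rw [pow_one] at hu
        rw [hu]
        refine List.mem_append_left _ (List.mem_map.2 ⟨w - 2, List.mem_range.2 (by omega), ?_⟩)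
        rw [show w - 2 + 2 = w by omega]
      · exact Or.inl (key 173 (by unfold Far K1 K2; norm_num) h3)
    · rcases Nat.lt_or_ge w 5 with h3 | h3
      · right
        refine List.mem_append_right _ ?_
        rw [hu]; interval_cases w <;> simp
      · exact Or.inl (key 5 (by unfold Far K1 K2; norm_num) h3)
    · rcases Nat.lt_or_ge w 3 with h3 | h3
      · right
        refine List.mem_append_right _ ?_
        rw [hu]; interval_cases w; simp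
      · exact Or.inl (key 3 (by unfold Far K1 K2; norm_num) h3)
    · rcases Nat.lt_or_ge w 3 with h3 | h3
      · right
        refine List.mem_append_right _ ?_
        rw [hu]; interval_cases w; simp
      · exact Or.inl (key 3 (by unfold Far K1 K2; norm_num) h3)
  · exact Or.inl (key 2 (far_two h1) hw)

/-- `m ≥ 120` -/
theorem strong_of_large {s : Bool} {m k : ℕ} (hm : 120 ≤ m) (hk : 3 ≤ k) (hkm : k + 2 ≤ m) (hn : ¬ k ∣ ii s m) :
    ∃ j, strong s m k j = true := by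
  have hne : s = true → 2 * k ≠ m := by
    rintro rfl h
    exact hn (Dvd.intro_left 2 h)
  have hg : 2 * k ≠ m → Nat.gcd k (m - k) ≤ 2 * k - m + (m - 2 * k) := by
    intro h
    rcases Nat.lt_or_ge k (m - k) with h1 | h1
    · refine Nat.le_of_dvd (by omega) ?_
      have h2 := Nat.dvd_sub (Nat.gcd_dvd_right k (m - k)) (Nat.gcd_dvd_left k (m - k))
      rwa [show m - k - k = 2 * k - m + (m - 2 * k) by omega] at h2
    · refine Nat.le_of_dvd (by omega) ?_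
      have h2 := Nat.dvd_sub (Nat.gcd_dvd_left k (m - k)) (Nat.gcd_dvd_right k (m - k))
      rwa [show k - (m - k) = 2 * k - m + (m - 2 * k) by omega] at h2
  cases s with
  | true =>
    have h1 := hne rfl
    have h2 := hg h1
    by_cases c0 : 7 * (m - k - 1) + (m - 1) + 36 ≤ 7 * (k - 1)
    · refine ⟨0, ?_⟩
      simp only [strong, lvl, rr, tau, nu, zcc, if_true, Bool.and_true, Bool.and_eq_true, decide_eq_true_eq]
      omega
    by_cases c1 : 7 * (k - 1) + (m - 1) + 36 ≤ 7 * (m - k - 1)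
    · refine ⟨1, ?_⟩
      simp only [strong, lvl, rr, tau, nu, zcc, Bool.and_true, Bool.and_eq_true, decide_eq_true_eq]
      omega
    refine ⟨2, ?_⟩
    simp only [strong, lvl, rr, tau, nu, zcc, if_true, Bool.and_eq_true, decide_eq_true_eq]
    rcases Nat.lt_or_ge k (m - k) with h3 | h3
    · rw [max_eq_right h3.le, min_eq_left h3.le]
      omega
    · rw [max_eq_left h3, min_eq_right h3]
      omega
  | false =>
    by_cases c0 : 7 * (m - k - 1) + (m - 1) + 36 ≤ 7 * k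
    · refine ⟨0, ?_⟩
      simp only [strong, lvl, rr, tau, nu, zcc, Bool.false_eq_true, if_false, Bool.and_true, Bool.and_eq_true,
        decide_eq_true_eq]
      omega
    by_cases c1 : 7 * (k - 1) + (m - 1) + 36 ≤ 7 * (m - k - 1)
    · refine ⟨1, ?_⟩
      simp only [strong, lvl, rr, tau, nu, zcc, Bool.and_true, Bool.and_eq_true, decide_eq_true_eq]
      omega
    by_cases h1 : 2 * k = m
    · refine ⟨3, ?_⟩
      have h4 : Nat.gcd k (m - 1 - k) ≤ 1 := by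
        refine Nat.le_of_dvd one_pos ?_
        have h2 := Nat.dvd_sub (Nat.gcd_dvd_left k (m - 1 - k)) (Nat.gcd_dvd_right k (m - 1 - k))
        rwa [show k - (m - 1 - k) = 1 by omega] at h2
      simp only [strong, lvl, rr, tau, nu, zcc, Bool.not_false, Bool.true_and, Bool.and_eq_true, decide_eq_true_eq]
      rw [max_eq_left (by omega), min_eq_right (by omega)]
      omega
    · refine ⟨2, ?_⟩
      have h2 := hg h1
      simp only [strong, lvl, rr, tau, nu, zcc, Bool.false_eq_true, if_false, Bool.and_eq_true, decide_eq_true_eq]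
      rcases Nat.lt_or_ge k (m - k) with h3 | h3
      · rw [max_eq_right h3.le, min_eq_left h3.le]
        omega
      · rw [max_eq_left h3, min_eq_right h3]
        omega

end Cfsg.Agent.R2.Spec.NA

private theorem dce_73ab7d59221e : _root_.True := by
  try have : _root_.True := by simp only [_root_.Cfsg.Agent.R2.Spec.NA.tau.eq_1]
  try have : _root_.True := by simp only [_root_.Cfsg.Agent.R2.Spec.NA.strong.eq_5]
  try have : _root_.True := by simp only [_root_.Cfsg.Agent.R2.Spec.NA.farj.eq_1]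
  try have : _root_.True := by simp only [_root_.Cfsg.Agent.R2.Spec.NA.strong.eq_3]
  try have : _root_.True := by simp only [_root_.Cfsg.Agent.R2.Spec.NA.zcc.eq_4]
  try have : _root_.True := by simp only [_root_.Cfsg.Agent.R2.Spec.NA.farj.eq_5]
  try have : _root_.True := by simp only [_root_.Cfsg.Agent.R2.Spec.NA.rr.eq_4]
  try have : _root_.True := by simp only [_root_.Cfsg.Agent.R2.Spec.NA.strong.eq_2]
  try have : _root_.True := by simp only [_root_.Cfsg.Agent.R2.Spec.NA.zcc.eq_1]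
  try have : _root_.True := by simp only [_root_.Cfsg.Agent.R2.Spec.NA.rr.eq_1]
  try have : _root_.True := by simp only [_root_.Cfsg.Agent.R2.Spec.NA.strong.eq_1]
  try have : _root_.True := by simp only [_root_.Cfsg.Agent.R2.Spec.NA.farj.eq_3]
  try have : _root_.True := by simp only [_root_.Cfsg.Agent.R2.Spec.NA.zcc.eq_2]
  try have : _root_.True := by simp only [_root_.Cfsg.Agent.R2.Spec.NA.rr.eq_2]
  try have : _root_.True := by simp only [_root_.Cfsg.Agent.R2.Spec.NA.strong.eq_4]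
  try have : _root_.True := by simp only [_root_.Cfsg.Agent.R2.Spec.NA.zcc.eq_3]
  try have : _root_.True := by simp only [_root_.Cfsg.Agent.R2.Spec.NA.rr.eq_3]
  try have : _root_.True := by simp only [_root_.Cfsg.Agent.R2.Spec.NA.tau.eq_3]
  try have : _root_.True := by simp only [_root_.Cfsg.Agent.R2.Spec.NA.lvl.eq_1]
  try have : _root_.True := by simp only [_root_.Cfsg.Agent.R2.Spec.NA.tau.eq_2]
  try have : _root_.True := by simp only [_root_.Cfsg.Agent.R2.Spec.NA.zcc.eq_5]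
  try have : _root_.True := by simp only [_root_.Cfsg.Agent.R2.Spec.NA.farj.eq_4]
  try have : _root_.True := by simp only [_root_.Cfsg.Agent.R2.Spec.NA.tau.eq_4]
  try have : _root_.True := by simp only [_root_.Cfsg.Agent.R2.Spec.NA.farj.eq_2]
  exact _root_.True.intro
end

-- part: R2/Spec/X1/TD/Spec
section
set_option linter.all false

/-!
# The spectrum of `³D₄(q)`, `q` a power of a prime `p ≥ 5`: interface (helper13, S3435; after helper135, S3478)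

* `Par p q` : `p ≥ 5` a prime, `q = p ^ k`;
* `mm q = q ^ 4 - q ^ 2 + 1`;
* `Om p q n` : the number `n` divides one of the listed numbers (a superset of the element orders of `³D₄(q)`).
-/

set_option autoImplicit false

namespace Cfsg.Agent.R2.Spec.X1.TD

structure Par (p q : ℕ) : Prop where
  prime : p.Prime
  h5 : 5 ≤ p
  hk : ∃ k, 1 ≤ k ∧ q = p ^ k

def mm (q : ℕ) : ℕ := q ^ 4 - q ^ 2 + 1

/-- `n` divides one of the listed numbers -/
def Om (p q n : ℕ) : Prop :=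
  n ∣ mm q ∨ n ∣ (q ^ 3 - 1) * (q + 1) ∨ n ∣ (q ^ 3 + 1) * (q - 1) ∨ n ∣ p * (q ^ 3 - 1) ∨ n ∣ p * (q ^ 3 + 1) ∨
    n ∣ p ^ 2

theorem Om.dvd {p q m n : ℕ} (h : Om p q n) (hd : m ∣ n) : Om p q m := by
  rcases h with h | h | h | h | h | h
  · exact Or.inl (hd.trans h)
  · exact Or.inr (Or.inl (hd.trans h))
  · exact Or.inr (Or.inr (Or.inl (hd.trans h)))
  · exact Or.inr (Or.inr (Or.inr (Or.inl (hd.trans h))))
  · exact Or.inr (Or.inr (Or.inr (Or.inr (Or.inl (hd.trans h)))))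
  · exact Or.inr (Or.inr (Or.inr (Or.inr (Or.inr (hd.trans h)))))

namespace Par

variable {p q : ℕ} (h : Par p q)

include h

theorem isPrimePow : IsPrimePow q := by
  obtain ⟨k, hk, rfl⟩ := h.hk
  exact h.prime.isPrimePow.pow (by omega)

theorem p_dvd : p ∣ q := by
  obtain ⟨k, hk, rfl⟩ := h.hk
  exact dvd_pow_self p (by omega)

theorem q5 : 5 ≤ q := by
  obtain ⟨k, hk, rfl⟩ := h.hk
  exact h.h5.trans (Nat.le_self_pow (by omega) p)

theorem hq : 2 < q := by have := h.q5; omega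

theorem p_le : p ≤ q := by
  obtain ⟨k, hk, rfl⟩ := h.hk
  exact Nat.le_self_pow (by omega) p

/-- `q = p` or `p ^ 2 ≤ q` -/
theorem eq_or : q = p ∨ p ^ 2 ≤ q := by
  obtain ⟨k, hk, rfl⟩ := h.hk
  rcases Nat.lt_or_ge k 2 with h1 | h1
  · left
    obtain rfl : k = 1 := by omega
    exact pow_one p
  · right
    exact Nat.pow_le_pow_right (by have := h.h5; omega) h1

theorem q_odd : q % 2 = 1 := by
  obtain ⟨k, hk, rfl⟩ := h.hk
  have h1 : Odd p := h.prime.odd_of_ne_two (by have := h.h5; omega)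
  exact Nat.odd_iff.1 h1.pow

/-- everything in terms of `a = q - 3`, in order to use `ring_nf`/`nlinarith` without subtraction -/
theorem exists_add : ∃ a : ℕ, q = a + 3 := ⟨q - 3, by have := h.q5; omega⟩

end Par

theorem mm_add (a : ℕ) : mm (a + 3) = (a + 3) ^ 2 * ((a + 2) * (a + 4)) + 1 := by
  unfold mm
  have h1 : (a + 3) ^ 4 = (a + 3) ^ 2 * ((a + 2) * (a + 4)) + (a + 3) ^ 2 := by ring
  omega

end Cfsg.Agent.R2.Spec.X1.TD
end
end
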